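import Cfsg.Agent.Lib.GW.Dne.Linear.Values

/-!
# No linear character of `U` invariant under both rotations
-/

set_option autoImplicit false

open scoped Classical

namespace CfsgLib.GW.DLin

open Subgroup DihedralGroup Cfsg CfsgLib.Char CfsgLib.CharDegree
open CfsgLib.TwoGroups CfsgLib.TwoGroups.Dihedral
open scoped ComplexConjugate

universe v

noncomputable local instance (priority := 10000) irrDecEq'' {A : Type v} [Group A] :
    DecidableEq (IrrCharacter A) := fun a b => Classical.propDecidable (a = b)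

/-- The count of a non-trivial linear character is below nine fourteenths. -/
theorem count_lt {s₀ s₁ s : ℤ} {x₀ x₁ x : ℕ} (h0 : s₀ = 1 ∨ s₀ = -1) (h1 : s₁ = 1 ∨ s₁ = -1)
    (hs : s = 1 ∨ s = -1) (hx₀ : 7 ≤ x₀) (hx₁ : 7 ≤ x₁) (hx : 8 ≤ x)
    (hrel : s₀ * (x₀ : ℤ) + s₁ * (x₁ : ℤ) + s * (x : ℤ) = 0) :
    (s₀ : ℚ) / x₀ + (s₁ : ℚ) / x₁ + 4 * (s : ℚ) / x < 9 / 14 := by
  have a0 : (0 : ℚ) < 1 / x₀ := by positivity
  have a1 : (0 : ℚ) < 1 / x₁ := by positivity
  have a : (0 : ℚ) < 4 / x := by positivity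
  have b0 : (1 : ℚ) / x₀ ≤ 1 / 7 := one_div_le_one_div_of_le (by norm_num) (by exact_mod_cast hx₀)
  have b1 : (1 : ℚ) / x₁ ≤ 1 / 7 := one_div_le_one_div_of_le (by norm_num) (by exact_mod_cast hx₁)
  have b : (4 : ℚ) / x ≤ 4 / 8 := div_le_div_of_nonneg_left (by norm_num) (by norm_num) (by exact_mod_cast hx)
  rcases h0 with rfl | rfl <;> rcases h1 with rfl | rfl <;> rcases hs with rfl | rfl <;>
    first
      | omega
      | (push_cast; ring_nf; ring_nf at a0 a1 a b0 b1 b; linarith)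

/-- The count of the trivial character is at least nine fourteenths. -/
theorem count_ge {s₁ s : ℤ} {x₁ x : ℕ} (h1 : s₁ = 1 ∨ s₁ = -1) (hs : s = 1 ∨ s = -1) (hx₁ : 7 ≤ x₁)
    (hrel : 1 + s₁ * (x₁ : ℤ) + s * (x : ℤ) = 0) :
    (9 : ℚ) / 14 ≤ 1 + (s₁ : ℚ) / x₁ + 4 * (s : ℚ) / x := by
  have b1 : (7 : ℚ) ≤ x₁ := by exact_mod_cast hx₁
  rcases h1 with rfl | rfl <;> rcases hs with rfl | rfl
  · omega
  · have hxe : x = x₁ + 1 := by omega
    subst hxe
    push_cast
    have h0 : (0 : ℚ) < x₁ := by linarith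
    rw [show (1 : ℚ) + 1 / (x₁ : ℚ) + 4 * -1 / ((x₁ : ℚ) + 1) =
      ((x₁ : ℚ) - 1) ^ 2 / ((x₁ : ℚ) * ((x₁ : ℚ) + 1)) by field_simp; ring,
      div_le_div_iff₀ (by norm_num) (by positivity)]
    nlinarith [mul_nonneg (sub_nonneg.2 b1) h0.le]
  · have hxe : x₁ = x + 1 := by omega
    subst hxe
    push_cast at b1 ⊢
    have h0 : (0 : ℚ) < x := by linarith
    rw [show (1 : ℚ) + -1 / ((x : ℚ) + 1) + 4 * 1 / (x : ℚ) =
      1 + ((3 * (x : ℚ) + 4) / ((x : ℚ) * ((x : ℚ) + 1))) by field_simp; ring]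
    have : (0 : ℚ) ≤ (3 * (x : ℚ) + 4) / ((x : ℚ) * ((x : ℚ) + 1)) := by positivity
    linarith
  · omega

namespace Ctx

variable {G : Type v} [Group G] [Fintype G] {K : Ctx G} [Fintype (IrrCharacter K.R)]
  [Fintype (IrrCharacter G)]

omit [Fintype (IrrCharacter G)] in
theorem m_triv (η : IrrCharacter K.R) :
    K.m η (trivChar G) = if η = K.good_one.ext then 1 else 0 := by
  refine Nat.cast_injective (R := ℂ) ?_
  rw [← K.m_eq, show (fun x : K.R => ((trivChar G : IrrCharacter G) : G → ℂ) x) = (K.good_one.ext : K.R → ℂ) from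
    funext fun x => rfl, Char.classInner_irr]
  by_cases h : η = K.good_one.ext
  · simp [h]
  · simp [h, Ne.symm h]

theorem sign_cases {l : K.U →* ℂˣ} (hl : K.Good l) {χ : IrrCharacter G} (h : χ ∈ Pattern.supp hl.P) :
    hl.P χ = 1 ∨ hl.P χ = -1 := (hl.fam.cases χ).resolve_left (Pattern.mem_supp.1 h)

/-- A good linear character is trivial when `U` is not abelian. -/
theorem Good.eq_one [IsSimpleGroup G] {l : K.U →* ℂˣ} (hl : K.Good l) (hi : ∀ i, K.Inv i l)
    (hU : ∃ x y : K.U, x * y ≠ y * x) : l = 1 := by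
  by_contra hne
  obtain ⟨j, hj, χ₀, χ₁, e, h01, hT, κ, hκ, hκ0, hκ1, hae⟩ := hl.fam.exists_good
  have h : Three hl j χ₀ χ₁ e := ⟨hj, h01, hT⟩
  -- the trivial character
  have hL : K.good_one.ext ∉ K.cls hl.ext := fun hm => hne (MonoidHom.ext fun y => by
    have := (K.mem_cls.1 hm) (K.inc y) y.2
    rw [Good.ext_apply, Good.ext_apply, K.good_one.ext_inc, hl.ext_inc] at this
    exact (Units.ext this).symm)
  have hDt : hl.D j (trivChar G) = 0 := by
    have h1 : hl.ext ≠ K.good_one.ext := fun q => hL (by rw [← q]; exact K.self_mem_cls _)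
    have h2 : K.tw hl.ext j ≠ K.good_one.ext := fun q => hL (by rw [← q]; exact K.mem_cls.2 (K.same_tw _ j))
    rw [Good.D, d, m_triv, m_triv, if_neg h1, if_neg h2]; rfl
  have hnt : ∀ χ, χ = χ₀ ∨ χ = χ₁ ∨ χ = e → χ ≠ trivChar G := by
    intro χ hχ q
    have hm : χ ∈ Pattern.supp (hl.D j) := by
      rw [hT.supp_eq]; rcases hχ with rfl | rfl | rfl <;> simp
    exact Pattern.mem_supp.1 hm (q ▸ hDt)
  -- the principal family at the same member
  set L := K.good_one.ext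
  have hone : ∀ i ∈ Finset.Ico 1 (2 ^ (K.n - 1)), K.good_one.D i (trivChar G) = 1 := by
    intro i hi
    rw [Good.D, d, m_triv, m_triv, if_pos rfl, if_neg (K.good_one.tw_ne hi).1]; rfl
  have hP1 : K.good_one.P (trivChar G) = 1 := by
    rw [Good.P, d, m_triv, m_triv, if_pos rfl, if_neg (K.opp_ne _)]; rfl
  have ha1 : K.a L (trivChar G) = 1 := by
    rw [a, Finset.sum_eq_single_of_mem L (K.self_mem_cls L) fun η _ hη => by
      rw [m_triv, if_neg hη]; simp, m_triv, if_pos rfl, K.good_one.eps_ext]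
    rfl
  have hxc : (charDegree ((trivChar G : IrrCharacter G) : G → ℂ) : ℤ) = 1 := by
    have h := Blocks.apply_one_eq_charDegree (trivChar G)
    rw [trivChar_apply] at h
    exact_mod_cast h.symm
  obtain ⟨w, e', hcw, hT', haw, hae'⟩ := K.good_one.fam.good_of_one hxc hP1 hone j hj
  have h' : Three K.good_one j (trivChar G) w e' := ⟨hj, hcw, hT'⟩
  -- equal counts
  have hE := h.cubic_eq hi hκ hκ0 hκ1 hae
  rw [K.cubic_lin hl j, h'.cubic_eq K.inv_triv (κ := 1) (Or.inl rfl) (by rw [hP1]; exact ha1) (by rw [one_mul]; exact haw)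
    hae', hP1] at hE
  have hEq := Rat.cast_injective (α := ℂ) hE
  -- degrees
  have hbound : ∀ {χ}, χ = χ₀ ∨ χ = χ₁ ∨ χ = e → (K.a hl.ext χ).natAbs + 6 ≤ charDegree (χ : G → ℂ) :=
    fun {χ} hχ => h.degree_le hi hU hχ (hnt χ hχ)
  have hb0 := hbound (χ := χ₀) (Or.inl rfl)
  have hb1 := hbound (χ := χ₁) (Or.inr (Or.inl rfl))
  have hbe := hbound (χ := e) (Or.inr (Or.inr rfl))
  have hn0 : (K.a hl.ext χ₀).natAbs = 1 := by
    rw [hκ0]; rcases hκ with q | q <;> rcases sign_cases hl h.mem₀ with r | r <;> rw [q, r] <;> rfl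
  have hn1 : (K.a hl.ext χ₁).natAbs = 1 := by
    rw [hκ1]; rcases hκ with q | q <;> rcases sign_cases hl h.mem₁ with r | r <;> rw [q, r] <;> rfl
  have hne2 : (K.a hl.ext e).natAbs = 2 := by
    have h4 : (K.a hl.ext e).natAbs * (K.a hl.ext e).natAbs = 4 := by rw [← Int.natAbs_mul, hae]; rfl
    have hle : (K.a hl.ext e).natAbs ≤ 4 := Nat.le_of_dvd (by norm_num) ⟨_, h4.symm⟩
    interval_cases h5 : (K.a hl.ext e).natAbs <;> simp_all
  have hbw := h'.degree_le K.inv_triv hU (χ := w) (Or.inr (Or.inl rfl)) hcw.symm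
  have hnw : (K.a K.good_one.ext w).natAbs = 1 := by
    rw [haw]; rcases sign_cases K.good_one h'.mem₁ with r | r <;> rw [r] <;> rfl
  have hrel' := h'.degree_rel
  rw [hP1, hxc, one_mul] at hrel'
  have hlt := count_lt (sign_cases hl h.mem₀) (sign_cases hl h.mem₁) hT.De (by omega) (by omega) (by omega)
    h.degree_rel
  have hge := count_ge (sign_cases K.good_one h'.mem₁) hT'.De (by omega) hrel'
  rw [← hEq] at hlt
  have hx1 : (charDegree ((trivChar G : IrrCharacter G) : G → ℂ) : ℚ) = 1 := by exact_mod_cast hxc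
  rw [hx1, Int.cast_one, div_one] at hlt
  exact absurd hlt (not_lt.2 hge)

end Ctx

end CfsgLib.GW.DLin
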