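import Cfsg.Agent.Lib.GW.Dne.Linear.TriFamily
import Cfsg.Agent.Lib.GW.Dne.Linear.Inv

/-!
# No linear character invariant for one class only (Sylow 2-subgroups of order eight)
-/

set_option autoImplicit false

open scoped Classical

namespace CfsgLib.GW.DLin

open Subgroup DihedralGroup Cfsg CfsgLib.Char CfsgLib.CharDegree
open CfsgLib.TwoGroups CfsgLib.TwoGroups.Dihedral
open scoped ComplexConjugate

universe v

noncomputable local instance (priority := 10000) irrDecEq₆ {A : Type v} [Group A] :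
    DecidableEq (IrrCharacter A) := fun a b => Classical.propDecidable (a = b)

/-- The principal count exceeds the count of the moved character. -/
theorem tri_count {s p₀ p₁ q pw pu pv : ℤ} {x₀ x₁ xe w u v : ℕ} (hs : s = 1 ∨ s = -1)
    (h0 : p₀ = 1 ∨ p₀ = -1) (h1 : p₁ = 1 ∨ p₁ = -1) (hq : q = 1 ∨ q = -1) (hw : pw = 1 ∨ pw = -1)
    (hu : pu = 1 ∨ pu = -1) (hv : pv = 1 ∨ pv = -1) (bx₀ : 15 ≤ x₀) (bx₁ : 15 ≤ x₁) (bxe : 12 ≤ xe)
    (bw : 13 ≤ w) (bu : 13 ≤ u) (bv : 13 ≤ v)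
    (hrel : p₀ * (x₀ : ℤ) + p₁ * x₁ + q * xe = 0)
    (hrel' : 1 + pw * (w : ℤ) + pu * u + pv * v = 0)
    (heq : 8 * (s : ℚ) * ((p₀ : ℚ) / x₀ - (p₁ : ℚ) / x₁) =
      1 + (pw : ℚ) / w + (pu : ℚ) / u + (pv : ℚ) / v) : False := by
  have inv_le : ∀ {n k : ℕ}, 0 < k → k ≤ n → (0 : ℚ) < 1 / (n : ℚ) ∧ (1 : ℚ) / (n : ℚ) ≤ 1 / (k : ℚ) :=
    fun {n k} hk h => ⟨by have : 0 < n := hk.trans_le h; positivity,
      one_div_le_one_div_of_le (by exact_mod_cast hk) (by exact_mod_cast h)⟩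
  obtain ⟨a0, b0⟩ := inv_le (by norm_num) bx₀
  obtain ⟨a1, b1⟩ := inv_le (by norm_num) bx₁
  obtain ⟨aw, bw'⟩ := inv_le (by norm_num) bw
  obtain ⟨au, bu'⟩ := inv_le (by norm_num) bu
  obtain ⟨av, bv'⟩ := inv_le (by norm_num) bv
  have hR : (11 : ℚ) / 13 ≤ 1 + (pw : ℚ) / w + (pu : ℚ) / u + (pv : ℚ) / v := by
    push_cast at bw' bu' bv'
    rcases hw with rfl | rfl <;> rcases hu with rfl | rfl <;> rcases hv with rfl | rfl <;>
      first
        | omega
        | (push_cast; ring_nf; ring_nf at aw au av bw' bu' bv'; linarith)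
  have hL : 8 * (s : ℚ) * ((p₀ : ℚ) / x₀ - (p₁ : ℚ) / x₁) ≤ 112 / 135 := by
    push_cast at b0 b1
    have hmax : ¬ p₀ = p₁ → (1 : ℚ) / x₀ + 1 / x₁ ≤ 1 / 15 + 1 / 27 := by
      intro hne
      rcases le_or_gt 27 x₀ with h27 | h27
      · obtain ⟨-, b⟩ := inv_le (by norm_num) h27
        push_cast at b
        linarith
      · obtain ⟨-, b⟩ := inv_le (k := 27) (n := x₁) (by norm_num) (by
          rcases h0 with rfl | rfl <;> rcases h1 with rfl | rfl <;> rcases hq with rfl | rfl <;>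
            first | omega | exact absurd rfl hne)
        push_cast at b
        linarith
    rcases h0 with rfl | rfl <;> rcases h1 with rfl | rfl <;> rcases hs with rfl | rfl <;>
      push_cast <;> ring_nf <;> ring_nf at a0 a1 b0 b1 hmax <;>
      first
        | linarith
        | linarith [hmax (by norm_num)]
  linarith

namespace Ctx

variable {G : Type v} [Group G] [Fintype G] {K : Ctx G} [Fintype (IrrCharacter K.R)]
  [Fintype (IrrCharacter G)] {l l₁ : K.U →* ℂˣ}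

omit [Fintype (IrrCharacter G)] in
/-- The degree from the class of `l`, another class of small degree and a large class. -/
theorem degree_ge [IsSimpleGroup G] (hU : ∃ x y : K.U, x * y ≠ y * x) {χ : IrrCharacter G}
    (hχ : χ ≠ trivChar G) (S : Finset (IrrCharacter K.R))
    (hS : ∀ η ∈ S, charDegree (η : K.R → ℂ) ≤ 2) {k : ℕ}
    (hk : k ≤ ∑ η ∈ S, K.m η χ * charDegree (η : K.R → ℂ))
    (h : ∀ ξ, (∀ η ∈ K.cls ξ, 3 ≤ charDegree (η : K.R → ℂ)) →
      (∀ η ∈ K.cls ξ, K.m η χ = K.m ξ χ) ∨ (¬ K.Same (K.bar ξ) ξ ∧ K.tw ξ 2 = ξ)) :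
    k + 3 * 2 ^ K.n ≤ charDegree (χ : G → ℂ) := by
  obtain ⟨ξ, hm, hbig, h3⟩ := K.exists_big hU hχ
  have hB := K.big_le hm hbig (h ξ h3)
  rw [K.charDegree_eq_sum χ]
  have hdisj : Disjoint S (K.cls ξ ∪ {ξ, K.bar ξ}) := by
    refine Finset.disjoint_left.2 fun η hη hη' => ?_
    have := hS η hη
    have h3ξ := h3 ξ (K.self_mem_cls ξ)
    simp only [Finset.mem_union, Finset.mem_insert, Finset.mem_singleton] at hη'
    rcases hη' with q | rfl | rfl
    · have := h3 η q; omega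
    · omega
    · rw [K.charDegree_bar] at this; omega
  calc k + 3 * 2 ^ K.n ≤ ∑ η ∈ S, K.m η χ * charDegree (η : K.R → ℂ) +
        ∑ η ∈ K.cls ξ ∪ {ξ, K.bar ξ}, K.m η χ * charDegree (η : K.R → ℂ) := add_le_add hk hB
    _ = ∑ η ∈ S ∪ (K.cls ξ ∪ {ξ, K.bar ξ}), K.m η χ * charDegree (η : K.R → ℂ) :=
        (Finset.sum_union hdisj).symm
    _ ≤ _ := Finset.sum_le_sum_of_subset (Finset.subset_univ _)

theorem Good.sum_deg_one (hl : K.Good l) {χ : IrrCharacter G} (hχ : χ ∈ Pattern.supp hl.P) :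
    (∀ η ∈ K.cls hl.ext, charDegree (η : K.R → ℂ) = 1) ∧
      1 ≤ ∑ η ∈ K.cls hl.ext, K.m η χ * charDegree (η : K.R → ℂ) := by
  have h1 : ∀ η ∈ K.cls hl.ext, charDegree (η : K.R → ℂ) = 1 := fun η hη =>
    Nat.cast_injective (R := ℂ) (by rw [← Blocks.apply_one_eq_charDegree, hl.ext_one hη, Nat.cast_one])
  refine ⟨h1, ?_⟩
  rw [Finset.sum_congr rfl fun η hη => by rw [h1 η hη, mul_one]]
  refine Nat.pos_of_ne_zero fun q => hl.odd_of_mem_supp hχ ?_
  have h0 : (K.a hl.ext χ : ZMod 2) = 0 := by rw [← K.cast_a_eq_sum, q, Nat.cast_zero]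
  exact_mod_cast (ZMod.intCast_zmod_eq_zero_iff_dvd _ 2).1 h0

/-- No linear character invariant for one class only. -/
theorem Tri.false [IsSimpleGroup G] (h : K.Tri l l₁) (hU : ∃ x y : K.U, x * y ≠ y * x) : False := by
  set hl := h.good with hhl
  obtain ⟨η₀, hη, χ₀, χ₁, χ₂, χ₃, e, r, F⟩ := h.exists_fam
  have hn3 : 3 * 2 ^ K.n = 12 := by rw [h.n_eq]; norm_num
  have hne1 : l ≠ 1 := fun q => h.move fun x y _ _ => by simp [q]
  have hL : K.good_one.ext ∉ K.cls hl.ext := fun hm => hne1 (MonoidHom.ext fun y => by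
    have := (K.mem_cls.1 hm) (K.inc y) y.2
    rw [Good.ext_apply, Good.ext_apply, K.good_one.ext_inc, hl.ext_inc] at this
    exact (Units.ext this).symm)
  have htriv : ∀ η ∈ K.cls hl.ext, K.m η (trivChar G) = 0 := fun η hη' => by
    rw [m_triv, if_neg fun (q : η = K.good_one.ext) => hL (by rw [← q]; exact hη')]
  have hnt : ∀ χ ∈ insert e (Pattern.supp hl.P), χ ≠ trivChar G := by
    intro χ hχ q
    have h1 := htriv hl.ext (K.self_mem_cls _)
    have h2 : ∀ j, K.m (K.tw hl.ext j) (trivChar G) = 0 := fun j => htriv _ (K.mem_cls.2 (K.same_tw _ j))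
    subst q
    rcases Finset.mem_insert.1 hχ with q | hχ
    · rcases F.three.tri.De with q' | q' <;>
        rw [← q, Good.D, d, h1, h2] at q' <;> norm_num at q'
    · rw [Pattern.mem_supp] at hχ
      apply hχ
      rw [Good.P, d, hl.opp_ext, h1, h2]; rfl
  -- degrees
  have hdeg : ∀ χ ∈ Pattern.supp hl.P, 15 ≤ charDegree (χ : G → ℂ) := by
    intro χ hχ
    obtain ⟨h1, h1'⟩ := hl.sum_deg_one hχ
    obtain ⟨M, hM, hMo⟩ := h.odd_l₁ hχ
    rw [sum_m_lin_eq hη.inner₁, Nat.cast_inj] at hM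
    have h2 : 2 ≤ ∑ η ∈ K.cls η₀, K.m η χ * charDegree (η : K.R → ℂ) := by
      rw [Finset.sum_congr rfl fun η hη' => by rw [hη.deg η hη'], ← Finset.sum_mul, hM]
      have := hMo.pos
      omega
    have hdisj : Disjoint (K.cls hl.ext) (K.cls η₀) := Finset.disjoint_left.2 fun η hη' hη'' => by
      have := h1 η hη'; have := hη.deg η hη''; omega
    refine le_trans (by rw [hn3]) (degree_ge hU (hnt χ (Finset.mem_insert_of_mem hχ))
      (K.cls hl.ext ∪ K.cls η₀) (fun η hη' => ?_) (k := 3) ?_ fun ξ hξ => Or.inl ?_)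
    · rcases Finset.mem_union.1 hη' with q | q
      · rw [h1 η q]; norm_num
      · rw [hη.deg η q]
    · rw [Finset.sum_union hdisj]; omega
    · refine (const_of_d (F.other ξ (fun hm => ?_) (fun hm => ?_) χ (Finset.mem_insert_of_mem hχ))).1
      · have := h1 ξ hm; have := hξ ξ (K.self_mem_cls ξ); omega
      · have := hη.deg ξ hm; have := hξ ξ (K.self_mem_cls ξ); omega
  have hdege : 12 ≤ charDegree (e : G → ℂ) := by
    refine le_trans (by rw [hn3]) (degree_ge hU (hnt e (Finset.mem_insert_self _ _)) ∅ (by simp) (k := 0)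
      (Nat.zero_le _) fun ξ hξ => Or.inl ?_)
    refine (const_of_d (F.other ξ (fun hm => ?_) (fun hm => ?_) e (Finset.mem_insert_self _ _))).1
    · have h1 := hl.ext_one hm
      rw [Blocks.apply_one_eq_charDegree, Nat.cast_eq_one] at h1
      have := hξ ξ (K.self_mem_cls ξ); omega
    · have := hη.deg ξ hm; have := hξ ξ (K.self_mem_cls ξ); omega
  -- values
  have hval : ∀ χ ∈ insert e (Pattern.supp hl.P), (χ : G → ℂ) K.t =
      ((-hl.P χ + 2 * hl.D 1 χ + 2 * (K.eps η₀ * K.d η₀ (K.opp η₀) χ) : ℤ) : ℂ) := by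
    intro χ hχ
    rw [hl.apply_t, h.a_one, Q_eq hl, Finset.sum_eq_single_of_mem (K.resR η₀)
      (Finset.mem_image_of_mem _ (Finset.mem_sdiff.2 ⟨Finset.mem_univ _, hη.notMem_ext hl⟩)) fun c hc hne => ?_,
      fibre_eq hl (hη.notMem_ext hl), resR_one, hη.deg η₀ (K.self_mem_cls η₀), hη.a_eq]
    · push_cast; ring
    · obtain ⟨ξ, hξ, rfl⟩ := Finset.mem_image.1 hc
      have hξl := (Finset.mem_sdiff.1 hξ).2
      rw [fibre_eq hl hξl, (const_of_d (F.other ξ hξl (fun hm => hne (K.classInner_resR_eq (K.mem_cls.1 hm))) χ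
        hχ)).2, Int.cast_zero, mul_zero]
  set s : ℤ := K.eps η₀ * r with hs
  have hs1 : s = 1 ∨ s = -1 := by
    rcases K.eps_cases η₀ with q | q <;> rcases F.sign with q' | q' <;> rw [hs, q, q'] <;> norm_num
  have mem2 : χ₂ ∈ Pattern.supp hl.P := by rw [F.supp_eq]; simp
  have mem3 : χ₃ ∈ Pattern.supp hl.P := by rw [F.supp_eq]; simp
  have m0 := F.three.mem₀
  have m1 := F.three.mem₁
  have v0 : (χ₀ : G → ℂ) K.t = ((hl.P χ₀ * (1 + 2 * s) : ℤ) : ℂ) := by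
    rw [hval χ₀ (Finset.mem_insert_of_mem m0), F.three.tri.eqP χ₀ (by simp), F.R₀, hs]; congr 1; ring
  have v1 : (χ₁ : G → ℂ) K.t = ((hl.P χ₁ * (1 - 2 * s) : ℤ) : ℂ) := by
    rw [hval χ₁ (Finset.mem_insert_of_mem m1), F.three.tri.eqP χ₁ (by simp), F.R₁, hs]; congr 1; ring
  have v2 : (χ₂ : G → ℂ) K.t = ((hl.P χ₀ * (1 - 2 * s) : ℤ) : ℂ) := by
    rw [hval χ₂ (Finset.mem_insert_of_mem mem2), F.D₂, F.R₂, F.P₂, hs]; congr 1; ring
  have v3 : (χ₃ : G → ℂ) K.t = ((hl.P χ₁ * (1 + 2 * s) : ℤ) : ℂ) := by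
    rw [hval χ₃ (Finset.mem_insert_of_mem mem3), F.D₃, F.R₃, F.P₃, hs]; congr 1; ring
  have hsq : ∀ {c : IrrCharacter G}, c ∈ Pattern.supp hl.P → (hl.P c : ℂ) ^ 2 = 1 := fun {c} hc => by
    rcases sign_cases hl hc with q | q <;> rw [q] <;> norm_num
  have hcub : K.cubic hl.ext (K.tw hl.ext (2 ^ (K.n - 1))) =
      ((8 * (s : ℚ) * ((hl.P χ₀ : ℚ) / (charDegree (χ₀ : G → ℂ) : ℚ) -
        (hl.P χ₁ : ℚ) / (charDegree (χ₁ : G → ℂ) : ℚ)) : ℚ) : ℂ) := by
    have hs2 : (s : ℂ) ^ 2 = 1 := by rcases hs1 with q | q <;> rw [q] <;> norm_num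
    rw [cubic, ← hl.opp_ext, ← Finset.sum_subset (Finset.subset_univ (Pattern.supp hl.P))
      fun c _ hc => by
        rw [Pattern.mem_supp, not_not] at hc
        rw [show K.d hl.ext (K.opp hl.ext) c = 0 from hc]; simp,
      F.supp_eq, Finset.sum_insert (by simp [F.three.ne, F.ne02, F.ne03]),
      Finset.sum_insert (by simp [F.ne12, F.ne13]), Finset.sum_pair F.ne23, v0, v1, v2, v3]
    simp only [show ∀ c, K.d hl.ext (K.opp hl.ext) c = hl.P c from fun _ => rfl, F.P₂, F.P₃, F.deg₂, F.deg₃]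
    push_cast
    rw [mul_pow, mul_pow, mul_pow, mul_pow, hsq m0, hsq m1]
    ring
  -- the principal side
  have hj : 1 ∈ Finset.Ico 1 (2 ^ (K.n - 1)) := by rw [h.Ico_eq]; exact Finset.mem_singleton_self 1
  set g := K.good_one with hg
  set T := trivChar G
  set L := g.ext
  have hone : ∀ i ∈ Finset.Ico 1 (2 ^ (K.n - 1)), g.D i T = 1 := by
    intro i hi
    rw [Good.D, d, m_triv, m_triv, if_pos rfl, if_neg (g.tw_ne hi).1]; rfl
  have hP1 : g.P T = 1 := by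
    rw [Good.P, d, m_triv, m_triv, if_pos rfl, if_neg (K.opp_ne _)]; rfl
  have hxc : (charDegree ((T : IrrCharacter G) : G → ℂ) : ℤ) = 1 := by
    have h := Blocks.apply_one_eq_charDegree T
    rw [trivChar_apply] at h
    exact_mod_cast h.symm
  obtain ⟨w, e', hcw, hT', -, -⟩ := g.fam.good_of_one hxc hP1 hone 1 hj
  have h' : Three g 1 T w e' := ⟨hj, hcw, hT'⟩
  have hcard4 : (Pattern.supp g.P).card = 4 := by
    have := Pattern.card_supp g.fam.cases
    rw [g.fam.normP] at this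
    exact_mod_cast this
  have hsub : ({T, w} : Finset _) ⊆ Pattern.supp g.P := hT'.sub
  obtain ⟨u, v, huv, hX⟩ := Finset.card_eq_two.1 (show (Pattern.supp g.P \ {T, w}).card = 2 by
    rw [Finset.card_sdiff_of_subset hsub, hcard4, Finset.card_pair hcw])
  have hmem : ∀ {c}, c = u ∨ c = v → c ∈ Pattern.supp g.P ∧ c ≠ T ∧ c ≠ w ∧ g.D 1 c = 0 := fun {c} hc => by
    have h1 : c ∈ Pattern.supp g.P \ {T, w} := by rw [hX]; simpa using hc
    obtain ⟨h1, h2⟩ := Finset.mem_sdiff.1 h1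
    simp only [Finset.mem_insert, Finset.mem_singleton, not_or] at h2
    exact ⟨h1, h2.1, h2.2, hT'.zero (by simp [h2.1, h2.2]) fun q => Pattern.mem_supp.1 h1 (q ▸ hT'.out)⟩
  obtain ⟨mu, -, -, Du⟩ := hmem (Or.inl rfl : u = u ∨ u = v)
  obtain ⟨mv, -, -, Dv⟩ := hmem (Or.inr rfl : v = u ∨ v = v)
  have mw : w ∈ Pattern.supp g.P := h'.mem₁
  have hnotL : ∀ {ξ η : IrrCharacter K.R}, ξ ∉ K.cls L → η ∈ K.cls ξ → η ∉ K.cls L := fun {ξ η} hξ hη' hm =>
    hξ (by rw [← K.cls_eq hm, K.cls_eq hη']; exact K.self_mem_cls ξ)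
  have hwconst : ∀ ξ, ξ ∉ K.cls L → ∀ η ∈ K.cls ξ, K.d ξ η w = 0 := by
    intro ξ hξ η hη'
    by_cases hb : K.Same (K.bar ξ) ξ
    · exact (g.stable_a K.inv_triv hξ hb w mw).2 ξ (K.self_mem_cls ξ) η hη'
    · have h2 := (h'.moved hξ hb hη').2.1
      rw [d, m_triv, m_triv, if_neg fun q => hξ (by rw [q]; exact K.self_mem_cls _),
        if_neg fun q => hnotL hξ hη' (by rw [q]; exact K.self_mem_cls _)] at h2
      simpa using h2
  have hpart : ∀ {c c' : IrrCharacter G}, (c = u ∧ c' = v) ∨ (c = v ∧ c' = u) → ∀ ξ η, ξ ∉ K.cls L →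
      ¬ K.Same (K.bar ξ) ξ → η ∈ K.cls ξ → K.d ξ η c ≠ 0 →
      Pattern.supp (fun z => K.d ξ η z) = {c, c'} ∧ K.d ξ η c' = -K.d ξ η c ∧ g.P c' = g.P c ∧
        charDegree (c : G → ℂ) = charDegree (c' : G → ℂ) := by
    intro c c' hcc ξ η hξ hb hη' h0
    obtain ⟨z, hzc, hsz, hdz, hxz, hv⟩ := moved_supp hb hη' h0
    have eP : g.P z = g.P c := hv _ (g.sum_cross hξ (hnotL hξ hη') (K.opp_mem L))
    have eD : g.D 1 z = g.D 1 c := hv _ (g.sum_cross hξ (hnotL hξ hη') (K.mem_cls.2 (K.same_tw _ 1)))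
    obtain ⟨hc, -, -, hDc⟩ := hmem (c := c) (by tauto)
    have hz : z ∈ Pattern.supp g.P := Pattern.mem_supp.2 (eP ▸ Pattern.mem_supp.1 hc)
    have hzn : z ∉ ({T, w} : Finset _) := fun hm => by
      have h1 := hT'.eqP z hm
      rw [eD, hDc] at h1
      exact Pattern.mem_supp.1 hz h1.symm
    have hz2 : z ∈ Pattern.supp g.P \ {T, w} := Finset.mem_sdiff.2 ⟨hz, hzn⟩
    rw [hX, Finset.mem_insert, Finset.mem_singleton] at hz2
    have hzc' : z = c' := by rcases hcc with ⟨rfl, rfl⟩ | ⟨rfl, rfl⟩ <;> tauto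
    subst hzc'
    exact ⟨hsz, hdz, eP, hxz⟩
  have hsumuv : ∀ ξ, ξ ∉ K.cls L → ¬ K.Same (K.bar ξ) ξ → ∀ η ∈ K.cls ξ, K.d ξ η u + K.d ξ η v = 0 := by
    intro ξ hξ hb η hη'
    by_cases h0 : K.d ξ η u = 0
    · by_contra h1
      rw [h0, zero_add] at h1
      have := (hpart (Or.inr ⟨rfl, rfl⟩) ξ η hξ hb hη' h1).2.1
      omega
    · linarith [(hpart (Or.inl ⟨rfl, rfl⟩) ξ η hξ hb hη' h0).2.1]
  have hdich : ∀ {c c' : IrrCharacter G}, (c = u ∧ c' = v) ∨ (c = v ∧ c' = u) → ∀ ξ, ξ ∉ K.cls L →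
      (∀ η ∈ K.cls ξ, K.d ξ η c = 0) ∨ (¬ K.Same (K.bar ξ) ξ ∧ K.tw ξ 2 = ξ ∧
        Pattern.supp (fun z => K.d ξ (K.tw ξ 1) z) = {c, c'} ∧ g.P c' = g.P c ∧
          charDegree (c : G → ℂ) = charDegree (c' : G → ℂ)) := by
    intro c c' hcc ξ hξ
    obtain ⟨hc, -, -, -⟩ := hmem (c := c) (by tauto)
    by_cases hb : K.Same (K.bar ξ) ξ
    · exact Or.inl fun η hη' => (g.stable_a K.inv_triv hξ hb c hc).2 ξ (K.self_mem_cls ξ) η hη'
    by_cases hall : ∀ η ∈ K.cls ξ, K.d ξ η c = 0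
    · exact Or.inl hall
    push Not at hall
    obtain ⟨η, hη', h0⟩ := hall
    obtain ⟨hsz, -, eP, hx⟩ := hpart hcc ξ η hξ hb hη' h0
    have hne : c ≠ c' := by rcases hcc with ⟨rfl, rfl⟩ | ⟨rfl, rfl⟩; exacts [huv, huv.symm]
    obtain ⟨h2, rfl⟩ := moved_two hb hη' hne h0 (fun η' hη'' => by
      have := hsumuv ξ hξ hb η' hη''
      rcases hcc with ⟨rfl, rfl⟩ | ⟨rfl, rfl⟩ <;> linarith) hsz
    exact Or.inr ⟨hb, h2, hsz, eP, hx⟩
  -- principal degrees
  have hdegL : ∀ c ∈ Pattern.supp g.P, c ≠ T → 13 ≤ charDegree (c : G → ℂ) := by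
    intro c hc hcT
    obtain ⟨h1, h1'⟩ := g.sum_deg_one hc
    refine le_trans (by rw [hn3]) (degree_ge hU hcT (K.cls L) (fun η hη' => by rw [h1 η hη']; norm_num)
      (k := 1) h1' fun ξ hξ => ?_)
    have hξL : ξ ∉ K.cls L := fun hm => by have := h1 ξ hm; have := hξ ξ (K.self_mem_cls ξ); omega
    have hc2 : c = w ∨ c = u ∨ c = v := by
      rw [← Finset.union_sdiff_of_subset hsub, hX] at hc
      simp only [Finset.mem_union, Finset.mem_insert, Finset.mem_singleton] at hc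
      tauto
    rcases hc2 with rfl | rfl | rfl
    · exact Or.inl (const_of_d (hwconst ξ hξL)).1
    · rcases hdich (Or.inl ⟨rfl, rfl⟩) ξ hξL with q | q
      exacts [Or.inl (const_of_d q).1, Or.inr ⟨q.1, q.2.1⟩]
    · rcases hdich (Or.inr ⟨rfl, rfl⟩) ξ hξL with q | q
      exacts [Or.inl (const_of_d q).1, Or.inr ⟨q.1, q.2.1⟩]
  -- principal values
  have ha : ∀ c, (K.a L c : ℤ) = -g.P c + 2 * g.D 1 c := fun c => by
    rw [g.a_eq, h.Ico_eq, Finset.sum_singleton]; ring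
  have hQ : ∀ {c}, (∀ ξ, ξ ∉ K.cls L → K.a ξ c = 0) → Q K L c = 0 := fun {c} h0 => by
    rw [Q_eq g]
    refine Finset.sum_eq_zero fun x hx => ?_
    obtain ⟨ξ, hξ, rfl⟩ := Finset.mem_image.1 hx
    rw [fibre_eq g (Finset.mem_sdiff.1 hξ).2, h0 _ (Finset.mem_sdiff.1 hξ).2, Int.cast_zero, mul_zero]
  have hQuv : Q K L u + Q K L v = 0 := by
    rw [Q_eq g, Q_eq g, ← Finset.sum_add_distrib]
    refine Finset.sum_eq_zero fun x hx => ?_
    obtain ⟨ξ, hξ, rfl⟩ := Finset.mem_image.1 hx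
    have hξL := (Finset.mem_sdiff.1 hξ).2
    rw [fibre_eq g hξL, fibre_eq g hξL, ← mul_add, ← Int.cast_add]
    refine mul_eq_zero_of_right _ (Int.cast_eq_zero.2 ?_)
    rw [K.a_eq_sum_d ξ (η₀ := ξ), K.a_eq_sum_d ξ (η₀ := ξ), ← neg_add, neg_eq_zero, ← Finset.sum_add_distrib]
    refine Finset.sum_eq_zero fun η hη' => ?_
    rw [← mul_add]
    refine mul_eq_zero_of_right _ ?_
    by_cases hb : K.Same (K.bar ξ) ξ
    · rw [(g.stable_a K.inv_triv hξL hb u mu).2 ξ (K.self_mem_cls ξ) η hη',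
        (g.stable_a K.inv_triv hξL hb v mv).2 ξ (K.self_mem_cls ξ) η hη', add_zero]
    · exact hsumuv ξ hξL hb η hη'
  have tu : (u : G → ℂ) K.t = -(g.P u : ℂ) + Q K L u := by
    rw [g.apply_t, ha, Du]; push_cast; ring
  have tv : (v : G → ℂ) K.t = -(g.P v : ℂ) - Q K L u := by
    rw [g.apply_t, ha, Dv, show Q K g.ext v = -Q K L u from eq_neg_of_add_eq_zero_right hQuv]; push_cast; ring
  have hQu : Q K L u = 0 := by
    by_contra hne
    obtain ⟨ξ, hξ, hne'⟩ : ∃ ξ, ξ ∉ K.cls L ∧ K.a ξ u ≠ 0 := by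
      by_contra hc
      push Not at hc
      exact hne (hQ hc)
    rcases hdich (Or.inl ⟨rfl, rfl⟩) ξ hξ with q | ⟨hb, hp, hsz, eP, hx⟩
    · exact hne' (const_of_d q).2
    have hc := K.cubic_moved hb hp
    rw [cubic, ← Finset.sum_subset (Finset.subset_univ (Pattern.supp fun z => K.d ξ (K.tw ξ 1) z))
      fun z _ hz => by rw [Pattern.mem_supp, not_not] at hz; rw [hz]; simp, hsz, Finset.sum_pair huv] at hc
    have hd1 : K.d ξ (K.tw ξ 1) v = -K.d ξ (K.tw ξ 1) u := by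
      linarith [hsumuv ξ hξ hb _ (K.mem_cls.2 (K.same_tw ξ 1))]
    have hd0 : (K.d ξ (K.tw ξ 1) u : ℂ) ≠ 0 := by
      have hm : u ∈ Pattern.supp fun z => K.d ξ (K.tw ξ 1) z := by rw [hsz]; simp
      exact_mod_cast Pattern.mem_supp.1 hm
    have hxc' : (charDegree (u : G → ℂ) : ℂ) ≠ 0 := Nat.cast_ne_zero.2 (charDegree_pos u).ne'
    rw [tu, tv, eP, hd1, ← hx] at hc
    push_cast at hc
    field_simp at hc
    have h4 : (K.d ξ (K.tw ξ 1) u : ℂ) * ((g.P u : ℂ) * Q K L u) = 0 := by linear_combination (-1 / 4 : ℂ) * hc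
    exact hne ((mul_eq_zero.1 ((mul_eq_zero.1 h4).resolve_left hd0)).resolve_left
      (Int.cast_ne_zero.2 (Pattern.mem_supp.1 mu)))
  have tT : (T : G → ℂ) K.t = 1 := trivChar_apply _
  have tw' : (w : G → ℂ) K.t = (g.P w : ℂ) := by
    rw [g.apply_t, ha, hQ fun ξ hξ => (const_of_d (hwconst ξ hξ)).2, hT'.eqP w (by simp)]; push_cast; ring
  have hseq : Pattern.supp g.P = {T, w, u, v} := by
    rw [← Finset.union_sdiff_of_subset hsub, hX]
    ext c; simp; tauto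
  have hsqg : ∀ {c : IrrCharacter G}, c ∈ Pattern.supp g.P → (g.P c : ℂ) ^ 2 = 1 := fun {c} hc => by
    rcases sign_cases g hc with q | q <;> rw [q] <;> norm_num
  obtain ⟨-, uT, uw, -⟩ := hmem (Or.inl rfl : u = u ∨ u = v)
  obtain ⟨-, vT, vw, -⟩ := hmem (Or.inr rfl : v = u ∨ v = v)
  have hxcC : (charDegree ((T : IrrCharacter G) : G → ℂ) : ℂ) = 1 := by exact_mod_cast hxc
  have hcub' : K.cubic L (K.tw L (2 ^ (K.n - 1))) =
      ((1 + (g.P w : ℚ) / (charDegree (w : G → ℂ) : ℚ) + (g.P u : ℚ) / (charDegree (u : G → ℂ) : ℚ) +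
        (g.P v : ℚ) / (charDegree (v : G → ℂ) : ℚ) : ℚ) : ℂ) := by
    rw [cubic, ← g.opp_ext, ← Finset.sum_subset (Finset.subset_univ (Pattern.supp g.P))
      fun c _ hc => by
        rw [Pattern.mem_supp, not_not] at hc
        rw [show K.d L (K.opp L) c = 0 from hc]; simp,
      hseq, Finset.sum_insert (by simp [hcw, uT.symm, vT.symm]),
      Finset.sum_insert (by simp [uw.symm, vw.symm]), Finset.sum_pair huv, tT, tw', tu, tv, hQu]
    simp only [show ∀ c, K.d L (K.opp g.ext) c = g.P c from fun _ => rfl, add_zero, sub_zero, neg_sq, hP1,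
      hsqg mw, hsqg mu, hsqg mv, hxcC]
    push_cast
    ring
  have hE := hcub.symm.trans ((K.cubic_lin hl _).trans hcub')
  have hEq := Rat.cast_injective (α := ℂ) hE
  have hrel := F.three.degree_rel
  have hrel' : 1 + g.P w * (charDegree (w : G → ℂ) : ℤ) + g.P u * (charDegree (u : G → ℂ) : ℤ) +
      g.P v * (charDegree (v : G → ℂ) : ℤ) = 0 := by
    have hd := g.fam.degP
    rw [← Finset.sum_subset (Finset.subset_univ (Pattern.supp g.P)) fun c _ hc => by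
        rw [Pattern.mem_supp, not_not] at hc; rw [hc, mul_zero],
      hseq, Finset.sum_insert (by simp [hcw, uT.symm, vT.symm]),
      Finset.sum_insert (by simp [uw.symm, vw.symm]), Finset.sum_pair huv, hP1, hxc] at hd
    linear_combination hd
  exact tri_count hs1 (sign_cases hl m0) (sign_cases hl m1) F.three.tri.De (sign_cases g mw)
    (sign_cases g mu) (sign_cases g mv) (hdeg _ m0) (hdeg _ m1) hdege (hdegL w mw hcw.symm)
    (hdegL u mu uT) (hdegL v mv vT) hrel hrel' hEq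

end Ctx

end CfsgLib.GW.DLin
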