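import Cfsg.Agent.Lib.GW.Dne.Linear.Parity
import Mathlib.RingTheory.IntegralDomain

/-!
# Constituents on `U` of a class fixed by the reflection, and the class of a linear character
-/

set_option autoImplicit false

open scoped Classical

namespace CfsgLib.GW.DLin

open Subgroup DihedralGroup Cfsg CfsgLib.Char CfsgLib.CharDegree
open CfsgLib.TwoGroups CfsgLib.TwoGroups.Dihedral
open scoped ComplexConjugate
open CfsgLib.Signalizer (involution_sq involution_inv involution_ne_one orderOf_conj)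

universe v

namespace Ctx

variable {G : Type v} [Group G] [Fintype G] (K : Ctx G)

/-- `U` as the kernel of `nu`. -/
noncomputable def kerEquiv : K.nu.ker ≃* K.U where
  toFun x := ⟨(x : K.R), (K.nu_eq_one_iff x).1 x.2⟩
  invFun y := ⟨K.inc y, (K.nu_eq_one_iff _).2 y.2⟩
  left_inv _ := rfl
  right_inv _ := rfl
  map_mul' _ _ := rfl

theorem inc_kerEquiv (x : K.nu.ker) : K.inc (K.kerEquiv x) = (x : K.R) := rfl

/-- The restriction to `U` of a character of `R`. -/
def resR (η : IrrCharacter K.R) : K.U → ℂ := fun y => (η : K.R → ℂ) (K.inc y)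

theorem classInner_resR_eq {η η' : IrrCharacter K.R} (h : K.Same η η') : K.resR η = K.resR η' :=
  funext fun y => h _ y.2

/-- Constituents are shared only inside a class. -/
theorem same_of_common {η η' : IrrCharacter K.R} {θ : IrrCharacter K.U}
    (h : classInner (K.resR η) (θ : K.U → ℂ) ≠ 0) (h' : classInner (K.resR η') (θ : K.U → ℂ) ≠ 0) :
    K.Same η η' := by
  have := Fintype.ofFinite (IrrCharacter K.U)
  have hc : ∀ η : IrrCharacter K.R, IsCharacter K.U (K.resR η) := fun η =>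
    IsChar.comp K.inc (IsIrr.isCharacter η.2)
  choose a ha using fun θ : IrrCharacter K.U =>
    IsChar.classInner_eq_natCast (hc η) (IsIrr.isCharacter θ.2)
  choose b hb using fun θ : IrrCharacter K.U =>
    IsChar.classInner_eq_natCast (hc η') (IsIrr.isCharacter θ.2)
  have hpos : classInner (K.resR η) (K.resR η') ≠ 0 := by
    have he : classInner (K.resR η) (K.resR η') = ((∑ ψ : IrrCharacter K.U, b ψ * a ψ : ℕ) : ℂ) := by
      conv_lhs => rw [classFunction_eq_sum (IsChar.isClassFunction (hc η')), classInner_sum_right]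
      push_cast
      exact Finset.sum_congr rfl fun ψ _ => by rw [classInner_smul_right, hb, map_natCast, ha]
    rw [he, Nat.cast_ne_zero]
    intro h0
    have h1 := Finset.sum_eq_zero_iff.1 h0 θ (Finset.mem_univ _)
    rcases Nat.mul_eq_zero.1 h1 with e | e
    · exact h' (by rw [hb, e, Nat.cast_zero])
    · exact h (by rw [ha, e, Nat.cast_zero])
  have h1 := K.sum_U_eq η η'
  have hsum : ∑ x ∈ Finset.univ.filter (fun x : K.R => (x : G) ∈ K.U),
      (η : K.R → ℂ) x * conj ((η' : K.R → ℂ) x) = ∑ y : K.U, K.resR η y * conj (K.resR η' y) := by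
    refine Finset.sum_bij' (fun x hx => ⟨x, (Finset.mem_filter.1 hx).2⟩) (fun y _ => K.inc y)
      (fun _ _ => Finset.mem_univ _) (fun y _ => Finset.mem_filter.2 ⟨Finset.mem_univ _, y.2⟩)
      (fun _ _ => rfl) (fun _ _ => rfl) fun _ _ => rfl
  by_contra hne
  rw [hsum, Finset.sum_eq_zero (s := Finset.range _) (fun i _ => if_neg fun e => hne (by rw [e]; exact K.same_tw η' i)),
    mul_zero, mul_eq_zero, or_iff_right (pow_ne_zero _ two_ne_zero)] at h1
  exact hpos (by rw [classInner, h1, mul_zero])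

variable [Fintype (IrrCharacter K.R)]

theorem resU_eq_sum (χ : IrrCharacter G) :
    K.resU χ = ∑ η : IrrCharacter K.R, (K.m η χ : ℂ) • K.resR η := funext fun y => by
  simp only [Finset.sum_apply, Pi.smul_apply, smul_eq_mul]
  exact K.apply_eq_sum χ (K.inc y)

theorem classInner_resU (χ : IrrCharacter G) (θ : K.U → ℂ) :
    classInner (K.resU χ) θ = ∑ η : IrrCharacter K.R, (K.m η χ : ℂ) * classInner (K.resR η) θ := by
  rw [resU_eq_sum, classInner_sum_left]
  simp only [classInner_smul_left]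

/-- A class fixed by the reflection has a constituent fixed by one of the two reflections. -/
theorem exists_constituent_fixed {η₀ : IrrCharacter K.R} (h₀ : K.bar η₀ = η₀) :
    ∃ (i : Bool) (θ : IrrCharacter K.U), (∀ y, (θ : K.U → ℂ) (K.conjW i y) = (θ : K.U → ℂ) y) ∧
      (∀ χ, classInner (K.resU χ) (θ : K.U → ℂ) = ((∑ η ∈ K.cls η₀, K.m η χ : ℕ) : ℂ)) ∧
      classInner (K.resR η₀) (θ : K.U → ℂ) = 1 := by
  have := Fintype.ofFinite K.nu.ker
  have hcyc : IsCyclic (K.R ⧸ K.nu.ker) := by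
    refine isCyclic_of_subgroup_isDomain
      ((Units.coeHom ℂ).comp (QuotientGroup.kerLift K.nu)) ?_
    exact Units.val_injective.comp (QuotientGroup.kerLift_injective K.nu)
  set r₀ : K.nu.ker → ℂ := fun x => (η₀ : K.R → ℂ) x with hr₀
  have hr0ne : r₀ ≠ 0 := fun e => IsIrr.apply_one_ne_zero η₀.2 (congrFun e 1)
  obtain ⟨θ₁, hθ₁⟩ := CfsgLib.Clifford.exists_constituent
    (IsChar.isClassFunction (IsChar.restrict K.nu.ker (IsIrr.isCharacter η₀.2))) hr0ne
  have tr : ∀ (η : IrrCharacter K.R) (φ : K.U → ℂ),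
      classInner (fun x : K.nu.ker => (η : K.R → ℂ) x) (fun x => φ (K.kerEquiv x)) =
        classInner (K.resR η) φ := fun η φ =>
    CfsgLib.Clifford.classInner_comp_equiv K.kerEquiv (K.resR η) φ
  set θ₂ : IrrCharacter K.U := ⟨fun y => (θ₁ : K.nu.ker → ℂ) (K.kerEquiv.symm y),
    IsIrr.comp_surjective K.kerEquiv.symm.toMonoidHom K.kerEquiv.symm.surjective θ₁.2⟩
  have htr : ∀ η : IrrCharacter K.R, classInner (K.resR η) (θ₂ : K.U → ℂ) =
      classInner (fun x : K.nu.ker => (η : K.R → ℂ) x) (θ₁ : K.nu.ker → ℂ) := fun η => by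
    rw [← tr η]
    congr 1
  -- multiplicity one
  obtain ⟨ψ, hψ⟩ := CfsgLib.NoDiv.exists_inertia_ext (N := K.nu.ker) hcyc θ₁
  have hone : classInner (K.resR η₀) (θ₂ : K.U → ℂ) = 1 := by
    have h1 : classInner (fun x : K.nu.ker => (hψ.indIrr : K.R → ℂ) x) (θ₁ : K.nu.ker → ℂ) = 1 :=
      hψ.classInner_restrict_indFun
    rw [← htr] at h1
    have hs : K.Same η₀ hψ.indIrr :=
      K.same_of_common (θ := θ₂) (by rw [htr]; exact hθ₁) (by rw [h1]; exact one_ne_zero)
    rw [K.classInner_resR_eq hs, h1]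
  -- the reflection moves `θ₂` inside its orbit
  have hfixθ := CfsgLib.NoDiv.exists_conj_eq (N := K.nu.ker)
    (σ := ⟨⟨K.conjR, K.conjR, K.conjR_conjR, K.conjR_conjR⟩, map_mul K.conjR⟩)
    (σN := ⟨⟨fun x => ⟨K.conjR x, by rw [MonoidHom.mem_ker, nu_conjR, x.2, inv_one]⟩,
      fun x => ⟨K.conjR x, by rw [MonoidHom.mem_ker, nu_conjR, x.2, inv_one]⟩,
      fun x => Subtype.ext (K.conjR_conjR _), fun x => Subtype.ext (K.conjR_conjR _)⟩,
      fun x y => Subtype.ext (map_mul K.conjR _ _)⟩)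
    (fun _ => rfl) θ₁ η₀ hθ₁ (fun x => by
      show (η₀ : K.R → ℂ) (K.conjR x) = _
      rw [← bar_apply, h₀])
  obtain ⟨g, hg⟩ := hfixθ
  set c : G := K.w false * (g : G)⁻¹ with hc
  have hct : Commute c K.t := (K.commute_w false).mul_left
    (Commute.inv_left (mem_centralizer_singleton_iff.1 (K.R_le g.2)))
  have hθc : ∀ x y : K.U, (y : G) = c * x * c⁻¹ → (θ₂ : K.U → ℂ) y = (θ₂ : K.U → ℂ) x := by
    intro x y e
    have h := hg ⟨g⁻¹ * K.inc x * g, by
      rw [MonoidHom.mem_ker, map_mul, map_mul, map_inv, K.nu_U x |> fun h => (show K.nu (K.inc x) = 1 from h),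
        mul_one, inv_mul_cancel]⟩
    show (θ₁ : K.nu.ker → ℂ) (K.kerEquiv.symm y) = (θ₁ : K.nu.ker → ℂ) (K.kerEquiv.symm x)
    refine Eq.trans ?_ (h.trans ?_)
    · refine congrArg (θ₁ : K.nu.ker → ℂ) (Subtype.ext (Subtype.ext ?_))
      show (y : G) = K.w false * ((g : G)⁻¹ * (x : G) * g) * (K.w false)⁻¹
      rw [e, hc]; group
    · refine congrArg (θ₁ : K.nu.ker → ℂ) (Subtype.ext ?_)
      rw [MulAut.conjNormal_apply]
      show g * (g⁻¹ * K.inc x * g) * g⁻¹ = K.inc x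
      group
  set c' : centralizer ({K.t} : Set G) := ⟨c, mem_centralizer_singleton_iff.2 hct⟩
  obtain ⟨k, hk⟩ : ∃ k, K.proj c' = sr k := by
    obtain ⟨j, hj⟩ := (K.mem_R_iff ⟨(g : G), K.R_le g.2⟩).1 g.2
    refine ⟨0 + -j, ?_⟩
    rw [show c' = ⟨K.w false, mem_centralizer_singleton_iff.2 (K.commute_w false)⟩ *
        (⟨(g : G), K.R_le g.2⟩ : centralizer ({K.t} : Set G))⁻¹ from Subtype.ext rfl,
      map_mul, map_inv, hj, K.proj_w, inv_r, sr_mul_r]
    rfl
  obtain ⟨a, ha, hca⟩ := K.exists_eq c'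
  rw [hk] at hca
  have hθk : ∀ x y : K.U, (y : G) = K.F (sr k) * x * (K.F (sr k))⁻¹ → (θ₂ : K.U → ℂ) y = (θ₂ : K.U → ℂ) x := by
    intro x y e
    rw [← IsIrr.isClassFunction θ₂.2 y ⟨a, ha⟩]
    refine hθc x _ ?_
    show a * (y : G) * a⁻¹ = c * x * c⁻¹
    rw [e, show c = a * K.F (sr k) from hca]; group
  -- move to a standard reflection
  obtain ⟨i, j, hkj⟩ : ∃ (i : Bool) (j : ZMod (2 ^ K.n)), (if i then 1 else 0) = k + 2 * j := by
    have hv : k = (k.val : ZMod (2 ^ K.n)) := (ZMod.natCast_zmod_val k).symm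
    rcases Nat.even_or_odd' k.val with ⟨b, hb | hb⟩
    · exact ⟨false, -(b : ZMod (2 ^ K.n)), by rw [hv, hb]; push_cast; ring⟩
    · exact ⟨true, -(b : ZMod (2 ^ K.n)), by rw [hv, hb]; push_cast; simp⟩
  have hrr : K.F (r j) ∈ K.R := ⟨1, one_mem _, j, (one_mul _).symm⟩
  let cj : K.U ≃* K.U :=
    { toFun := fun y => ⟨K.F (r j) * y * (K.F (r j))⁻¹, K.conj_mem (K.comm_F _) y.2⟩
      invFun := fun y => ⟨(K.F (r j))⁻¹ * y * K.F (r j), by
        simpa using K.conj_mem (K.comm_F (r j)).inv_left y.2⟩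
      left_inv := fun y => Subtype.ext (by simp [mul_assoc])
      right_inv := fun y => Subtype.ext (by simp [mul_assoc])
      map_mul' := fun x y => Subtype.ext (by simp [mul_assoc]) }
  set θ : IrrCharacter K.U := ⟨fun y => (θ₂ : K.U → ℂ) (cj y),
    IsIrr.comp_surjective cj.toMonoidHom cj.surjective θ₂.2⟩ with hθdef
  have hinn : ∀ η : IrrCharacter K.R, classInner (K.resR η) (θ : K.U → ℂ) =
      classInner (K.resR η) (θ₂ : K.U → ℂ) := fun η => by
    rw [← CfsgLib.Clifford.classInner_comp_equiv cj (K.resR η) (θ₂ : K.U → ℂ)]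
    refine congrArg (fun f => classInner f (θ : K.U → ℂ)) (funext fun y => ?_)
    exact (IsIrr.isClassFunction η.2 (K.inc y) ⟨_, hrr⟩).symm
  refine ⟨i, θ, fun y => ?_, fun χ => ?_, by rw [hinn, hone]⟩
  · show (θ₂ : K.U → ℂ) (cj (K.conjW i y)) = (θ₂ : K.U → ℂ) (cj y)
    refine hθk (cj y) _ ?_
    have hs : (r j * sr (if i then 1 else 0) : DihedralGroup (2 ^ K.n)) = sr k * r j := by
      rw [r_mul_sr, sr_mul_r, hkj]; congr 1; ring
    have hF : K.F (r j) * K.w i = K.F (sr k) * K.F (r j) := by rw [w, ← map_mul, hs, map_mul]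
    show K.F (r j) * (K.w i * (y : G) * (K.w i)⁻¹) * (K.F (r j))⁻¹ =
      K.F (sr k) * (K.F (r j) * y * (K.F (r j))⁻¹) * (K.F (sr k))⁻¹
    rw [show K.F (r j) * (K.w i * (y : G) * (K.w i)⁻¹) * (K.F (r j))⁻¹ =
      K.F (r j) * K.w i * y * (K.F (r j) * K.w i)⁻¹ by group, hF]
    group
  · rw [K.classInner_resU, Nat.cast_sum, ← Finset.sum_subset (Finset.subset_univ (K.cls η₀))
      fun η _ hη => ?_]
    · refine Finset.sum_congr rfl fun η hη => ?_
      rw [hinn, K.classInner_resR_eq (K.mem_cls.1 hη), hone, mul_one]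
    · by_contra hne
      refine hη (K.mem_cls.2 (K.same_of_common (θ := θ) (right_ne_zero_of_mul hne) ?_))
      rw [hinn, hone]; exact one_ne_zero

/-! ## The class of a linear character -/

variable {K}

theorem mul_F_inv_mem (x : K.R) : (x : G) * (K.F (r (K.rotNum x)))⁻¹ ∈ K.U := by
  obtain ⟨a, ha, e⟩ := K.exists_eq ⟨x, K.R_le x.2⟩
  rw [K.proj_R] at e
  change (x : G) = _ at e
  rw [e, mul_inv_cancel_right]; exact ha

/-- The extension to `R` trivial on the rotations. -/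
noncomputable def Good.extHom {l : K.U →* ℂˣ} (hl : K.Good l) : K.R →* ℂˣ :=
  MonoidHom.mk' (fun x => l ⟨_, mul_F_inv_mem x⟩) fun x y => by
    set z : K.U := ⟨K.F (r (K.rotNum x)) * ((y : G) * (K.F (r (K.rotNum y)))⁻¹) * (K.F (r (K.rotNum x)))⁻¹,
      K.conj_mem (K.comm_F _) (mul_F_inv_mem y)⟩
    rw [← hl.conj_F (r (K.rotNum x)) ⟨_, mul_F_inv_mem y⟩ z rfl, ← map_mul]
    refine congrArg l (Subtype.ext ?_)
    show (x : G) * y * (K.F (r (K.rotNum (x * y))))⁻¹ = (x : G) * (K.F (r (K.rotNum x)))⁻¹ * z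
    rw [rotNum_mul, ← r_mul_r, map_mul]
    show _ = (x : G) * (K.F (r (K.rotNum x)))⁻¹ *
      (K.F (r (K.rotNum x)) * ((y : G) * (K.F (r (K.rotNum y)))⁻¹) * (K.F (r (K.rotNum x)))⁻¹)
    group

/-- The extension as an irreducible character. -/
noncomputable def Good.ext {l : K.U →* ℂˣ} (hl : K.Good l) : IrrCharacter K.R :=
  ⟨fun x => (hl.extHom x : ℂ), isIrrCharacter_linear hl.extHom⟩

theorem Good.ext_apply {l : K.U →* ℂˣ} (hl : K.Good l) (x : K.R) :
    (hl.ext : K.R → ℂ) x = (hl.extHom x : ℂ) := rfl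

theorem Good.ext_inc {l : K.U →* ℂˣ} (hl : K.Good l) (y : K.U) : hl.extHom (K.inc y) = l y := by
  refine congrArg l (Subtype.ext ?_)
  show (y : G) * (K.F (r (K.rotNum (K.inc y))))⁻¹ = y
  rw [(K.rotNum_eq_zero_iff _).2 y.2, r_zero, map_one, inv_one, mul_one]

theorem Good.bar_ext {l : K.U →* ℂˣ} (hl : K.Good l) : K.bar hl.ext = hl.ext := irr_ext fun x => by
  rw [bar_apply, ext_apply, ext_apply]
  congr 1
  have hr : K.rotNum (K.conjR x) = -K.rotNum x :=
    K.rotNum_conj (K.commute_w false) x (K.proj_w false _)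
  refine hl.fixed false ⟨_, mul_F_inv_mem x⟩ ⟨_, mul_F_inv_mem (K.conjR x)⟩ ?_
  show (K.conjR x : G) * (K.F (r (K.rotNum (K.conjR x))))⁻¹ = _
  have hF : K.F (r (-K.rotNum x)) = K.w false * K.F (r (K.rotNum x)) * (K.w false)⁻¹ := by
    rw [w, ← map_inv, ← map_mul, ← map_mul, inv_sr, if_neg (by simp), sr_mul_r, sr_mul_sr]
    congr 2; ring
  rw [hr, hF, conjR_apply]
  group

theorem Good.per_ext {l : K.U →* ℂˣ} (hl : K.Good l) : K.per hl.ext = 2 ^ K.n := by
  refine Nat.dvd_antisymm ?_ ?_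
  · rw [← K.per_dvd_iff]
    exact irr_ext fun x => by
      rw [tw_apply, ← Units.val_pow_eq_pow_val, ← MonoidHom.pow_apply, nu_pow_card, MonoidHom.one_apply,
        Units.val_one, mul_one]
  · set x : K.R := ⟨K.F (r 1), 1, one_mem _, 1, (one_mul _).symm⟩
    have h1 : K.rotNum x = 1 := by
      have h := K.proj_eq (c := ⟨x, K.R_le x.2⟩) (one_mem _) (s := r 1) (by rw [one_mul])
      rwa [proj_R, r.injEq] at h
    have h := congrArg (fun c : IrrCharacter K.R => (c : K.R → ℂ) x) (K.per_spec hl.ext).2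
    simp only [tw_apply, ext_apply] at h
    have h2 : (K.nu x : ℂ) ^ K.per hl.ext = 1 :=
      mul_left_cancel₀ (hl.extHom x).ne_zero (h.trans (mul_one _).symm)
    haveI : Fact (1 < 2 ^ K.n) := ⟨Nat.one_lt_two_pow (by have := K.two_le; omega)⟩
    rw [nu_apply, h1, ZMod.val_one, pow_one] at h2
    exact (K.zeta_primitive.pow_eq_one_iff_dvd _).1 h2

variable (K)

theorem sum_m_lin {l : K.U →* ℂˣ} (hl : K.Good l) (χ : IrrCharacter G) :
    classInner (K.resU χ) (K.lin l : K.U → ℂ) = ((∑ η ∈ K.cls hl.ext, K.m η χ : ℕ) : ℂ) := by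
  have h1 : K.resR hl.ext = (K.lin l : K.U → ℂ) := funext fun y => by
    show (hl.extHom (K.inc y) : ℂ) = _
    rw [hl.ext_inc, lin_apply]
  rw [K.classInner_resU, Nat.cast_sum, ← Finset.sum_subset (Finset.subset_univ (K.cls hl.ext))
    fun η _ hη => ?_]
  · refine Finset.sum_congr rfl fun η hη => ?_
    rw [K.classInner_resR_eq (K.mem_cls.1 hη), h1, classInner_irr_self, mul_one]
  · by_contra hne
    refine hη (K.mem_cls.2 (K.same_of_common (θ := K.lin l) (right_ne_zero_of_mul hne) ?_))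
    rw [h1, classInner_irr_self]; exact one_ne_zero

theorem cast_a_eq_sum (η₀ : IrrCharacter K.R) (χ : IrrCharacter G) :
    ((∑ η ∈ K.cls η₀, K.m η χ : ℕ) : ZMod 2) = (K.a η₀ χ : ZMod 2) := by
  rw [a]
  push_cast
  refine Finset.sum_congr rfl fun η _ => ?_
  rcases K.eps_cases η with e | e <;> rw [e] <;> push_cast <;> simp [ZMod.neg_eq_self_mod_two]

/-- Next to a good linear character of odd multiplicity, another fixed class has even multiplicity. -/
theorem two_dvd_a {l : K.U →* ℂˣ} (hl : K.Good l) (hi : ∀ i, K.Inv i l) (χ : IrrCharacter G) (hodd : ¬ (2 : ℤ) ∣ K.a hl.ext χ)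
    {η₀ : IrrCharacter K.R} (h₀ : K.bar η₀ = η₀) (hne : η₀ ∉ K.cls hl.ext) : (2 : ℤ) ∣ K.a η₀ χ := by
  by_contra hc
  have hpar : ∀ η : IrrCharacter K.R, ¬ (2 : ℤ) ∣ K.a η χ → Odd (∑ ψ ∈ K.cls η, K.m ψ χ) := by
    intro η hη
    rw [Nat.odd_iff, ← Nat.two_dvd_ne_zero, ← ZMod.natCast_eq_zero_iff]
    · rw [cast_a_eq_sum, ZMod.intCast_zmod_eq_zero_iff_dvd]
      exact_mod_cast hη
  obtain ⟨i, θ, hfix, hsum, hone⟩ := K.exists_constituent_fixed h₀
  have he := K.eq_lin hl χ (hpar _ hodd) (hpar _ hc) (K.sum_m_lin hl χ) (hi i) θ hfix (hsum χ)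
  refine hne (K.mem_cls.2 (K.same_of_common (θ := θ) (by rw [hone]; exact one_ne_zero) ?_))
  rw [he, show K.resR hl.ext = (K.lin l : K.U → ℂ) from funext fun y => by
    show (hl.extHom (K.inc y) : ℂ) = _
    rw [hl.ext_inc, lin_apply], classInner_irr_self]
  exact one_ne_zero

end Ctx

end CfsgLib.GW.DLin
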