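import Cfsg.Agent.Lib.GW.Dne.Linear.Constituent

/-!
# Pairs of involutions with product in `R - U`
-/

set_option autoImplicit false

open scoped Classical

namespace CfsgLib.GW.DLin

open Subgroup DihedralGroup Cfsg CfsgLib.Char CfsgLib.CharDegree CfsgLib.Blocks
open CfsgLib.TwoGroups CfsgLib.TwoGroups.Dihedral
open scoped ComplexConjugate
open CfsgLib.Signalizer (involution_sq involution_inv involution_ne_one orderOf_conj orderOf_eq_two_of)

universe v

/-- Characters moved by an involutory automorphism sum to zero over the inverted elements. -/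
theorem sum_inverted_eq_zero {U : Type v} [Group U] [Fintype U] (σ : U →* U) (hσ : ∀ y, σ (σ y) = y)
    {θ : IrrCharacter U} (h : (fun y => (θ : U → ℂ) (σ y)) ≠ (θ : U → ℂ)) (b : U) :
    ∑ a ∈ Finset.univ.filter (fun a : U => a * σ a = 1), (θ : U → ℂ) (b * a) = 0 := by
  obtain ⟨n, ρ, hρ, hχ⟩ := θ.2
  set J := Finset.univ.filter (fun a : U => a * σ a = 1) with hJ
  let ρ' : Representation ℂ U (Fin n → ℂ) := ρ.comp σ
  haveI := hρ
  haveI : ρ'.IsIrreducible := by
    let e : Subrepresentation ρ' ≃o Subrepresentation ρ :=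
      { toFun := fun S => ⟨S.toSubmodule, fun g v hv => by
          have := S.apply_mem_toSubmodule (σ g) hv
          rwa [show ρ' (σ g) = ρ g by
            show ρ (σ (σ g)) = ρ g
            rw [hσ]] at this⟩
        invFun := fun S => ⟨S.toSubmodule, fun x v hv => S.apply_mem_toSubmodule (σ x) hv⟩
        left_inv := fun S => rfl
        right_inv := fun S => rfl
        map_rel_iff' := Iff.rfl }
    exact e.isSimpleOrder
  let T : Module.End ℂ (Fin n → ℂ) := ∑ a ∈ J, ρ a
  have hmem : ∀ c, ∀ a ∈ J, c * a * (σ c)⁻¹ ∈ J := by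
    intro c a ha
    refine Finset.mem_filter.2 ⟨Finset.mem_univ _, ?_⟩
    rw [map_mul, map_mul, map_inv, hσ,
      show c * a * (σ c)⁻¹ * (σ c * σ a * c⁻¹) = c * (a * σ a) * c⁻¹ by group,
      (Finset.mem_filter.1 ha).2, mul_one, mul_inv_cancel]
  have hcomm : ∀ c, T * ρ' c = ρ c * T := fun c => by
    simp only [T, ρ', Finset.sum_mul, Finset.mul_sum]
    refine (Finset.sum_bij' (fun a _ => c * a * (σ c)⁻¹) (fun a _ => c⁻¹ * a * σ c)
      (fun a ha => hmem c a ha) (fun a ha => ?_) (fun _ _ => by group) (fun _ _ => by group)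
      fun a _ => ?_).symm
    · have := hmem c⁻¹ a ha
      rwa [map_inv, inv_inv] at this
    · show ρ c * ρ a = ρ (c * a * (σ c)⁻¹) * ρ (σ c)
      rw [← map_mul, ← map_mul, inv_mul_cancel_right]
  let f : ρ'.IntertwiningMap ρ := ⟨T, fun c => hcomm c⟩
  have hT : T = 0 := by
    rcases Representation.IsIrreducible.bijective_or_eq_zero f with hb | h0
    · refine absurd (funext fun y => ?_) h
      have he := Representation.char_iso (Representation.IntertwiningMap.ofBijective f hb)
      rw [← hχ]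
      exact congrFun he y
    · exact congrArg Representation.IntertwiningMap.toLinearMap h0
  rw [← hχ]
  calc ∑ a ∈ J, ρ.character (b * a) = LinearMap.trace ℂ _ (ρ b * T) := by
        simp only [T, Finset.mul_sum, map_sum, ← map_mul]
        rfl
    _ = 0 := by rw [hT, mul_zero, map_zero]

namespace Ctx

variable {G : Type v} [Group G] [Fintype G] (K : Ctx G)

/-- The number of involutions `p` with `p x` an involution. -/
noncomputable def pairs (x : G) : ℕ :=
  (Finset.univ.filter fun p : G => orderOf p = 2 ∧ orderOf (p * x) = 2).card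

theorem pairs_eq [Fintype (IrrCharacter G)] (x : G) :
    (Nat.card (centralizer ({K.t} : Set G)) : ℂ) ^ 2 * pairs x =
      (Nat.card G : ℂ) * ∑ χ : IrrCharacter G,
        (χ : G → ℂ) K.t ^ 2 * (χ : G → ℂ) x / (charDegree (χ : G → ℂ) : ℂ) := by
  set c : ℂ := (Nat.card (centralizer ({K.t} : Set G)) : ℂ) with hc
  have hind : ∀ b : G, (if orderOf b = 2 then c else 0) =
      ∑ χ : IrrCharacter G, (χ : G → ℂ) b * (χ : G → ℂ) K.t := fun b =>
    (sum_apply_mul_involution K.hone K.ht b).symm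
  have hclass : ∀ F : G → ℂ, ∑ a : G, (if orderOf a = 2 then c else 0) * F a =
      ∑ y : G, F (y * K.t * y⁻¹) := by
    intro F
    have h := CfsgLib.Coh.sum_conj_eq (⊤ : Subgroup G) K.t F
    rw [top_inf_eq, ← Equiv.sum_comp Subgroup.topEquiv.symm.toEquiv] at h
    simp only [ite_mul, zero_mul, ← Finset.sum_filter, ← Finset.mul_sum]
    refine (Eq.trans ?_ h.symm)
    rw [hc]
    congr 2
    ext a
    simp only [Finset.mem_filter, Finset.mem_univ, true_and, Finset.mem_image]
    constructor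
    · intro ha
      obtain ⟨y, hy⟩ := isConj_iff.1 (K.hone K.t a K.ht ha)
      exact ⟨⟨y, mem_top y⟩, hy⟩
    · rintro ⟨y, rfl⟩
      rw [orderOf_conj]; exact K.ht
  have hN : ∑ a : G, (if orderOf a = 2 then c else 0) * (if orderOf (a * x) = 2 then c else 0) =
      (Nat.card G : ℂ) * ∑ χ : IrrCharacter G,
        (χ : G → ℂ) K.t ^ 2 * (χ : G → ℂ) x / (charDegree (χ : G → ℂ) : ℂ) := by
    rw [hclass fun a => if orderOf (a * x) = 2 then c else 0]
    simp only [hind]
    rw [Finset.sum_comm, Finset.mul_sum]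
    refine Finset.sum_congr rfl fun χ _ => ?_
    rw [← Finset.sum_mul, CfsgLib.CharDegree.sum_conj_mul χ K.t x, CfsgLib.Blocks.apply_one_eq_charDegree]
    ring
  rw [← hN, pairs, Finset.card_filter, Nat.cast_sum, Finset.mul_sum]
  refine Finset.sum_congr rfl fun a _ => ?_
  split_ifs <;> simp_all <;> ring

/-- The weighted cubic sum against a difference. -/
noncomputable def cubic [Fintype (IrrCharacter G)] (ξ ξ' : IrrCharacter K.R) : ℂ :=
  ∑ χ : IrrCharacter G, (χ : G → ℂ) K.t ^ 2 * (K.d ξ ξ' χ : ℂ) / (charDegree (χ : G → ℂ) : ℂ)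

theorem cubic_eq [Fintype (IrrCharacter G)] (ξ ξ' : IrrCharacter K.R) :
    (Nat.card G : ℂ) * (Nat.card K.R : ℂ) * K.cubic ξ ξ' =
      (Nat.card (centralizer ({K.t} : Set G)) : ℂ) ^ 2 *
        ∑ x : K.R, (pairs (x : G) : ℂ) * conj ((ξ : K.R → ℂ) x - (ξ' : K.R → ℂ) x) := by
  have hc0 : (Nat.card K.R : ℂ) ≠ 0 := Nat.cast_ne_zero.2 Nat.card_pos.ne'
  simp only [cubic, K.d_cast, Finset.mul_sum, ← mul_assoc, K.pairs_eq, Finset.sum_mul, Finset.sum_div]
  rw [Finset.sum_comm]
  refine Finset.sum_congr rfl fun x _ => Finset.sum_congr rfl fun χ _ => ?_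
  field_simp

theorem commute_of_pair {x : K.R} (hx : (x : G) ∉ K.U) {p : G} (hp : orderOf p = 2)
    (hpx : orderOf (p * x) = 2) : Commute p K.t := by
  refine K.commute_of_conj_mem hx ?_
  have h := involution_sq hpx
  rw [show p * (x : G) * p⁻¹ = (x : G)⁻¹ from by
    refine eq_inv_of_mul_eq_one_left ?_
    rw [involution_inv hp, ← h]; group]
  exact inv_mem x.2

variable {K}

/-- A good linear character extended to `C(t)`. -/
noncomputable def Good.centHom {l : K.U →* ℂˣ} (hl : K.Good l) :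
    centralizer ({K.t} : Set G) →* ℂˣ :=
  have hmem : ∀ c : centralizer ({K.t} : Set G), (c : G) * (K.F (K.proj c))⁻¹ ∈ K.U := fun c => by
    obtain ⟨a, ha, e⟩ := K.exists_eq c
    rw [e, mul_inv_cancel_right]; exact ha
  MonoidHom.mk' (fun c => l ⟨_, hmem c⟩) fun c d => by
    set z : K.U := ⟨K.F (K.proj c) * ((d : G) * (K.F (K.proj d))⁻¹) * (K.F (K.proj c))⁻¹,
      K.conj_mem (K.comm_F _) (hmem d)⟩
    rw [← hl.conj_F (K.proj c) ⟨_, hmem d⟩ z rfl, ← map_mul]
    refine congrArg l (Subtype.ext ?_)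
    show (c : G) * d * (K.F (K.proj (c * d)))⁻¹ = (c : G) * (K.F (K.proj c))⁻¹ *
      (K.F (K.proj c) * ((d : G) * (K.F (K.proj d))⁻¹) * (K.F (K.proj c))⁻¹)
    rw [map_mul, map_mul]
    group

theorem Good.extHom_eq [Fintype (IrrCharacter K.R)] {l : K.U →* ℂˣ} (hl : K.Good l) (x : K.R) :
    hl.extHom x = hl.centHom ⟨x, K.R_le x.2⟩ := by
  refine congrArg l (Subtype.ext ?_)
  show (x : G) * _ = (x : G) * _
  rw [K.proj_R]

theorem Good.centHom_involution {l : K.U →* ℂˣ} (hl : K.Good l) {c : centralizer ({K.t} : Set G)}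
    (hc : orderOf (c : G) = 2) : hl.centHom c = 1 := by
  have h2 : hl.centHom c * hl.centHom c = 1 := by
    rw [← map_mul, show c * c = 1 from Subtype.ext (involution_sq hc), map_one]
  obtain ⟨u, hu⟩ : ∃ u : K.U, hl.centHom c = l u := ⟨_, rfl⟩
  rw [hu, ← map_mul, ← pow_two, map_pow] at h2
  rw [hu]
  have h3 : l u ^ orderOf u = 1 := by rw [← map_pow, pow_orderOf_eq_one, map_one]
  obtain ⟨j, hj⟩ : Odd (orderOf u) := by rw [← Subgroup.orderOf_coe]; exact K.odd_of_mem u.2
  rwa [hj, pow_succ, pow_mul, h2, one_pow, one_mul] at h3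

variable (K) [Fintype (IrrCharacter K.R)] [Fintype (IrrCharacter G)]

/-- All good linear characters see the same pairs. -/
theorem cubic_lin {l : K.U →* ℂˣ} (hl : K.Good l) (j : ℕ) :
    K.cubic hl.ext (K.tw hl.ext j) = K.cubic K.good_one.ext (K.tw K.good_one.ext j) := by
  have hval : ∀ {l : K.U →* ℂˣ} (hl : K.Good l), ∀ x : K.R,
      (pairs (x : G) : ℂ) * conj ((hl.ext : K.R → ℂ) x - (K.tw hl.ext j : K.R → ℂ) x) =
        (pairs (x : G) : ℂ) * conj (1 - (K.nu x : ℂ) ^ j) := by
    intro l hl x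
    rw [tw_apply, Good.ext_apply]
    by_cases hx : (x : G) ∈ K.U
    · rw [(K.nu_eq_one_iff x).2 hx]; simp
    by_cases h0 : pairs (x : G) = 0
    · simp [h0]
    obtain ⟨p, hp⟩ := Finset.card_ne_zero.1 h0
    obtain ⟨-, hp1, hp2⟩ := Finset.mem_filter.1 hp
    have hpc := K.commute_of_pair hx hp1 hp2
    have hpx : Commute (p * x) K.t := hpc.mul_left (mem_centralizer_singleton_iff.1 (K.R_le x.2))
    have h1 : hl.extHom x = 1 := by
      rw [hl.extHom_eq, show (⟨(x : G), K.R_le x.2⟩ : centralizer ({K.t} : Set G)) =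
        (⟨p, mem_centralizer_singleton_iff.2 hpc⟩)⁻¹ * ⟨p * x, mem_centralizer_singleton_iff.2 hpx⟩ from
        Subtype.ext (by show (x : G) = p⁻¹ * (p * x); group), map_mul, map_inv,
        hl.centHom_involution (by exact hp1), hl.centHom_involution (by exact hp2)]
      group
    rw [h1]; simp
  have hc0 : (Nat.card G : ℂ) * (Nat.card K.R : ℂ) ≠ 0 :=
    mul_ne_zero (Nat.cast_ne_zero.2 Nat.card_pos.ne') (Nat.cast_ne_zero.2 Nat.card_pos.ne')
  refine mul_left_cancel₀ hc0 ?_
  rw [K.cubic_eq, K.cubic_eq, Finset.sum_congr rfl fun x _ => hval hl x,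
    Finset.sum_congr rfl fun x _ => hval K.good_one x]

/-- Pairs weighted by a character without fixed reflection. -/
theorem sum_pairs_moved {θ : IrrCharacter K.U}
    (h : ∀ k : ZMod (2 ^ K.n), ∃ y y' : K.U, (y' : G) = K.F (sr k) * y * (K.F (sr k))⁻¹ ∧
      (θ : K.U → ℂ) y' ≠ (θ : K.U → ℂ) y) :
    ∑ u : K.U, (pairs (K.t * (u : G)) : ℂ) * conj ((θ : K.U → ℂ) u) = 0 := by
  haveI : NeZero (2 ^ K.n) := ⟨pow_ne_zero _ two_ne_zero⟩
  have hcard : ∀ u : K.U, (pairs (K.t * (u : G)) : ℂ) =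
      ∑ q : K.U × DihedralGroup (2 ^ K.n),
        if orderOf ((q.1 : G) * K.F q.2) = 2 ∧ orderOf ((q.1 : G) * K.F q.2 * (K.t * u)) = 2
        then (1 : ℂ) else 0 := by
    intro u
    rw [pairs, Finset.card_filter, Nat.cast_sum]
    push_cast
    refine (Fintype.sum_of_injective (fun q : K.U × DihedralGroup (2 ^ K.n) => (q.1 : G) * K.F q.2)
      (fun q q' e => ?_) _ _ (fun p hp => ?_) fun q => rfl).symm
    · obtain ⟨e1, e2⟩ := K.eq_of_mul_eq q.1.2 q'.1.2 e
      exact Prod.ext (Subtype.ext e1) e2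
    · split_ifs with hh
      · exfalso
        have hx : K.t * (u : G) ∉ K.U := fun hm => involution_ne_one K.ht
          (show K.t = 1 from congrArg K.F (K.eq_one_of_mem (s := r (half K.n)) (by
            have := mul_mem hm (inv_mem u.2); rwa [mul_inv_cancel_right] at this)) |>.trans (map_one _))
        have hc := K.commute_of_pair (x := ⟨K.t * u, mul_mem K.t_mem_R (K.U_le_R u.2)⟩) hx hh.1 hh.2
        obtain ⟨a, ha, s, e⟩ := K.split p hc
        exact hp ⟨(⟨a, ha⟩, s), e.symm⟩
      · rfl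
  simp only [hcard, Finset.sum_mul]
  rw [Finset.sum_comm, Fintype.sum_prod_type, Finset.sum_comm]
  refine Finset.sum_eq_zero fun s _ => ?_
  rcases s with i | k
  · refine Finset.sum_eq_zero fun a _ => Finset.sum_eq_zero fun u _ => ?_
    rw [if_neg, zero_mul]
    rintro ⟨h1, h2⟩
    have hR : (a : G) * K.F (r i) ∈ K.R := ⟨a, a.2, i, rfl⟩
    have he := K.eq_t_of_involution hR h1
    rw [he, ← mul_assoc, involution_sq K.ht, one_mul] at h2
    have := K.odd_of_mem u.2
    rw [h2] at this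
    exact absurd this (by decide)
  · set σ : K.U →* K.U := MonoidHom.mk'
      (fun y => ⟨K.F (sr k) * y * (K.F (sr k))⁻¹, K.conj_mem (K.comm_F _) y.2⟩)
      (fun y y' => Subtype.ext (by simp [mul_assoc])) with hσdef
    have hss : K.F (sr k) * K.F (sr k) = 1 := by rw [← map_mul, sr_mul_self, map_one]
    have hσ : ∀ y, σ (σ y) = y := fun y => Subtype.ext (by
      show K.F (sr k) * (K.F (sr k) * y * (K.F (sr k))⁻¹) * (K.F (sr k))⁻¹ = y
      rw [show K.F (sr k) * (K.F (sr k) * (y : G) * (K.F (sr k))⁻¹) * (K.F (sr k))⁻¹ =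
        K.F (sr k) * K.F (sr k) * y * (K.F (sr k) * K.F (sr k))⁻¹ by group, hss]
      group)
    obtain ⟨y₀, y₀', hy₀, hne⟩ := h k
    obtain rfl : y₀' = σ y₀ := Subtype.ext hy₀
    have hinv : ∀ (a : K.U) (s : DihedralGroup (2 ^ K.n)), s = sr k ∨ s = sr (k + half K.n) →
        (orderOf ((a : G) * K.F s) = 2 ↔ a * σ a = 1) := by
      intro a s hs
      have hconj : K.F s * a * (K.F s)⁻¹ = (σ a : G) := by
        rcases hs with rfl | rfl
        · rfl
        · rw [show (sr (k + half K.n) : DihedralGroup (2 ^ K.n)) = sr k * r (half K.n) by rw [sr_mul_r],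
            map_mul]
          show K.F (sr k) * K.t * a * (K.F (sr k) * K.t)⁻¹ = K.F (sr k) * a * (K.F (sr k))⁻¹
          rw [show K.F (sr k) * K.t * (a : G) * (K.F (sr k) * K.t)⁻¹ =
            K.F (sr k) * (K.t * a * K.t⁻¹) * (K.F (sr k))⁻¹ by group, ← (K.comm_U a.2).eq,
            mul_inv_cancel_right]
      have hsq : ((a : G) * K.F s) * ((a : G) * K.F s) = ((a * σ a : K.U) : G) := by
        have hs2 : K.F s * K.F s = 1 := by
          rcases hs with rfl | rfl <;> rw [← map_mul, sr_mul_self, map_one]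
        calc ((a : G) * K.F s) * ((a : G) * K.F s) = a * (K.F s * a * (K.F s)⁻¹) * (K.F s * K.F s) := by group
          _ = _ := by rw [hconj, hs2, mul_one]; rfl
      constructor
      · intro ho
        exact Subtype.ext (hsq.symm.trans (involution_sq ho))
      · intro ha
        rw [ha] at hsq
        refine orderOf_eq_two_of ?_ hsq
        intro e
        have hm : K.F s ∈ K.U := by
          have := inv_mem a.2
          rwa [← eq_inv_of_mul_eq_one_right e] at this
        have h1 := K.eq_one_of_mem hm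
        rcases hs with rfl | rfl <;> cases h1
    set J := Finset.univ.filter (fun a : K.U => a * σ a = 1) with hJ
    have hterm : ∀ a u : K.U,
        (if orderOf ((a : G) * K.F (sr k)) = 2 ∧ orderOf ((a : G) * K.F (sr k) * (K.t * u)) = 2
          then (1 : ℂ) else 0) * conj ((θ : K.U → ℂ) u) =
        if a ∈ J then (if a * σ u ∈ J then conj ((θ : K.U → ℂ) u) else 0) else 0 := by
      intro a u
      have he : (a : G) * K.F (sr k) * (K.t * u) = ((a * σ u : K.U) : G) * K.F (sr (k + half K.n)) := by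
        rw [show (sr (k + half K.n) : DihedralGroup (2 ^ K.n)) = sr k * r (half K.n) by rw [sr_mul_r], map_mul]
        show (a : G) * K.F (sr k) * (K.t * u) = (a : G) * (K.F (sr k) * u * (K.F (sr k))⁻¹) * (K.F (sr k) * K.t)
        rw [← (K.comm_U u.2).eq]; group
      simp only [he, hinv a _ (Or.inl rfl), hinv _ _ (Or.inr rfl), hJ, Finset.mem_filter, Finset.mem_univ,
        true_and]
      split_ifs <;> simp_all
    simp only [hterm]
    have hb : ∀ a : K.U, ∑ u : K.U, (if a * σ u ∈ J then conj ((θ : K.U → ℂ) u) else 0) =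
        conj (∑ b ∈ J, (θ : K.U → ℂ) (σ (a⁻¹ * b))) := by
      intro a
      rw [map_sum, ← Finset.sum_filter]
      refine Finset.sum_bij' (fun u _ => a * σ u) (fun b _ => σ (a⁻¹ * b))
        (fun u hu => (Finset.mem_filter.1 hu).2)
        (fun b hb => Finset.mem_filter.2 ⟨Finset.mem_univ _, by rwa [hσ, mul_inv_cancel_left]⟩)
        (fun u _ => by rw [inv_mul_cancel_left, hσ]) (fun b _ => by rw [hσ, mul_inv_cancel_left])
        fun u _ => by rw [inv_mul_cancel_left, hσ]
    refine Finset.sum_eq_zero fun a _ => ?_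
    split_ifs
    swap
    · simp
    rw [hb a]
    let θσ : IrrCharacter K.U := ⟨fun y => (θ : K.U → ℂ) (σ y),
      IsIrr.comp_surjective σ (fun y => ⟨σ y, hσ y⟩) θ.2⟩
    have h0 := sum_inverted_eq_zero σ hσ (θ := θσ) (fun e => hne ?_) a⁻¹
    · rw [show ∑ b ∈ J, (θ : K.U → ℂ) (σ (a⁻¹ * b)) = 0 from (Finset.sum_congr (by ext; simp [hJ]) fun _ _ => rfl).trans h0, map_zero]
    · have := congrFun e y₀
      show (θ : K.U → ℂ) (σ y₀) = _
      simp only [θσ, hσ] at this
      exact this.symm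

/-- A moved class of two members sees no pairs. -/
theorem cubic_moved {ξ : IrrCharacter K.R} (hbar : ¬ K.Same (K.bar ξ) ξ) (hp : K.tw ξ 2 = ξ) :
    K.cubic ξ (K.tw ξ 1) = 0 := by
  have := Fintype.ofFinite (IrrCharacter K.U)
  have hc0 : (Nat.card G : ℂ) * (Nat.card K.R : ℂ) ≠ 0 :=
    mul_ne_zero (Nat.cast_ne_zero.2 Nat.card_pos.ne') (Nat.cast_ne_zero.2 Nat.card_pos.ne')
  refine (mul_eq_zero.1 ?_).resolve_left hc0
  rw [K.cubic_eq]
  refine mul_eq_zero_of_right _ ?_
  have hvan : ∀ x : K.R, x ∉ Finset.univ.image (fun u : K.U => K.tR * K.inc u) →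
      (pairs (x : G) : ℂ) * conj ((ξ : K.R → ℂ) x - (K.tw ξ 1 : K.R → ℂ) x) = 0 := by
    intro x hx
    rw [tw_apply, pow_one]
    by_cases hU : (x : G) ∈ K.U
    · rw [(K.nu_eq_one_iff x).2 hU]; simp
    by_cases h0 : (ξ : K.R → ℂ) x = 0
    · rw [h0]; simp
    exfalso
    have h2 := congrArg (fun c : IrrCharacter K.R => (c : K.R → ℂ) x) hp
    simp only [tw_apply] at h2
    have h3 : (K.nu x : ℂ) ^ 2 = 1 := mul_left_cancel₀ h0 (h2.trans (mul_one _).symm)
    have h4 : (K.nu (K.tR * x) : ℂ) = 1 := by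
      rw [map_mul, Units.val_mul, nu_tR]
      rcases sq_eq_one_iff.1 h3 with e | e
      · exact absurd ((K.nu_eq_one_iff x).1 (Units.ext e)) hU
      · rw [e]; norm_num
    refine hx (Finset.mem_image.2 ⟨⟨_, (K.nu_eq_one_iff _).1 (Units.ext h4)⟩, Finset.mem_univ _, ?_⟩)
    show K.tR * (K.tR * x) = x
    rw [← mul_assoc, K.tR_mul_self, one_mul]
  rw [← Finset.sum_subset (Finset.subset_univ _) fun x _ hx => hvan x hx, Finset.sum_image]
  · have hterm : ∀ u : K.U, (pairs ((K.tR * K.inc u : K.R) : G) : ℂ) *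
        conj ((ξ : K.R → ℂ) (K.tR * K.inc u) - (K.tw ξ 1 : K.R → ℂ) (K.tR * K.inc u)) =
        2 * conj (K.eps ξ : ℂ) * ((pairs (K.t * (u : G)) : ℂ) * conj (K.resR ξ u)) := fun u => by
      rw [tw_apply, pow_one, map_mul, Units.val_mul, nu_tR, show K.nu (K.inc u) = 1 from K.nu_U u,
        Units.val_one, mul_one, K.apply_tR_mul]
      show (pairs (K.t * (u : G)) : ℂ) * _ = _
      simp only [map_sub, map_mul, map_neg, map_one, resR]
      ring
    rw [Finset.sum_congr rfl fun u _ => hterm u, ← Finset.mul_sum]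
    refine mul_eq_zero_of_right _ ?_
    have he := classFunction_apply_eq_sum (θ := K.resR ξ)
      (IsChar.isClassFunction (IsChar.comp K.inc (IsIrr.isCharacter ξ.2)))
    simp only [he, map_sum, map_mul, Finset.mul_sum]
    rw [Finset.sum_comm]
    refine Finset.sum_eq_zero fun θ _ => ?_
    by_cases h0 : classInner (K.resR ξ) (θ : K.U → ℂ) = 0
    · simp [h0]
    simp only [mul_left_comm ((pairs _ : ℕ) : ℂ), ← Finset.mul_sum]
    refine mul_eq_zero_of_right _ (K.sum_pairs_moved fun k => ?_)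
    by_contra hfix
    push Not at hfix
    refine hbar (K.same_of_common (θ := θ) ?_ h0)
    set σ : K.U ≃* K.U :=
      { toFun := fun y => ⟨K.F (sr k) * y * (K.F (sr k))⁻¹, K.conj_mem (K.comm_F _) y.2⟩
        invFun := fun y => ⟨(K.F (sr k))⁻¹ * y * K.F (sr k), by
          simpa using K.conj_mem (K.comm_F (sr k)).inv_left y.2⟩
        left_inv := fun y => Subtype.ext (by simp [mul_assoc])
        right_inv := fun y => Subtype.ext (by simp [mul_assoc])
        map_mul' := fun x y => Subtype.ext (by simp [mul_assoc]) } with hσ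
    have hrk : K.F (r k) ∈ K.R := ⟨1, one_mem _, k, (one_mul _).symm⟩
    have hb : K.resR (K.bar ξ) = fun y => K.resR ξ (σ y) := funext fun y => by
      show (K.bar ξ : K.R → ℂ) (K.inc y) = (ξ : K.R → ℂ) (K.inc (σ y))
      rw [bar_apply, ← IsIrr.isClassFunction ξ.2 (K.inc (σ y)) ⟨_, hrk⟩]
      refine congrArg (ξ : K.R → ℂ) (Subtype.ext ?_)
      show K.F (sr 0) * (y : G) * (K.F (sr 0))⁻¹ =
        K.F (r k) * (K.F (sr k) * y * (K.F (sr k))⁻¹) * (K.F (r k))⁻¹
      rw [show (sr 0 : DihedralGroup (2 ^ K.n)) = r k * sr k by rw [r_mul_sr, sub_self], map_mul]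
      group
    rw [hb, show (θ : K.U → ℂ) = fun y => (θ : K.U → ℂ) (σ y) from funext fun y => (hfix y (σ y) rfl).symm,
      CfsgLib.Clifford.classInner_comp_equiv σ (K.resR ξ) (θ : K.U → ℂ)]
    exact h0
  · intro u _ u' _ e
    exact Subtype.ext (show (u : G) = u' from congrArg (fun z : K.R => (z : G)) (mul_left_cancel e))

end Ctx

end CfsgLib.GW.DLin
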