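import Cfsg.Agent.Lib.GW.Dihedral
import Cfsg.Agent.Lib.GW.Two.Linear.Cong
import Cfsg.Agent.Lib.CharDegree.Twist
import Mathlib.NumberTheory.LegendreSymbol.AddCharacter
import Mathlib.RingTheory.RootsOfUnity.Complex

/-!
# Linear characters of `O(C(t))`, dihedral Sylow 2-subgroups: the local frame

`S = F (DihedralGroup (2 ^ n))` is a Sylow 2-subgroup with central involution `t`, `C(t) = U S` and
`R = U ⟨ρ⟩` is the subgroup over the rotations.
-/

set_option autoImplicit false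

namespace CfsgLib.GW.DLin

open Subgroup DihedralGroup
open CfsgLib.TwoGroups CfsgLib.TwoGroups.Dihedral
open CfsgLib.Signalizer (involution_sq involution_inv involution_ne_one orderOf_conj)

universe v

/-- `G` has dihedral Sylow 2-subgroups `S` of order at least eight, one class of involutions,
`U = O(C(t))` and rotations of two non-conjugate four-groups of `S`. -/
structure Ctx (G : Type v) [Group G] where
  n : ℕ
  two_le : 2 ≤ n
  F : DihedralGroup (2 ^ n) →* G
  inj : Function.Injective F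
  sylow : ∀ P : Subgroup G, IsPGroup 2 P → ∃ c : G, ∀ p ∈ P, c * p * c⁻¹ ∈ F.range
  hone : ∀ a b : G, orderOf a = 2 → orderOf b = 2 → IsConj a b
  U : Subgroup G
  hUC : U ≤ centralizer ({F (r (half n))} : Set G)
  hUodd : Odd (Nat.card U)
  hUmax : ∀ y, Commute y (F (r (half n))) → Odd (orderOf y) → y ∈ U
  split : ∀ c, Commute c (F (r (half n))) → ∃ a ∈ U, ∃ s, c = a * F s
  g : Bool → G
  rot : ∀ i : Bool, Rot (F (r (half n))) (F (sr (if i then 1 else 0))) (g i)

namespace Ctx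

variable {G : Type v} [Group G] (K : Ctx G)

/-- The central involution. -/
def t : G := K.F (r (half K.n))

/-- The two reflections. -/
def w (i : Bool) : G := K.F (sr (if i then 1 else 0))

theorem one_le : 1 ≤ K.n := le_trans one_le_two K.two_le

theorem rot' (i : Bool) : Rot K.t (K.w i) (K.g i) := K.rot i

theorem ht : orderOf K.t = 2 := orderOf_half K.inj K.one_le

theorem comm_U {y : G} (hy : y ∈ K.U) : Commute y K.t := mem_centralizer_singleton_iff.1 (K.hUC hy)

theorem mem_U {y : G} (hc : Commute y K.t) (ho : Odd (orderOf y)) : y ∈ K.U := K.hUmax y hc ho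

theorem comm_F (s : DihedralGroup (2 ^ K.n)) : Commute (K.F s) K.t := by
  show K.F s * K.F (r (half K.n)) = K.F (r (half K.n)) * K.F s
  rw [← map_mul, ← map_mul]
  rcases s with i | i
  · rw [r_mul_r, r_mul_r, add_comm]
  · rw [sr_mul_r, r_mul_sr, sub_eq_add_neg, neg_half K.one_le]

variable [Finite G]

theorem odd_of_mem {y : G} (hy : y ∈ K.U) : Odd (orderOf y) :=
  K.hUodd.of_dvd_nat (orderOf_dvd_natCard K.U hy)

theorem conj_mem {c y : G} (hc : Commute c K.t) (hy : y ∈ K.U) : c * y * c⁻¹ ∈ K.U :=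
  K.mem_U ((hc.mul_left (K.comm_U hy)).mul_left hc.inv_left) (by rw [orderOf_conj]; exact K.odd_of_mem hy)

theorem eq_one_of_mem {s : DihedralGroup (2 ^ K.n)} (h : K.F s ∈ K.U) : s = 1 := by
  have h1 := K.odd_of_mem h
  rw [orderOf_injective K.F K.inj] at h1
  have h2 : orderOf s ∣ 2 ^ (K.n + 1) := by
    rw [pow_succ, mul_comm, ← DihedralGroup.nat_card]; exact orderOf_dvd_natCard s
  exact orderOf_eq_one_iff.1
    (Nat.eq_one_of_dvd_coprimes ((Nat.coprime_two_right.2 h1).pow_right (K.n + 1)) dvd_rfl h2)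

theorem eq_of_mul_eq {a b : G} (ha : a ∈ K.U) (hb : b ∈ K.U) {s s' : DihedralGroup (2 ^ K.n)}
    (e : a * K.F s = b * K.F s') : a = b ∧ s = s' := by
  have h : K.F (s' * s⁻¹) = b⁻¹ * a := by
    rw [map_mul, map_inv, eq_inv_mul_iff_mul_eq, ← mul_assoc, ← e, mul_inv_cancel_right]
  have h1 := K.eq_one_of_mem (h ▸ mul_mem (inv_mem hb) ha)
  rw [mul_inv_eq_one] at h1
  subst h1
  exact ⟨mul_right_cancel e, rfl⟩

theorem exists_part (c : centralizer ({K.t} : Set G)) :
    ∃ s, ∃ a ∈ K.U, (c : G) = a * K.F s := by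
  obtain ⟨a, ha, s, e⟩ := K.split c (mem_centralizer_singleton_iff.1 c.2)
  exact ⟨s, a, ha, e⟩

/-- The projection of `C(t)` onto the Sylow subgroup. -/
noncomputable def proj : centralizer ({K.t} : Set G) →* DihedralGroup (2 ^ K.n) :=
  MonoidHom.mk' (fun c => (K.exists_part c).choose) fun c d => by
    obtain ⟨a, ha, hc⟩ := (K.exists_part c).choose_spec
    obtain ⟨b, hb, hd⟩ := (K.exists_part d).choose_spec
    obtain ⟨e, he, hcd⟩ := (K.exists_part (c * d)).choose_spec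
    generalize (K.exists_part c).choose = s at hc ⊢
    generalize (K.exists_part d).choose = s' at hd ⊢
    generalize (K.exists_part (c * d)).choose = s'' at hcd ⊢
    refine (K.eq_of_mul_eq he (mul_mem ha (K.conj_mem (K.comm_F s) hb)) ?_).2
    rw [← hcd, Subgroup.coe_mul, hc, hd, map_mul]
    group

theorem exists_eq (c : centralizer ({K.t} : Set G)) : ∃ a ∈ K.U, (c : G) = a * K.F (K.proj c) :=
  (K.exists_part c).choose_spec

theorem proj_eq {c : centralizer ({K.t} : Set G)} {a : G} (ha : a ∈ K.U)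
    {s : DihedralGroup (2 ^ K.n)} (e : (c : G) = a * K.F s) : K.proj c = s := by
  obtain ⟨b, hb, h⟩ := K.exists_eq c
  exact (K.eq_of_mul_eq hb ha (h.symm.trans e)).2

theorem proj_U {c : centralizer ({K.t} : Set G)} (hc : (c : G) ∈ K.U) : K.proj c = 1 :=
  K.proj_eq hc (by rw [map_one, mul_one])

theorem mem_U_iff (c : centralizer ({K.t} : Set G)) : (c : G) ∈ K.U ↔ K.proj c = 1 := by
  refine ⟨K.proj_U, fun h => ?_⟩
  obtain ⟨a, ha, e⟩ := K.exists_eq c
  rwa [e, h, map_one, mul_one]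

/-- `U ⟨ρ⟩`. -/
def R : Subgroup G where
  carrier := {x | ∃ a ∈ K.U, ∃ i : ZMod (2 ^ K.n), x = a * K.F (r i)}
  one_mem' := ⟨1, one_mem _, 0, by rw [r_zero, map_one, mul_one]⟩
  mul_mem' := by
    rintro x y ⟨a, ha, i, rfl⟩ ⟨b, hb, j, rfl⟩
    refine ⟨a * (K.F (r i) * b * (K.F (r i))⁻¹), mul_mem ha (K.conj_mem (K.comm_F _) hb), i + j, ?_⟩
    rw [← r_mul_r, map_mul]; group
  inv_mem' := by
    rintro x ⟨a, ha, i, rfl⟩
    refine ⟨K.F (r (-i)) * a⁻¹ * (K.F (r (-i)))⁻¹, K.conj_mem (K.comm_F _) (inv_mem ha), -i, ?_⟩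
    rw [mul_inv_rev, ← map_inv, inv_r]
    group

theorem U_le_R : K.U ≤ K.R := fun a ha => ⟨a, ha, 0, by rw [r_zero, map_one, mul_one]⟩

theorem R_le : K.R ≤ centralizer ({K.t} : Set G) := by
  rintro x ⟨a, ha, i, rfl⟩
  exact mem_centralizer_singleton_iff.2 ((K.comm_U ha).mul_left (K.comm_F _))

theorem t_mem_R : K.t ∈ K.R := ⟨1, one_mem _, half K.n, by rw [one_mul]; rfl⟩

/-- `t` as an element of `R`. -/
def tR : K.R := ⟨K.t, K.t_mem_R⟩

theorem mem_R_iff (c : centralizer ({K.t} : Set G)) : (c : G) ∈ K.R ↔ ∃ i, K.proj c = r i := by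
  constructor
  · rintro ⟨a, ha, i, e⟩
    exact ⟨i, K.proj_eq ha e⟩
  · rintro ⟨i, hi⟩
    obtain ⟨a, ha, e⟩ := K.exists_eq c
    exact ⟨a, ha, i, by rw [e, hi]⟩

/-- Conjugation of `R` by an element of `C(t)`. -/
theorem conj_mem_R {c x : G} (hc : Commute c K.t) (hx : x ∈ K.R) : c * x * c⁻¹ ∈ K.R := by
  obtain ⟨i, hi⟩ := (K.mem_R_iff ⟨x, K.R_le hx⟩).1 hx
  set c' : centralizer ({K.t} : Set G) := ⟨c, mem_centralizer_singleton_iff.2 hc⟩
  refine (K.mem_R_iff (c' * ⟨x, K.R_le hx⟩ * c'⁻¹)).2 ?_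
  rw [map_mul, map_mul, map_inv, hi]
  generalize K.proj c' = s
  rcases s with k | k
  · exact ⟨i, by simp [r_mul_r]⟩
  · exact ⟨-i, by simp [sr_mul_r, sr_mul_sr]⟩

/-- The rotation number. -/
noncomputable def rotNum (x : K.R) : ZMod (2 ^ K.n) :=
  ((K.mem_R_iff ⟨x, K.R_le x.2⟩).1 x.2).choose

theorem proj_R (x : K.R) : K.proj ⟨x, K.R_le x.2⟩ = r (K.rotNum x) :=
  ((K.mem_R_iff ⟨x, K.R_le x.2⟩).1 x.2).choose_spec

theorem rotNum_mul (x y : K.R) : K.rotNum (x * y) = K.rotNum x + K.rotNum y := by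
  have h : r (K.rotNum (x * y)) = r (K.rotNum x) * r (K.rotNum y) := by
    rw [← proj_R, ← proj_R, ← proj_R, ← map_mul]; rfl
  rwa [r_mul_r, r.injEq] at h

theorem rotNum_eq_zero_iff (x : K.R) : K.rotNum x = 0 ↔ (x : G) ∈ K.U := by
  rw [K.mem_U_iff ⟨x, K.R_le x.2⟩, proj_R, one_def, r.injEq]

theorem rotNum_tR : K.rotNum K.tR = half K.n := by
  have h := K.proj_eq (c := ⟨K.tR, K.R_le K.tR.2⟩) (one_mem _) (s := r (half K.n))
    (by rw [one_mul]; rfl)
  rwa [proj_R, r.injEq] at h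

theorem rotNum_conj {c : G} (hc : Commute c K.t) (x : K.R) {k : ZMod (2 ^ K.n)}
    (hk : K.proj ⟨c, mem_centralizer_singleton_iff.2 hc⟩ = sr k) :
    K.rotNum ⟨c * x * c⁻¹, K.conj_mem_R hc x.2⟩ = -K.rotNum x := by
  set c' : centralizer ({K.t} : Set G) := ⟨c, mem_centralizer_singleton_iff.2 hc⟩
  have h : r (K.rotNum ⟨c * x * c⁻¹, K.conj_mem_R hc x.2⟩) = sr k * r (K.rotNum x) * (sr k)⁻¹ := by
    rw [← hk, ← proj_R, ← proj_R, ← map_inv, ← map_mul, ← map_mul]; rfl
  rw [inv_sr, sr_mul_r, sr_mul_sr, r.injEq] at h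
  rw [h]; ring

/-! ## The linear characters of `R / U` -/

/-- A primitive root of unity of order `2 ^ n`. -/
noncomputable def zeta : ℂ := Complex.exp (2 * Real.pi * Complex.I / ((2 ^ K.n : ℕ) : ℂ))

omit [Finite G] in
theorem zeta_primitive : IsPrimitiveRoot K.zeta (2 ^ K.n) :=
  Complex.isPrimitiveRoot_exp _ (pow_ne_zero _ two_ne_zero)

/-- A faithful linear character of `R / U`. -/
noncomputable def nu : K.R →* ℂˣ :=
  MonoidHom.toHomUnits
    { toFun := fun x => AddChar.zmodChar (2 ^ K.n) K.zeta_primitive.pow_eq_one (K.rotNum x)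
      map_one' := by
        rw [(K.rotNum_eq_zero_iff 1).2 (one_mem _), AddChar.map_zero_eq_one]
      map_mul' := fun x y => by rw [rotNum_mul, AddChar.map_add_eq_mul] }

theorem nu_apply (x : K.R) : (K.nu x : ℂ) = K.zeta ^ (K.rotNum x).val := rfl

theorem nu_eq_one_iff (x : K.R) : K.nu x = 1 ↔ (x : G) ∈ K.U := by
  rw [← K.rotNum_eq_zero_iff, Units.ext_iff, nu_apply, Units.val_one]
  refine ⟨fun h => ?_, fun h => by rw [h, ZMod.val_zero, pow_zero]⟩
  refine (ZMod.val_eq_zero _).1 (Nat.eq_zero_of_dvd_of_lt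
    ((K.zeta_primitive.pow_eq_one_iff_dvd _).1 h) (ZMod.val_lt _))

theorem nu_U (a : K.U) : K.nu ⟨a, K.U_le_R a.2⟩ = 1 := (K.nu_eq_one_iff _).2 a.2

theorem nu_pow_card : K.nu ^ (2 ^ K.n) = 1 := MonoidHom.ext fun x => Units.ext (by
  rw [MonoidHom.pow_apply, Units.val_pow_eq_pow_val, nu_apply, ← pow_mul, mul_comm, pow_mul,
    K.zeta_primitive.pow_eq_one, one_pow, MonoidHom.one_apply, Units.val_one])

theorem nu_tR : (K.nu K.tR : ℂ) = -1 := by
  have h : K.nu K.tR * K.nu K.tR = 1 := by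
    rw [← map_mul, show K.tR * K.tR = 1 from Subtype.ext (involution_sq K.ht), map_one]
  have h' : (K.nu K.tR : ℂ) * (K.nu K.tR : ℂ) = 1 := by
    rw [← Units.val_mul, h, Units.val_one]
  refine (mul_self_eq_one_iff.1 h').resolve_left fun e => ?_
  have h1 := (K.nu_eq_one_iff K.tR).1 (Units.ext e)
  exact half_ne_zero K.one_le (r.inj ((K.eq_one_of_mem (s := r (half K.n)) h1).trans one_def))

theorem sum_nu (x : K.R)
    [Decidable ((x : G) ∈ K.U)] :
    ∑ i ∈ Finset.range (2 ^ K.n), (K.nu x : ℂ) ^ i = if (x : G) ∈ K.U then (2 ^ K.n : ℂ) else 0 := by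
  split_ifs with h
  · rw [(K.nu_eq_one_iff x).2 h]; simp
  · rw [geom_sum_eq (fun e => h ((K.nu_eq_one_iff x).1 (Units.ext e))),
      show (K.nu x : ℂ) ^ (2 ^ K.n) = 1 from ?_, sub_self, zero_div]
    have h1 := congrArg (fun f : K.R →* ℂˣ => (f x : ℂ)) K.nu_pow_card
    simpa using h1

theorem commute_w (i : Bool) : Commute (K.w i) K.t := K.comm_F _

theorem proj_w (i : Bool) (h : K.w i ∈ centralizer ({K.t} : Set G)) :
    K.proj ⟨K.w i, h⟩ = sr (if i then 1 else 0) :=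
  K.proj_eq (one_mem _) (by rw [one_mul]; rfl)

/-- Conjugation of `R` by the first reflection. -/
def conjR : K.R →* K.R :=
  MonoidHom.mk' (fun x => ⟨K.w false * x * (K.w false)⁻¹, K.conj_mem_R (K.commute_w false) x.2⟩)
    fun x y => Subtype.ext (by simp [mul_assoc])

theorem conjR_apply (x : K.R) : (K.conjR x : G) = K.w false * x * (K.w false)⁻¹ := rfl

omit [Finite G] in
theorem w_sq (i : Bool) : K.w i * K.w i = 1 := by
  rw [w, ← map_mul, sr_mul_self, map_one]

theorem conjR_conjR (x : K.R) : K.conjR (K.conjR x) = x := Subtype.ext (by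
  rw [conjR_apply, conjR_apply,
    show K.w false * (K.w false * x * (K.w false)⁻¹) * (K.w false)⁻¹ =
      K.w false * K.w false * x * (K.w false * K.w false)⁻¹ by group, w_sq]
  group)

theorem nu_conjR (x : K.R) : K.nu (K.conjR x) = (K.nu x)⁻¹ := by
  have h : K.rotNum (K.conjR x) + K.rotNum x = 0 := by
    rw [show K.rotNum (K.conjR x) = _ from K.rotNum_conj (K.commute_w false) x
      (K.proj_w false _), neg_add_cancel]
  rw [← K.rotNum_mul, K.rotNum_eq_zero_iff, ← K.nu_eq_one_iff, map_mul] at h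
  exact eq_inv_of_mul_eq_one_left h

end Ctx

end CfsgLib.GW.DLin
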