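import Cfsg.Agent.Lib.GW.Dne.Linear.Vanish

/-!
# Degrees of the classes over non-linear characters of `U`
-/

set_option autoImplicit false

open scoped Classical

namespace CfsgLib.GW.DLin

open Subgroup DihedralGroup Cfsg CfsgLib.Char CfsgLib.CharDegree
open CfsgLib.TwoGroups CfsgLib.TwoGroups.Dihedral
open scoped ComplexConjugate

universe v

namespace Ctx

variable {G : Type v} [Group G] [Fintype G] (K : Ctx G)

theorem resR_one (η : IrrCharacter K.R) : K.resR η 1 = (charDegree (η : K.R → ℂ) : ℂ) := by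
  rw [resR, map_one, Blocks.apply_one_eq_charDegree]

theorem Same.charDegree_eq {η η' : IrrCharacter K.R} (h : K.Same η η') :
    charDegree (η : K.R → ℂ) = charDegree (η' : K.R → ℂ) :=
  Nat.cast_injective (R := ℂ) (by
    rw [← Blocks.apply_one_eq_charDegree, ← Blocks.apply_one_eq_charDegree]
    exact h 1 (one_mem K.U))

theorem charDegree_bar (η : IrrCharacter K.R) :
    charDegree (K.bar η : K.R → ℂ) = charDegree (η : K.R → ℂ) :=
  Nat.cast_injective (R := ℂ) (by
    rw [← Blocks.apply_one_eq_charDegree, ← Blocks.apply_one_eq_charDegree, bar_apply, map_one])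

/-- Constituents on `U` have multiplicity one. -/
theorem classInner_resR_eq_one {η : IrrCharacter K.R} {θ : IrrCharacter K.U}
    (h : classInner (K.resR η) (θ : K.U → ℂ) ≠ 0) : classInner (K.resR η) (θ : K.U → ℂ) = 1 := by
  have := Fintype.ofFinite K.nu.ker
  have hcyc : IsCyclic (K.R ⧸ K.nu.ker) := by
    refine isCyclic_of_subgroup_isDomain
      ((Units.coeHom ℂ).comp (QuotientGroup.kerLift K.nu)) ?_
    exact Units.val_injective.comp (QuotientGroup.kerLift_injective K.nu)
  set θ₁ : IrrCharacter K.nu.ker := ⟨fun x => (θ : K.U → ℂ) (K.kerEquiv x),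
    IsIrr.comp_surjective K.kerEquiv.toMonoidHom K.kerEquiv.surjective θ.2⟩
  have tr : ∀ η' : IrrCharacter K.R,
      classInner (fun x : K.nu.ker => (η' : K.R → ℂ) x) (θ₁ : K.nu.ker → ℂ) =
        classInner (K.resR η') (θ : K.U → ℂ) := fun η' =>
    CfsgLib.Clifford.classInner_comp_equiv K.kerEquiv (K.resR η') (θ : K.U → ℂ)
  obtain ⟨ψ, hψ⟩ := CfsgLib.NoDiv.exists_inertia_ext (N := K.nu.ker) hcyc θ₁
  have h1 : classInner (fun x : K.nu.ker => (hψ.indIrr : K.R → ℂ) x) (θ₁ : K.nu.ker → ℂ) = 1 :=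
    hψ.classInner_restrict_indFun
  rw [tr] at h1
  rw [K.classInner_resR_eq (K.same_of_common (θ := θ) h (by rw [h1]; exact one_ne_zero)), h1]

variable [Fintype (IrrCharacter K.R)]

theorem card_R : Nat.card K.R = 2 ^ K.n * Nat.card K.U := by
  set η : IrrCharacter K.R := K.good_one.ext
  have h := K.sum_U_eq η η
  have hone : ∀ x : K.R, (x : G) ∈ K.U →
      (η : K.R → ℂ) x * conj ((η : K.R → ℂ) x) = 1 := fun x _ => by
    show (1 : ℂ) * conj (1 : ℂ) = 1
    rw [map_one, one_mul]
  rw [Finset.sum_congr rfl fun x hx => hone x (Finset.mem_filter.1 hx).2, Finset.sum_const, nsmul_one,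
    Finset.sum_eq_single_of_mem 0 (Finset.mem_range.2 (Nat.two_pow_pos _)) fun i hi hne => if_neg ?_,
    if_pos (K.tw_zero η).symm, mul_one] at h
  · have hc : (Finset.univ.filter fun x : K.R => (x : G) ∈ K.U).card = Nat.card K.U := by
      rw [Nat.card_eq_fintype_card, ← Finset.card_univ]
      exact Finset.card_bij' (fun x hx => ⟨x, (Finset.mem_filter.1 hx).2⟩) (fun y _ => K.inc y)
        (fun _ _ => Finset.mem_univ _) (fun y _ => Finset.mem_filter.2 ⟨Finset.mem_univ _, y.2⟩)
        (fun _ _ => rfl) fun _ _ => rfl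
    rw [hc] at h
    exact_mod_cast h.symm
  · intro e
    refine hne (Nat.eq_zero_of_dvd_of_lt ((K.per_dvd_iff η).1 e.symm) ?_)
    rw [K.good_one.per_ext]
    exact Finset.mem_range.1 hi

/-- The degrees of a class add up to those of the induced character. -/
theorem sum_degree_cls {η : IrrCharacter K.R} {θ : IrrCharacter K.U}
    (h : classInner (K.resR η) (θ : K.U → ℂ) ≠ 0) :
    ∑ η' ∈ K.cls η, charDegree (η' : K.R → ℂ) = 2 ^ K.n * charDegree (θ : K.U → ℂ) := by
  have h1 : ∑ η' : IrrCharacter K.R, classInner (K.resR η') (θ : K.U → ℂ) * (charDegree (η' : K.R → ℂ) : ℂ) =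
      ∑ η' ∈ K.cls η, (charDegree (η' : K.R → ℂ) : ℂ) := by
    rw [← Finset.sum_subset (Finset.subset_univ (K.cls η)) fun η' _ hη' => ?_]
    · refine Finset.sum_congr rfl fun η' hη' => ?_
      rw [K.classInner_resR_eq (K.mem_cls.1 hη'), K.classInner_resR_eq_one h, one_mul]
    · rw [mul_eq_zero]
      refine Or.inl (by_contra fun hne => hη' (K.mem_cls.2 (K.same_of_common hne h)))
  have h2 : ∑ η' : IrrCharacter K.R, classInner (K.resR η') (θ : K.U → ℂ) * (charDegree (η' : K.R → ℂ) : ℂ) =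
      (Nat.card K.U : ℂ)⁻¹ * ((θ : K.U → ℂ) 1 * (Nat.card K.R : ℂ)) := by
    simp only [classInner, mul_assoc, ← Finset.mul_sum, Finset.sum_mul]
    congr 1
    rw [Finset.sum_comm]
    have hcol : ∀ y : K.U, ∑ η' : IrrCharacter K.R, K.resR η' y * (charDegree (η' : K.R → ℂ) : ℂ) =
        if y = 1 then (Nat.card K.R : ℂ) else 0 := by
      intro y
      have hc := column_orthogonality (K.inc y) (1 : K.R)
      simp only [Blocks.apply_one_eq_charDegree, map_natCast] at hc
      refine hc.trans ?_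
      by_cases hy : y = 1
      · subst hy
        rw [map_one, if_pos (IsConj.refl _), if_pos rfl,
          show centralizer ({(1 : K.R)} : Set K.R) = ⊤ from eq_top_iff.2 fun x _ =>
            mem_centralizer_singleton_iff.2 (Commute.one_right x), card_top]
      · rw [if_neg hy, if_neg fun hc' => hy ?_]
        exact Subgroup.inclusion_injective K.U_le_R ((isConj_one_left.1 hc').trans (map_one _).symm)
    rw [Finset.sum_congr rfl fun y _ => show ∑ η' : IrrCharacter K.R,
        K.resR η' y * (conj ((θ : K.U → ℂ) y) * (charDegree (η' : K.R → ℂ) : ℂ)) =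
        conj ((θ : K.U → ℂ) y) * (if y = 1 then (Nat.card K.R : ℂ) else 0) by
      rw [← hcol, Finset.mul_sum]; exact Finset.sum_congr rfl fun _ _ => by ring]
    rw [Finset.sum_eq_single (1 : K.U) (fun y _ hy => by rw [if_neg hy, mul_zero]) (by simp), if_pos rfl,
      Blocks.apply_one_eq_charDegree, map_natCast]
  rw [h1, K.card_R, Blocks.apply_one_eq_charDegree, Nat.cast_mul, mul_left_comm _ (charDegree _ : ℂ)] at h2
  refine Nat.cast_injective (R := ℂ) ?_
  rw [Nat.cast_sum, h2]
  have hc0 : (Nat.card K.U : ℂ) ≠ 0 := Nat.cast_ne_zero.2 Nat.card_pos.ne'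
  push_cast
  field_simp

/-- A non-trivial character has a class over a non-linear character of `U`. -/
theorem exists_big [IsSimpleGroup G] (hU : ∃ x y : K.U, x * y ≠ y * x) {χ : IrrCharacter G}
    (hχ1 : χ ≠ trivChar G) : ∃ ξ, 1 ≤ K.m ξ χ ∧ 3 * 2 ^ K.n ≤ ∑ η ∈ K.cls ξ, charDegree (η : K.R → ℂ) ∧
      ∀ η ∈ K.cls ξ, 3 ≤ charDegree (η : K.R → ℂ) := by
  have := Fintype.ofFinite (IrrCharacter K.U)
  obtain ⟨θ, hθ, hθ1⟩ : ∃ θ : IrrCharacter K.U,
      classInner (K.resU χ) (θ : K.U → ℂ) ≠ 0 ∧ (θ : K.U → ℂ) 1 ≠ 1 := by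
    by_contra hc
    push Not at hc
    obtain ⟨a, b, hab⟩ := hU
    set y : K.U := a * b * a⁻¹ * b⁻¹ with hy
    have hy1 : y ≠ 1 := fun q => hab (by rw [hy, mul_inv_eq_one, mul_inv_eq_iff_eq_mul] at q; exact q)
    have hres := classFunction_apply_eq_sum (θ := K.resU χ)
      (IsChar.isClassFunction (IsChar.restrict K.U (IsIrr.isCharacter χ.2)))
    have hval : (χ : G → ℂ) (y : G) = (χ : G → ℂ) 1 := by
      refine (hres y).trans (Eq.trans ?_ ((hres 1).symm.trans (by simp [resU])))
      refine Finset.sum_congr rfl fun θ _ => ?_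
      rcases eq_or_ne (classInner (K.resU χ) (θ : K.U → ℂ)) 0 with h0 | h0
      · rw [h0, zero_mul, zero_mul]
      · obtain ⟨lam, hlam⟩ := exists_linear_of_degree_one (IsIrr.isCharacter θ.2) (hc θ h0)
        congr 1
        have hl1 : lam y = 1 := by
          rw [hy, map_mul, map_mul, map_mul, map_inv, map_inv]
          simp [mul_comm (lam a) (lam b)]
        simp only [hlam, hl1, map_one]
    have hker : (y : G) ∈ CharDegree.kerSubgroup χ := (CharDegree.mem_kerSubgroup).2 hval
    rcases (CharDegree.kerSubgroup_normal χ).eq_bot_or_eq_top with q | q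
    · rw [q, Subgroup.mem_bot] at hker
      exact hy1 (Subtype.ext hker)
    · have hall : ∀ g, (χ : G → ℂ) g = (χ : G → ℂ) 1 := fun g =>
        (CharDegree.mem_kerSubgroup).1 (q ▸ mem_top g)
      have hi := Char.classInner_irr χ (trivChar G)
      rw [if_neg hχ1, classInner] at hi
      simp only [hall, trivChar_apply, map_one, mul_one, Finset.sum_const, Finset.card_univ,
        ← Nat.card_eq_fintype_card, nsmul_eq_mul, ← mul_assoc,
        inv_mul_cancel₀ (Nat.cast_ne_zero.2 (Nat.card_pos (α := G)).ne' : (Nat.card G : ℂ) ≠ 0), one_mul] at hi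
      exact Char.IsIrr.apply_one_ne_zero χ.2 hi
  rw [K.classInner_resU] at hθ
  obtain ⟨ξ, -, hξ⟩ := Finset.exists_ne_zero_of_sum_ne_zero hθ
  have hm : 1 ≤ K.m ξ χ := Nat.one_le_iff_ne_zero.2 fun q => left_ne_zero_of_mul hξ (by rw [q, Nat.cast_zero])
  have hξθ := right_ne_zero_of_mul hξ
  have hd3 : 3 ≤ charDegree (θ : K.U → ℂ) := by
    obtain ⟨k, hk⟩ := K.hUodd.of_dvd_nat (CfsgLib.CharDegree.charDegree_dvd_card θ)
    have hne : charDegree (θ : K.U → ℂ) ≠ 1 := fun q => hθ1 (by
      rw [Blocks.apply_one_eq_charDegree, q, Nat.cast_one])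
    omega
  refine ⟨ξ, hm, ?_, fun η hη => ?_⟩
  · rw [K.sum_degree_cls hξθ, mul_comm 3]
    exact Nat.mul_le_mul le_rfl hd3
  rw [(K.mem_cls.1 hη).charDegree_eq K]
  refine hd3.trans ?_
  have hchar : IsCharacter K.U (K.resR ξ) := IsChar.comp K.inc (IsIrr.isCharacter ξ.2)
  choose c hc using fun ψ : IrrCharacter K.U => IsChar.classInner_eq_natCast hchar (IsIrr.isCharacter ψ.2)
  have hs := classFunction_apply_eq_sum (θ := K.resR ξ) (IsChar.isClassFunction hchar) 1
  rw [resR_one] at hs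
  simp only [hc, Blocks.apply_one_eq_charDegree] at hs
  have hs' : charDegree (ξ : K.R → ℂ) = ∑ ψ : IrrCharacter K.U, c ψ * charDegree (ψ : K.U → ℂ) := by
    exact_mod_cast hs
  have hcθ : 1 ≤ c θ := Nat.one_le_iff_ne_zero.2 fun q => hξθ (by rw [hc, q, Nat.cast_zero])
  rw [hs']
  exact le_trans (Nat.le_mul_of_pos_left _ hcθ)
    (Finset.single_le_sum (f := fun ψ => c ψ * charDegree (ψ : K.U → ℂ)) (fun _ _ => Nat.zero_le _)
      (Finset.mem_univ θ))

/-- The degree as a sum over `R`. -/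
theorem charDegree_eq_sum (χ : IrrCharacter G) :
    charDegree (χ : G → ℂ) = ∑ η : IrrCharacter K.R, K.m η χ * charDegree (η : K.R → ℂ) := by
  have hs := K.apply_eq_sum χ 1
  rw [OneMemClass.coe_one] at hs
  simp only [Blocks.apply_one_eq_charDegree] at hs
  exact_mod_cast hs

noncomputable local instance (priority := 10000) irrDecEq₂ {A : Type v} [Group A] :
    DecidableEq (IrrCharacter A) := fun a b => Classical.propDecidable (a = b)

/-- A class with constant multiplicity, or a moved class of two members, carries three times `2 ^ n`. -/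
theorem big_le {ξ : IrrCharacter K.R} {χ : IrrCharacter G} (hm : 1 ≤ K.m ξ χ)
    (hbig : 3 * 2 ^ K.n ≤ ∑ η ∈ K.cls ξ, charDegree (η : K.R → ℂ))
    (h : (∀ η ∈ K.cls ξ, K.m η χ = K.m ξ χ) ∨ (¬ K.Same (K.bar ξ) ξ ∧ K.tw ξ 2 = ξ)) :
    3 * 2 ^ K.n ≤ ∑ η ∈ K.cls ξ ∪ {ξ, K.bar ξ}, K.m η χ * charDegree (η : K.R → ℂ) := by
  rcases h with h | ⟨hb, h2⟩
  · refine hbig.trans (le_trans ?_ (Finset.sum_le_sum_of_subset Finset.subset_union_left))
    refine Finset.sum_le_sum fun η hη => Nat.le_mul_of_pos_left _ ?_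
    rw [h η hη]; omega
  · have hne : ξ ≠ K.bar ξ := fun q => hb (by rw [← q]; exact fun _ _ => rfl)
    refine hbig.trans (le_trans ?_ (Finset.sum_le_sum_of_subset Finset.subset_union_right))
    rw [Finset.sum_pair hne, K.m_bar, K.charDegree_bar, Finset.sum_congr rfl fun η hη =>
      (K.mem_cls.1 hη).charDegree_eq K, Finset.sum_const, smul_eq_mul, ← two_mul]
    have hsub : K.cls ξ ⊆ {ξ, K.tw ξ 1} := fun η hη => by
      obtain ⟨i, -, rfl⟩ := (K.mem_cls.1 hη).exists_tw K
      have hp : K.per ξ ≤ 2 := Nat.le_of_dvd two_pos ((K.per_dvd_iff ξ).1 h2)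
      have := Nat.mod_lt i (K.per_spec ξ).1
      rw [← K.tw_mod ξ i, Finset.mem_insert, Finset.mem_singleton]
      rcases Nat.eq_zero_or_pos (i % K.per ξ) with e | e
      · left; rw [e, tw_zero]
      · right; rw [show i % K.per ξ = 1 by omega]
    have hc : (K.cls ξ).card ≤ 2 := (Finset.card_le_card hsub).trans Finset.card_le_two
    calc (K.cls ξ).card * charDegree (ξ : K.R → ℂ) ≤ 2 * charDegree (ξ : K.R → ℂ) := Nat.mul_le_mul hc le_rfl
      _ ≤ _ := Nat.mul_le_mul le_rfl (Nat.le_mul_of_pos_left _ hm)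

end Ctx

end CfsgLib.GW.DLin
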