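import Cfsg.Agent.Lib.GW.Dne.Linear.Twist

/-!
# The twist classes of characters of `R = U ⟨ρ⟩`
-/

set_option autoImplicit false

open scoped Classical

namespace CfsgLib.GW.DLin

open Subgroup DihedralGroup Cfsg CfsgLib.Char CfsgLib.CharDegree
open scoped ComplexConjugate
open CfsgLib.Signalizer (involution_sq involution_inv involution_ne_one orderOf_conj)

universe v

namespace Ctx

variable {G : Type v} [Group G] [Fintype G] (K : Ctx G)

theorem tR_mul_self : K.tR * K.tR = 1 := Subtype.ext (involution_sq K.ht)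

theorem tR_comm (x : K.R) : Commute x K.tR :=
  Subtype.ext (mem_centralizer_singleton_iff.1 (K.R_le x.2))

theorem apply_tR_mul_aux (ξ : IrrCharacter K.R) (x : K.R) :
    (ξ : K.R → ℂ) (K.tR * x) = (ξ : K.R → ℂ) K.tR * (ξ : K.R → ℂ) x / (ξ : K.R → ℂ) 1 := by
  have h := CfsgLib.CharDegree.sum_conj_mul ξ K.tR x
  rw [Finset.sum_congr rfl fun a _ => show (ξ : K.R → ℂ) (a * K.tR * a⁻¹ * x) = (ξ : K.R → ℂ) (K.tR * x) by
    rw [(K.tR_comm a).eq, mul_inv_cancel_right], Finset.sum_const, Finset.card_univ, nsmul_eq_mul,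
    ← Nat.card_eq_fintype_card, mul_assoc, mul_div_assoc] at h
  exact mul_left_cancel₀ (Nat.cast_ne_zero.2 Nat.card_pos.ne') h

theorem apply_tR (ξ : IrrCharacter K.R) :
    (ξ : K.R → ℂ) K.tR = (ξ : K.R → ℂ) 1 ∨ (ξ : K.R → ℂ) K.tR = -(ξ : K.R → ℂ) 1 := by
  have h := K.apply_tR_mul_aux ξ K.tR
  rw [K.tR_mul_self, eq_div_iff (IsIrr.apply_one_ne_zero ξ.2)] at h
  exact mul_self_eq_mul_self_iff.1 h.symm

/-- The sign of `t`. -/
noncomputable def eps (ξ : IrrCharacter K.R) : ℤ :=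
  if (ξ : K.R → ℂ) K.tR = (ξ : K.R → ℂ) 1 then 1 else -1

theorem eps_cases (ξ : IrrCharacter K.R) : K.eps ξ = 1 ∨ K.eps ξ = -1 := by
  unfold eps; split <;> simp

theorem apply_tR_eq (ξ : IrrCharacter K.R) :
    (ξ : K.R → ℂ) K.tR = (K.eps ξ : ℂ) * (ξ : K.R → ℂ) 1 := by
  unfold eps
  split_ifs with h
  · rw [h]; simp
  · rw [(K.apply_tR ξ).resolve_left h]; simp

theorem apply_tR_mul (ξ : IrrCharacter K.R) (x : K.R) :
    (ξ : K.R → ℂ) (K.tR * x) = (K.eps ξ : ℂ) * (ξ : K.R → ℂ) x := by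
  rw [K.apply_tR_mul_aux, K.apply_tR_eq]
  field_simp [IsIrr.apply_one_ne_zero ξ.2]

theorem eps_tw_one (ξ : IrrCharacter K.R) : K.eps (K.tw ξ 1) = -K.eps ξ := by
  have h := K.apply_tR_eq (K.tw ξ 1)
  rw [tw_apply, tw_apply, pow_one, pow_one, nu_tR, map_one, Units.val_one, mul_one, K.apply_tR_eq] at h
  have h' : (K.eps ξ : ℂ) * (-1) = (K.eps (K.tw ξ 1) : ℂ) :=
    mul_right_cancel₀ (IsIrr.apply_one_ne_zero ξ.2) (by rw [← h]; ring)
  have h'' : K.eps ξ * (-1) = K.eps (K.tw ξ 1) := by exact_mod_cast h'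
  omega

theorem tw_zero (ξ : IrrCharacter K.R) : K.tw ξ 0 = ξ := irr_ext fun x => by simp [tw_apply]

theorem tw_tw (ξ : IrrCharacter K.R) (i j : ℕ) : K.tw (K.tw ξ i) j = K.tw ξ (i + j) :=
  irr_ext fun x => by simp [tw_apply, pow_add]; ring

theorem eps_tw (ξ : IrrCharacter K.R) (i : ℕ) : K.eps (K.tw ξ i) = (-1) ^ i * K.eps ξ := by
  induction i with
  | zero => simp [tw_zero]
  | succ i ih => rw [← tw_tw, eps_tw_one, ih, pow_succ]; ring

theorem eps_bar (ξ : IrrCharacter K.R) : K.eps (K.bar ξ) = K.eps ξ := by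
  have h : K.conjR K.tR = K.tR := Subtype.ext (by
    show K.w false * K.t * (K.w false)⁻¹ = K.t
    rw [(K.commute_w false).eq, mul_inv_cancel_right])
  simp only [eps, bar_apply, h, map_one]

theorem eps_intCast_ne (ξ : IrrCharacter K.R) : (K.eps ξ : ℂ) ≠ 0 := by
  rcases K.eps_cases ξ with e | e <;> simp [e]

/-- Characters with the same restriction to `U`. -/
noncomputable def cls [Fintype (IrrCharacter K.R)] (ξ : IrrCharacter K.R) : Finset (IrrCharacter K.R) :=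
  Finset.univ.filter fun η => K.Same η ξ

variable [Fintype (IrrCharacter K.R)]

theorem mem_cls {ξ η : IrrCharacter K.R} : η ∈ K.cls ξ ↔ K.Same η ξ := by simp [cls]

theorem self_mem_cls (ξ : IrrCharacter K.R) : ξ ∈ K.cls ξ := K.mem_cls.2 fun _ _ => rfl

theorem cls_eq {ξ η : IrrCharacter K.R} (h : η ∈ K.cls ξ) : K.cls η = K.cls ξ := by
  ext ζ
  rw [mem_cls, mem_cls]
  exact ⟨fun h' => h'.trans K (K.mem_cls.1 h), fun h' => h'.trans K ((K.mem_cls.1 h).symm K)⟩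

/-- The signed multiplicity of a class. -/
noncomputable def a (ξ : IrrCharacter K.R) (χ : IrrCharacter G) : ℤ :=
  ∑ η ∈ K.cls ξ, K.eps η * K.m η χ

theorem sum_eps (ξ : IrrCharacter K.R) : ∑ η ∈ K.cls ξ, K.eps η = 0 := by
  have h : ∑ η ∈ K.cls ξ, K.eps η = ∑ η ∈ K.cls ξ, -K.eps η := by
    refine Finset.sum_nbij' (fun η => K.tw η (2 ^ K.n - 1)) (fun η => K.tw η 1) ?_ ?_ ?_ ?_ ?_
    · exact fun η hη => K.mem_cls.2 ((K.same_tw η _).trans K (K.mem_cls.1 hη))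
    · exact fun η hη => K.mem_cls.2 ((K.same_tw η _).trans K (K.mem_cls.1 hη))
    · intro η _
      rw [tw_tw, Nat.sub_add_cancel Nat.one_le_two_pow]
      exact irr_ext fun x => by
        rw [tw_apply, ← Units.val_pow_eq_pow_val, ← MonoidHom.pow_apply, nu_pow_card, MonoidHom.one_apply,
          Units.val_one, mul_one]
    · intro η _
      rw [tw_tw, Nat.add_sub_cancel' Nat.one_le_two_pow]
      exact irr_ext fun x => by
        rw [tw_apply, ← Units.val_pow_eq_pow_val, ← MonoidHom.pow_apply, nu_pow_card, MonoidHom.one_apply,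
          Units.val_one, mul_one]
    · intro η _
      have hodd : Odd (2 ^ K.n - 1) := Nat.Even.sub_odd Nat.one_le_two_pow
        (Nat.even_pow.2 ⟨even_two, by have := K.two_le; omega⟩) odd_one
      rw [eps_tw, hodd.neg_one_pow]; ring
  rw [Finset.sum_neg_distrib] at h
  omega

/-- The signed multiplicity through differences. -/
theorem a_eq_sum_d (ξ : IrrCharacter K.R) {η₀ : IrrCharacter K.R} (χ : IrrCharacter G) :
    K.a ξ χ = -∑ η ∈ K.cls ξ, K.eps η * K.d η₀ η χ := by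
  have h : ∑ η ∈ K.cls ξ, K.eps η * K.d η₀ η χ =
      (∑ η ∈ K.cls ξ, K.eps η) * (K.m η₀ χ : ℤ) - K.a ξ χ := by
    rw [Finset.sum_mul, a, ← Finset.sum_sub_distrib]
    exact Finset.sum_congr rfl fun η _ => by rw [d]; ring
  rw [h, sum_eps]; ring

theorem apply_t_mul (χ : IrrCharacter G) (x : K.R) :
    (χ : G → ℂ) (K.t * (x : G)) =
      ∑ ξ : IrrCharacter K.R, (K.eps ξ : ℂ) * (K.m ξ χ : ℂ) * (ξ : K.R → ℂ) x := by
  rw [show K.t * (x : G) = ((K.tR * x : K.R) : G) from rfl, K.apply_eq_sum]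
  exact Finset.sum_congr rfl fun ξ _ => by rw [apply_tR_mul]; ring

/-! ## Periods -/

theorem exists_period (ξ : IrrCharacter K.R) : ∃ p, 0 < p ∧ K.tw ξ p = ξ :=
  ⟨2 ^ K.n, Nat.two_pow_pos _, irr_ext fun x => by
    rw [tw_apply, ← Units.val_pow_eq_pow_val, ← MonoidHom.pow_apply, nu_pow_card, MonoidHom.one_apply,
      Units.val_one, mul_one]⟩

/-- The least period under twisting. -/
noncomputable def per (ξ : IrrCharacter K.R) : ℕ := Nat.find (K.exists_period ξ)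

theorem per_spec (ξ : IrrCharacter K.R) : 0 < K.per ξ ∧ K.tw ξ (K.per ξ) = ξ :=
  Nat.find_spec (K.exists_period ξ)

theorem tw_add_period_mul (ξ : IrrCharacter K.R) (i k : ℕ) :
    K.tw ξ (i + K.per ξ * k) = K.tw ξ i := by
  induction k with
  | zero => simp
  | succ k ih =>
    rw [show i + K.per ξ * (k + 1) = K.per ξ + (i + K.per ξ * k) by ring, ← tw_tw, (K.per_spec ξ).2, ih]

theorem tw_mod (ξ : IrrCharacter K.R) (i : ℕ) : K.tw ξ (i % K.per ξ) = K.tw ξ i := by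
  conv_rhs => rw [← Nat.mod_add_div i (K.per ξ)]
  rw [tw_add_period_mul]

theorem per_dvd_iff (ξ : IrrCharacter K.R) {i : ℕ} : K.tw ξ i = ξ ↔ K.per ξ ∣ i := by
  constructor
  · intro h
    refine Nat.dvd_of_mod_eq_zero (by_contra fun h0 => ?_)
    exact Nat.find_min (K.exists_period ξ) (Nat.mod_lt i (K.per_spec ξ).1)
      ⟨Nat.pos_of_ne_zero h0, (K.tw_mod ξ i).trans h⟩
  · rintro ⟨k, rfl⟩
    have := K.tw_add_period_mul ξ 0 k
    rwa [zero_add, tw_zero] at this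

theorem even_per (ξ : IrrCharacter K.R) : Even (K.per ξ) := by
  have h := K.eps_tw ξ (K.per ξ)
  rw [(K.per_spec ξ).2] at h
  rcases Nat.even_or_odd (K.per ξ) with e | e
  · exact e
  · rw [e.neg_one_pow] at h
    rcases K.eps_cases ξ with e' | e' <;> omega

/-! ## Classes fixed by the reflection -/

theorem exists_fixed {ξ : IrrCharacter K.R} (h : K.Same (K.bar ξ) ξ) : ∃ η ∈ K.cls ξ, K.bar η = η := by
  obtain ⟨c, -, hc⟩ := h.exists_tw K
  have he := K.eps_tw ξ c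
  rw [← hc, eps_bar] at he
  obtain ⟨k, rfl⟩ : Even c := by
    rcases Nat.even_or_odd c with e | e
    · exact e
    · rw [e.neg_one_pow] at he
      rcases K.eps_cases ξ with e' | e' <;> omega
  refine ⟨K.tw ξ k, K.mem_cls.2 (K.same_tw ξ k), irr_ext fun x => ?_⟩
  rw [bar_apply, tw_apply, ← bar_apply, hc, tw_apply, tw_apply, nu_conjR, mul_assoc, ← Units.val_pow_eq_pow_val,
    ← Units.val_pow_eq_pow_val, ← Units.val_mul, inv_pow, pow_add, mul_inv_cancel_right]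
  rw [Units.val_pow_eq_pow_val]

theorem bar_mem_cls {η₀ η : IrrCharacter K.R} (h₀ : K.bar η₀ = η₀) (h : η ∈ K.cls η₀) :
    K.bar η ∈ K.cls η₀ := by
  have := (K.mem_cls.1 h).bar K
  rw [h₀] at this
  exact K.mem_cls.2 this

/-- The second fixed member. -/
noncomputable def opp (η : IrrCharacter K.R) : IrrCharacter K.R := K.tw η (K.per η / 2)

theorem opp_mem (η : IrrCharacter K.R) : K.opp η ∈ K.cls η := K.mem_cls.2 (K.same_tw _ _)

theorem opp_ne (η : IrrCharacter K.R) : K.opp η ≠ η := fun h => by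
  have h1 := (K.per_spec η).1
  obtain ⟨k, hk⟩ := K.even_per η
  have := Nat.le_of_dvd (by omega) ((K.per_dvd_iff η).1 h)
  omega

theorem bar_opp {η : IrrCharacter K.R} (h : K.bar η = η) : K.bar (K.opp η) = K.opp η := by
  refine irr_ext fun x => ?_
  obtain ⟨k, hk⟩ := K.even_per η
  have h2 : K.per η / 2 = k := by omega
  rw [opp, h2, bar_apply, tw_apply, ← bar_apply, h, tw_apply]
  by_cases hx : (η : K.R → ℂ) x = 0
  · rw [hx]; ring
  congr 1
  have h3 := congrArg (fun c : IrrCharacter K.R => (c : K.R → ℂ) x) (K.per_spec η).2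
  simp only [tw_apply] at h3
  have h4 : (K.nu x : ℂ) ^ (k + k) = 1 := by
    rw [← hk]; exact mul_left_cancel₀ hx (by rw [h3, mul_one])
  rw [nu_conjR, Units.val_inv_eq_inv_val, inv_pow]
  exact inv_eq_of_mul_eq_one_left (by rw [← pow_add, h4])

theorem fixed_cases {η₀ η : IrrCharacter K.R} (h₀ : K.bar η₀ = η₀) (hη : η ∈ K.cls η₀)
    (h : K.bar η = η) : η = η₀ ∨ η = K.opp η₀ := by
  obtain ⟨i, -, rfl⟩ := (K.mem_cls.1 hη).exists_tw K
  have hper : K.tw η₀ (i + i) = η₀ := by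
    refine irr_ext fun x => ?_
    have h1 := congrArg (fun c : IrrCharacter K.R => (c : K.R → ℂ) x) h
    simp only [bar_apply, tw_apply, nu_conjR, Units.val_inv_eq_inv_val, inv_pow] at h1
    rw [← bar_apply, h₀] at h1
    rw [tw_apply, pow_add, ← mul_assoc, ← h1, mul_assoc,
      inv_mul_cancel₀ (pow_ne_zero _ (K.nu x).ne_zero), mul_one]
  obtain ⟨k, hk⟩ := K.even_per η₀
  have hdvd := (K.per_dvd_iff η₀).1 hper
  rw [hk, ← two_mul, ← two_mul] at hdvd
  obtain ⟨c, rfl⟩ := Nat.dvd_of_mul_dvd_mul_left two_pos hdvd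
  rcases Nat.even_or_odd c with ⟨b, rfl⟩ | ⟨b, rfl⟩
  · left
    rw [(K.per_dvd_iff η₀)]
    exact ⟨b, by rw [hk]; ring⟩
  · right
    rw [opp, show K.per η₀ / 2 = k by omega, show k * (2 * b + 1) = k + K.per η₀ * b by rw [hk]; ring,
      tw_add_period_mul]

/-- Parity of the signed multiplicity of a fixed class. -/
theorem two_dvd_a_sub {η₀ : IrrCharacter K.R} (h₀ : K.bar η₀ = η₀) (χ : IrrCharacter G) :
    (2 : ℤ) ∣ K.a η₀ χ - K.d η₀ (K.opp η₀) χ := by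
  refine (ZMod.intCast_eq_intCast_iff_dvd_sub _ _ 2).1 (Eq.symm ?_)
  rw [a, d]
  push_cast
  have he : ∀ η, ((K.eps η : ℤ) : ZMod 2) = 1 := fun η => by
    rcases K.eps_cases η with e | e <;> rw [e] <;> decide
  simp only [he, one_mul]
  rw [← Finset.add_sum_erase _ _ (K.self_mem_cls η₀),
    ← Finset.add_sum_erase _ _ (Finset.mem_erase.2 ⟨K.opp_ne η₀, K.opp_mem η₀⟩),
    Finset.sum_involution (fun η _ => K.bar η) ?_ ?_ ?_ (fun η _ => K.bar_bar η), add_zero,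
    sub_eq_add_neg, ZMod.neg_eq_self_mod_two]
  · intro η _
    rw [m_bar, ← two_mul, show (2 : ZMod 2) = 0 from rfl, zero_mul]
  · intro η hη _ hb
    simp only [Finset.mem_erase] at hη
    rcases K.fixed_cases h₀ hη.2.2 hb with e | e
    · exact hη.2.1 e
    · exact hη.1 e
  · intro η hη
    simp only [Finset.mem_erase] at hη ⊢
    refine ⟨fun e => hη.1 ?_, fun e => hη.2.1 ?_, K.bar_mem_cls h₀ hη.2.2⟩
    · rw [← K.bar_bar η, e, K.bar_opp h₀]
    · rw [← K.bar_bar η, e, h₀]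

variable [Fintype (IrrCharacter G)]

theorem sum_dP_sq {η₀ : IrrCharacter K.R} (h₀ : K.bar η₀ = η₀) :
    ∑ χ : IrrCharacter G, K.d η₀ (K.opp η₀) χ * K.d η₀ (K.opp η₀) χ = 4 := by
  rw [K.sum_d_mul_d (((K.mem_cls.1 (K.opp_mem η₀))).symm K)]
  simp [h₀, K.bar_opp h₀, K.opp_ne η₀, Ne.symm (K.opp_ne η₀)]

theorem sum_dP_mul {η₀ η : IrrCharacter K.R} (h₀ : K.bar η₀ = η₀) (hη : η ∈ K.cls η₀) (h1 : η ≠ η₀)
    (h2 : η ≠ K.opp η₀) :
    ∑ χ : IrrCharacter G, K.d η₀ (K.opp η₀) χ * K.d η₀ η χ = 2 := by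
  rw [K.sum_d_mul_d (((K.mem_cls.1 (K.opp_mem η₀))).symm K)]
  have hb1 : K.bar η ≠ η₀ := fun e => h1 (by rw [← K.bar_bar η, e, h₀])
  have hb2 : K.bar η ≠ K.opp η₀ := fun e => h2 (by rw [← K.bar_bar η, e, K.bar_opp h₀])
  simp [h₀, K.opp_ne η₀, h1.symm, h2.symm, hb1.symm, hb2.symm]

theorem sum_d_sq_fixed {η₀ η : IrrCharacter K.R} (h₀ : K.bar η₀ = η₀) (hη : η ∈ K.cls η₀) (h1 : η ≠ η₀)
    (h2 : η ≠ K.opp η₀) :
    ∑ χ : IrrCharacter G, K.d η₀ η χ * K.d η₀ η χ = 3 := by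
  rw [K.sum_d_mul_d ((K.mem_cls.1 hη).symm K)]
  have hb1 : K.bar η ≠ η₀ := fun e => h1 (by rw [← K.bar_bar η, e, h₀])
  have hb3 : K.bar η ≠ η := fun e => (K.fixed_cases h₀ hη e).elim h1 h2
  simp [h₀, h1, h1.symm, hb1.symm, hb3.symm]

theorem sum_d_mul_fixed {η₀ η η' : IrrCharacter K.R} (h₀ : K.bar η₀ = η₀) (hη : η ∈ K.cls η₀)
    (h1 : η ≠ η₀) (h1' : η' ≠ η₀) (hne : η ≠ η') (hne' : η ≠ K.bar η') :
    ∑ χ : IrrCharacter G, K.d η₀ η χ * K.d η₀ η' χ = 2 := by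
  rw [K.sum_d_mul_d ((K.mem_cls.1 hη).symm K)]
  have hb1 : K.bar η' ≠ η₀ := fun e => h1' (by rw [← K.bar_bar η', e, h₀])
  simp [h₀, h1, h1'.symm, hne, hb1.symm, hne']

end Ctx

end CfsgLib.GW.DLin
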