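import Cfsg.Agent.Lib.GW.Dne.Linear.Orbit
import Cfsg.Agent.Lib.CharDegree.NoDiv.Basics
import Cfsg.Agent.Lib.GW.Basic
import Cfsg.Agent.Lib.GW.Two.Linear.Parity
import Cfsg.Agent.Lib.TwoGroups.Closed

/-!
# Signed multiplicities modulo two

A character of `U` fixed by a reflection and of odd multiplicity next to a rotation-invariant linear
character of odd multiplicity is that character.
-/

set_option autoImplicit false

open scoped Classical

namespace CfsgLib.GW.DLin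

open Subgroup DihedralGroup Cfsg CfsgLib.Char CfsgLib.CharDegree
open CfsgLib.GW (four four_le isPGroup_four mem_four_cases model_three)
open CfsgLib.TwoGroups CfsgLib.TwoGroups.Dihedral
open CfsgLib.GW.Two.Lin (Cong cong_sum_fixed cong_odd_mul not_cong_one_zero)
open scoped ComplexConjugate
open CfsgLib.Signalizer (involution_sq involution_inv involution_ne_one orderOf_conj)

universe v

namespace Ctx

variable {G : Type v} [Group G] [Fintype G] (K : Ctx G)

/-- A linear character of `U` fixed by `S`. -/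
structure Good (l : K.U →* ℂˣ) : Prop where
  fixed : ∀ (i : Bool) (x y : K.U), (y : G) = K.w i * x * (K.w i)⁻¹ → l y = l x

/-- Invariance under the rotation on the points fixed by the reflection. -/
def Inv (i : Bool) (l : K.U →* ℂˣ) : Prop :=
  ∀ x y : K.U, Commute (x : G) (K.w i) → (y : G) = K.g i * x * (K.g i)⁻¹ → l y = l x

theorem good_one : K.Good 1 := ⟨fun _ _ _ _ => rfl⟩

theorem inv_triv (i : Bool) : K.Inv i 1 := fun _ _ _ _ => rfl

variable {K}

theorem Good.conj_F {l : K.U →* ℂˣ} (hl : K.Good l) (s : DihedralGroup (2 ^ K.n)) :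
    ∀ x y : K.U, (y : G) = K.F s * x * (K.F s)⁻¹ → l y = l x := by
  have hr1 : ∀ x y : K.U, (y : G) = K.F (r 1) * x * (K.F (r 1))⁻¹ → l y = l x := by
    intro x y e
    set z : K.U := ⟨K.w true * x * (K.w true)⁻¹, K.conj_mem (K.commute_w true) x.2⟩
    rw [← hl.fixed true x z rfl]
    refine hl.fixed false z y ?_
    rw [e, show (r 1 : DihedralGroup (2 ^ K.n)) = sr 0 * sr 1 by rw [sr_mul_sr, sub_zero], map_mul]
    show _ = K.F (sr 0) * (K.F (sr 1) * x * (K.F (sr 1))⁻¹) * (K.F (sr 0))⁻¹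
    group
  have hrn : ∀ (k : ℕ) (x y : K.U), (y : G) = K.F (r (k : ZMod (2 ^ K.n))) * x * (K.F (r (k : ZMod (2 ^ K.n))))⁻¹ →
      l y = l x := by
    intro k
    induction k with
    | zero =>
      intro x y e
      rw [Nat.cast_zero, r_zero, map_one, one_mul, inv_one, mul_one] at e
      exact congrArg l (Subtype.ext e)
    | succ k ih =>
      intro x y e
      set z : K.U := ⟨K.F (r 1) * x * (K.F (r 1))⁻¹, K.conj_mem (K.comm_F _) x.2⟩
      rw [← hr1 x z rfl]
      refine ih z y ?_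
      rw [e, Nat.cast_succ, ← r_mul_r, map_mul]
      show _ = K.F (r (k : ZMod (2 ^ K.n))) * (K.F (r 1) * x * (K.F (r 1))⁻¹) * (K.F (r (k : ZMod (2 ^ K.n))))⁻¹
      group
  intro x y e
  rcases s with i | i
  · exact hrn i.val x y (by rw [e, ZMod.natCast_zmod_val])
  · set z : K.U := ⟨K.F (r i) * x * (K.F (r i))⁻¹, K.conj_mem (K.comm_F _) x.2⟩
    rw [← hrn i.val x z (by rw [ZMod.natCast_zmod_val])]
    refine hl.fixed false z y ?_
    rw [e, show (sr i : DihedralGroup (2 ^ K.n)) = sr 0 * r i by rw [sr_mul_r, zero_add], map_mul]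
    show _ = K.F (sr 0) * (K.F (r i) * x * (K.F (r i))⁻¹) * (K.F (sr 0))⁻¹
    group

theorem Good.conj_cent {l : K.U →* ℂˣ} (hl : K.Good l) {c : G} (hc : Commute c K.t) (x y : K.U)
    (e : (y : G) = c * x * c⁻¹) : l y = l x := by
  obtain ⟨a, ha, s, rfl⟩ := K.split c hc
  set z : K.U := ⟨K.F s * x * (K.F s)⁻¹, K.conj_mem (K.comm_F _) x.2⟩
  have hy : y = ⟨a, ha⟩ * z * (⟨a, ha⟩)⁻¹ := Subtype.ext (by
    rw [e]; show _ = a * (K.F s * x * (K.F s)⁻¹) * a⁻¹; group)
  rw [hy, map_mul, map_mul, map_inv, mul_comm (l _) (l z), mul_inv_cancel_right, hl.conj_F s x z rfl]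

variable (K)

theorem rot_conj_mem {i : Bool} {x : G} (hx : x ∈ K.U) (hw : Commute x (K.w i)) :
    K.g i * x * (K.g i)⁻¹ ∈ K.U ∧ Commute (K.g i * x * (K.g i)⁻¹) (K.w i) := by
  have h := K.rot' i
  have h3 : K.g i * (K.t * K.w i) * (K.g i)⁻¹ = K.t := by
    rw [show K.g i * (K.t * K.w i) * (K.g i)⁻¹ = K.g i * K.t * (K.g i)⁻¹ * (K.g i * K.w i * (K.g i)⁻¹) by group,
      h.conj1, h.conj2, ← mul_assoc, ← h.comm.eq, mul_assoc, K.w_sq, mul_one]
  have h1 := ((K.comm_U hx).mul_right hw).map (MulAut.conj (K.g i)).toMonoidHom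
  have h2 := (K.comm_U hx).map (MulAut.conj (K.g i)).toMonoidHom
  simp only [MulEquiv.coe_toMonoidHom, MulAut.conj_apply, h3, h.conj1] at h1 h2
  exact ⟨K.mem_U h1 (by rw [orderOf_conj]; exact K.odd_of_mem hx), h2⟩

theorem rot_pow_mem {i : Bool} {x : G} (hx : x ∈ K.U) (hw : Commute x (K.w i)) :
    ∀ k : ℕ, K.g i ^ k * x * (K.g i ^ k)⁻¹ ∈ K.U ∧ Commute (K.g i ^ k * x * (K.g i ^ k)⁻¹) (K.w i)
  | 0 => by simpa using ⟨hx, hw⟩
  | k + 1 => by
    rw [show K.g i ^ (k + 1) * x * (K.g i ^ (k + 1))⁻¹ =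
      K.g i * (K.g i ^ k * x * (K.g i ^ k)⁻¹) * (K.g i)⁻¹ by rw [pow_succ']; group]
    exact K.rot_conj_mem (rot_pow_mem hx hw k).1 (rot_pow_mem hx hw k).2

variable {K}

theorem Inv.pow_rot {l : K.U →* ℂˣ} {i : Bool} (hi : K.Inv i l) (x : K.U)
    (hx : Commute (x : G) (K.w i)) (k : ℕ) :
    ∀ y : K.U, (y : G) = K.g i ^ k * x * (K.g i ^ k)⁻¹ → Commute (y : G) (K.w i) ∧ l y = l x := by
  induction k with
  | zero =>
    intro y e
    rw [pow_zero, one_mul, inv_one, mul_one] at e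
    exact ⟨e ▸ hx, congrArg l (Subtype.ext e)⟩
  | succ k ih =>
    intro y e
    have hz := (K.rot_pow_mem x.2 hx k).1
    obtain ⟨h1, h2⟩ := ih ⟨_, hz⟩ rfl
    have he : (y : G) = K.g i * (K.g i ^ k * x * (K.g i ^ k)⁻¹) * (K.g i)⁻¹ := by
      rw [e, pow_succ']; group
    exact ⟨he ▸ (K.rot_conj_mem hz h1).2, (hi ⟨_, hz⟩ y h1 he).trans h2⟩

variable (K)

/-- Every involution of a four-group of the frame is a rotated `t`. -/
theorem exists_rot_pow (i : Bool) {z : G} (h : z = K.t ∨ z = K.w i ∨ z = K.t * K.w i) :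
    ∃ k : ℕ, K.g i ^ k * K.t * (K.g i ^ k)⁻¹ = z := by
  have hr := K.rot' i
  rcases h with rfl | rfl | rfl
  · exact ⟨0, by simp⟩
  · exact ⟨1, by rw [pow_one]; exact hr.conj1⟩
  · refine ⟨2, ?_⟩
    rw [show K.g i ^ 2 * K.t * (K.g i ^ 2)⁻¹ = K.g i * (K.g i * K.t * (K.g i)⁻¹) * (K.g i)⁻¹ by
      rw [pow_two]; group, hr.conj1, hr.conj2]

/-- The central involution of a 2-group containing the four-group lies in it. -/
theorem central_mem_four (i : Bool) {P : Subgroup G} (hP : IsPGroup 2 P) (htP : K.t ∈ P)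
    (hwP : K.w i ∈ P) : ∃ z : G, (z = K.t ∨ z = K.w i ∨ z = K.t * K.w i) ∧
      ∀ T1 T2 : G, T1 ∈ P → T2 ∈ P → orderOf T1 = 2 → orderOf T2 = 2 → T1 ≠ T2 → Commute T1 T2 →
        z = T1 ∨ z = T2 ∨ z = T1 * T2 := by
  obtain ⟨c, hc⟩ := K.sylow P hP
  set h0 : DihedralGroup (2 ^ K.n) := r (half K.n) with hh0
  refine ⟨c⁻¹ * K.t * c, ?_, ?_⟩
  swap
  · intro T1 T2 h1 h2 o1 o2 hne hcom
    obtain ⟨a, ha⟩ := hc T1 h1
    obtain ⟨b, hb⟩ := hc T2 h2
    have conv : ∀ {T : G} {x : DihedralGroup (2 ^ K.n)}, c * T * c⁻¹ = K.F x →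
        T = c⁻¹ * K.F x * c := fun e => by rw [← e]; group
    have oa : orderOf a = 2 := by rw [← orderOf_injective K.F K.inj, ha, orderOf_conj]; exact o1
    have ob : orderOf b = 2 := by rw [← orderOf_injective K.F K.inj, hb, orderOf_conj]; exact o2
    have hab : Commute a b := K.inj (by
      rw [map_mul, map_mul, ha, hb]
      exact hcom.map (MulAut.conj c).toMonoidHom)
    have hcz : ∀ x : DihedralGroup (2 ^ K.n), Commute x h0 := fun x => K.inj (by
      rw [map_mul, map_mul]; exact K.comm_F x)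
    rcases model_three K.one_le (involution_sq oa) (involution_sq ob)
      (show h0 * h0 = 1 by rw [hh0, r_mul_r, half_add_half K.one_le, r_zero])
      (involution_ne_one oa) (involution_ne_one ob)
      (fun e => hne (by rw [conv ha.symm, conv hb.symm, e])) hab (hcz a) (hcz b) with e | e | e | e
    · exact absurd (r.inj (e.trans one_def)) (half_ne_zero K.one_le)
    · exact Or.inl (by rw [conv ha.symm, ← e]; rfl)
    · exact Or.inr (Or.inl (by rw [conv hb.symm, ← e]; rfl))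
    · refine Or.inr (Or.inr ?_)
      rw [conv ha.symm, conv hb.symm]
      show c⁻¹ * K.F h0 * c = _
      rw [e, map_mul]; group
  · obtain ⟨a, ha⟩ := hc _ htP
    obtain ⟨b, hb⟩ := hc _ hwP
    have hr := K.rot' i
    have conv : ∀ {T : G} {x : DihedralGroup (2 ^ K.n)}, c * T * c⁻¹ = K.F x →
        T = c⁻¹ * K.F x * c := fun e => by rw [← e]; group
    have oa : orderOf a = 2 := by rw [← orderOf_injective K.F K.inj, ha, orderOf_conj]; exact hr.ht
    have ob : orderOf b = 2 := by rw [← orderOf_injective K.F K.inj, hb, orderOf_conj]; exact hr.hu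
    have hab : Commute a b := K.inj (by
      rw [map_mul, map_mul, ha, hb]
      exact hr.comm.map (MulAut.conj c).toMonoidHom)
    have hcz : ∀ x : DihedralGroup (2 ^ K.n), Commute x h0 := fun x => K.inj (by
      rw [map_mul, map_mul]; exact K.comm_F x)
    rcases model_three K.one_le (involution_sq oa) (involution_sq ob)
      (show h0 * h0 = 1 by rw [hh0, r_mul_r, half_add_half K.one_le, r_zero])
      (involution_ne_one oa) (involution_ne_one ob)
      (fun e => hr.ne (by rw [conv ha.symm, conv hb.symm, e])) hab (hcz a) (hcz b) with e | e | e | e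
    · exact absurd (r.inj (e.trans one_def)) (half_ne_zero K.one_le)
    · exact Or.inl (Eq.trans (by rw [← e]; rfl) (conv ha.symm).symm)
    · exact Or.inr (Or.inl (Eq.trans (by rw [← e]; rfl) (conv hb.symm).symm))
    · refine Or.inr (Or.inr ?_)
      conv_rhs => rw [conv ha.symm, conv hb.symm]
      show c⁻¹ * K.F h0 * c = _
      rw [e, map_mul]; group

variable {K}

/-- Fused elements of `D` are, after rotations, conjugate in `C(t)`. -/
theorem exists_moved (i : Bool) {a b : K.U}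
    (ha : Commute (a : G) (K.w i)) (hb : Commute (b : G) (K.w i)) (hc : IsConj (a : G) b) :
    ∃ (k k' : ℕ) (ya yb : K.U) (c : G), (ya : G) = K.g i ^ k * a * (K.g i ^ k)⁻¹ ∧
      (yb : G) = K.g i ^ k' * b * (K.g i ^ k')⁻¹ ∧ Commute c K.t ∧ (yb : G) = c * ya * c⁻¹ := by
  obtain ⟨x, hx⟩ := isConj_iff.1 hc
  have hr := K.rot' i
  have : Fact (Nat.Prime 2) := ⟨Nat.prime_two⟩
  set H := centralizer ({(b : G)} : Set G)
  have hmem : ∀ {y : G}, Commute y (b : G) → y ∈ H := fun h => mem_centralizer_singleton_iff.2 h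
  -- Sylow subgroup of `C(b)` through the four-group
  set T := four K.t (K.w i)
  have hTH : T ≤ H := four_le (hmem (K.comm_U b.2).symm) (hmem hb.symm)
  have hT : IsPGroup 2 T := isPGroup_four hr.ht hr.hu hr.comm
  obtain ⟨Q, hQ⟩ := (hT.comap_of_injective H.subtype H.subtype_injective :
    IsPGroup 2 (T.subgroupOf H)).exists_le_sylow
  set T' := T.map (MulAut.conj x).toMonoidHom
  have hT'H : T' ≤ H := by
    rintro _ ⟨y, hy, rfl⟩
    refine hmem ?_
    rw [← hx]
    refine Commute.map (?_ : Commute y (a : G)) (MulAut.conj x).toMonoidHom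
    rcases mem_four_cases hr.ht hr.hu hr.comm hy with rfl | rfl | rfl | rfl
    · exact Commute.one_left _
    · exact (K.comm_U a.2).symm
    · exact ha.symm
    · exact ((K.comm_U a.2).symm.mul_left ha.symm)
  obtain ⟨h, hh⟩ := CfsgLib.TwoGroups.exists_conj_le_sylow Q
    ((hT.map (MulAut.conj x).toMonoidHom).comap_of_injective H.subtype H.subtype_injective :
      IsPGroup 2 (T'.subgroupOf H))
  set P := (Q : Subgroup H).map H.subtype
  have hP : IsPGroup 2 P := Q.2.map _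
  have htP : K.t ∈ P := ⟨⟨K.t, hTH (Subgroup.subset_closure (by simp))⟩, hQ (Subgroup.subset_closure (by simp) : K.t ∈ T), rfl⟩
  have hwP : K.w i ∈ P := ⟨⟨K.w i, hTH (Subgroup.subset_closure (by simp))⟩, hQ (Subgroup.subset_closure (by simp) : K.w i ∈ T), rfl⟩
  have hyP : ∀ y ∈ T, (h : G) * (x * y * x⁻¹) * (h : G)⁻¹ ∈ P := fun y hy =>
    ⟨h * ⟨x * y * x⁻¹, hT'H ⟨y, hy, rfl⟩⟩ * h⁻¹,
      hh (CfsgLib.TwoGroups.conj_mem_map_conj (show (⟨x * y * x⁻¹, hT'H ⟨y, hy, rfl⟩⟩ : H) ∈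
        T'.subgroupOf H from ⟨y, hy, rfl⟩)), rfl⟩
  obtain ⟨z, hz, hzT⟩ := K.central_mem_four i hP htP hwP
  set q : G := (h : G) * x with hq
  have hqb : q * (a : G) * q⁻¹ = b := by
    rw [show q * (a : G) * q⁻¹ = (h : G) * (x * a * x⁻¹) * (h : G)⁻¹ by rw [hq]; group, hx,
      (mem_centralizer_singleton_iff.1 h.2 : (h : G) * b = b * h), mul_inv_cancel_right]
  have hqy : ∀ y ∈ T, q * y * q⁻¹ ∈ P := fun y hy => by
    rw [show q * y * q⁻¹ = (h : G) * (x * y * x⁻¹) * (h : G)⁻¹ by rw [hq]; group]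
    exact hyP y hy
  obtain ⟨z', hz', hzz⟩ : ∃ z', (z' = K.t ∨ z' = K.w i ∨ z' = K.t * K.w i) ∧ q * z' * q⁻¹ = z := by
    rcases hzT (q * K.t * q⁻¹) (q * K.w i * q⁻¹) (hqy _ (Subgroup.subset_closure (by simp)))
      (hqy _ (Subgroup.subset_closure (by simp))) (by rw [orderOf_conj]; exact hr.ht) (by rw [orderOf_conj]; exact hr.hu)
      (fun e => hr.ne (mul_left_cancel (mul_right_cancel e))) (hr.comm.map (MulAut.conj q).toMonoidHom)
      with e | e | e
    · exact ⟨_, Or.inl rfl, e.symm⟩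
    · exact ⟨_, Or.inr (Or.inl rfl), e.symm⟩
    · exact ⟨_, Or.inr (Or.inr rfl), by rw [e]; group⟩
  obtain ⟨j, hj⟩ := K.exists_rot_pow i hz'
  obtain ⟨j', hj'⟩ := K.exists_rot_pow i hz
  set a' := (K.g i ^ j)⁻¹ * (a : G) * K.g i ^ j
  set b' := (K.g i ^ j')⁻¹ * (b : G) * K.g i ^ j'
  have hmove : ∀ (y : K.U) (k : ℕ), Commute (y : G) (K.w i) →
      ∃ (k' : ℕ) (y' : K.U), (y' : G) = (K.g i ^ k)⁻¹ * y * K.g i ^ k ∧
        (y' : G) = K.g i ^ k' * y * (K.g i ^ k')⁻¹ := by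
    intro y k hy
    have hord := orderOf_pos (K.g i)
    obtain ⟨k', hk'⟩ : ∃ k', K.g i ^ k' = (K.g i ^ k)⁻¹ :=
      ⟨(orderOf (K.g i) - 1) * k, eq_inv_of_mul_eq_one_left (by
        rw [← pow_add, show (orderOf (K.g i) - 1) * k + k = orderOf (K.g i) * k by
          rw [← Nat.succ_mul]; congr 1; omega, pow_mul, pow_orderOf_eq_one, one_pow])⟩
    refine ⟨k', ⟨_, (K.rot_pow_mem y.2 hy k').1⟩, ?_, rfl⟩
    show K.g i ^ k' * (y : G) * (K.g i ^ k')⁻¹ = _
    rw [hk', inv_inv]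
  obtain ⟨ka, ya, hya, hya'⟩ := hmove a j ha
  obtain ⟨kb, yb, hyb, hyb'⟩ := hmove b j' hb
  refine ⟨ka, kb, ya, yb, (K.g i ^ j')⁻¹ * q * K.g i ^ j, hya', hyb', mul_inv_eq_iff_eq_mul.1 ?_, ?_⟩
  · rw [show (K.g i ^ j')⁻¹ * q * K.g i ^ j * K.t * ((K.g i ^ j')⁻¹ * q * K.g i ^ j)⁻¹ =
      (K.g i ^ j')⁻¹ * (q * (K.g i ^ j * K.t * (K.g i ^ j)⁻¹) * q⁻¹) * K.g i ^ j' by group, hj, hzz, ← hj']
    group
  · rw [hya, hyb, ← hqb]; group

/-- An invariant good character is constant on the fused elements of `D`. -/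
theorem Good.apply_eq_of_isConj {l : K.U →* ℂˣ} (hl : K.Good l) {i : Bool} (hi : K.Inv i l) {a b : K.U}
    (ha : Commute (a : G) (K.w i)) (hb : Commute (b : G) (K.w i)) (hc : IsConj (a : G) b) :
    l b = l a := by
  obtain ⟨k, k', ya, yb, c, hya, hyb, hct, e⟩ := exists_moved i ha hb hc
  rw [← (hi.pow_rot a ha k ya hya).2, ← (hi.pow_rot b hb k' yb hyb).2]
  exact hl.conj_cent hct ya yb e

variable (K)

/-- The inclusion of `U` in `R`. -/
def inc : K.U →* K.R := Subgroup.inclusion K.U_le_R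

/-- Restriction to `U` of a character of `G`. -/
def resU (χ : IrrCharacter G) : K.U → ℂ := fun y => (χ : G → ℂ) y

/-- The linear character as an irreducible character. -/
def lin (l : K.U →* ℂˣ) : IrrCharacter K.U := ⟨fun y => (l y : ℂ), isIrrCharacter_linear l⟩

theorem lin_apply (l : K.U →* ℂˣ) (y : K.U) : (K.lin l : K.U → ℂ) y = (l y : ℂ) := rfl

/-- Conjugation by a reflection on `U`. -/
def conjW (i : Bool) : K.U → K.U := fun y => ⟨K.w i * y * (K.w i)⁻¹, K.conj_mem (K.commute_w i) y.2⟩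

theorem conjW_conjW (i : Bool) (y : K.U) : K.conjW i (K.conjW i y) = y := Subtype.ext (by
  show K.w i * (K.w i * y * (K.w i)⁻¹) * (K.w i)⁻¹ = y
  rw [show K.w i * (K.w i * (y : G) * (K.w i)⁻¹) * (K.w i)⁻¹ = K.w i * K.w i * y * (K.w i * K.w i)⁻¹ by group,
    K.w_sq]
  group)

theorem conjW_eq_iff (i : Bool) (y : K.U) : K.conjW i y = y ↔ Commute (y : G) (K.w i) :=
  ⟨fun h => (mul_inv_eq_iff_eq_mul.1 (congrArg Subtype.val h) : Commute (K.w i) (y : G)).symm,
    fun h => Subtype.ext (mul_inv_eq_iff_eq_mul.2 h.symm.eq)⟩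

theorem not_isConj_t_center (a : G) (k : G) (hk : k ∈ Finset.univ.image (fun x : G => x * a * x⁻¹)) :
    K.t * k * K.t⁻¹ ∈ Finset.univ.image (fun x : G => x * a * x⁻¹) := by
  obtain ⟨x, -, rfl⟩ := Finset.mem_image.1 hk
  exact Finset.mem_image.2 ⟨K.t * x, Finset.mem_univ _, by group⟩

/-- The central character at `a` read on `U`. -/
theorem cong_central (χ : IrrCharacter G) (θ : IrrCharacter K.U) {N : ℕ} (hN : Odd N)
    (hm : classInner (K.resU χ) (θ : K.U → ℂ) = N) (a : G) (ha : Odd (orderOf a)) :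
    Cong ((θ : K.U → ℂ) 1 * centralChar (χ : G → ℂ) a)
      (∑ k ∈ Finset.univ.filter (fun k : K.U => IsConj a k), (θ : K.U → ℂ) k) := by
  set ω := centralChar (χ : G → ℂ) a with hω
  set A := Finset.univ.filter (fun k : K.U => IsConj a k) with hA
  have hωi : IsIntegral ℤ ω := CfsgLib.CharDegree.isIntegral_centralChar χ a
  have hχi : ∀ g, IsIntegral ℤ ((χ : G → ℂ) g) := IsChar.isIntegral (IsIrr.isCharacter χ.2)
  set Cl := Finset.univ.image (fun x : G => x * a * x⁻¹) with hCl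
  have hsum : ∀ b : K.U, ω * (χ : G → ℂ) b = ∑ k ∈ Cl, (χ : G → ℂ) (k * (b : G)) := by
    intro b
    have h1 := CfsgLib.CharDegree.sum_conj_mul χ a (b : G)
    have h2 := CfsgLib.Coh.sum_conj_eq (⊤ : Subgroup G) a (fun z => (χ : G → ℂ) (z * (b : G)))
    rw [top_inf_eq, ← Equiv.sum_comp Subgroup.topEquiv.symm.toEquiv] at h2
    have h3 : Finset.univ.image (fun x : (⊤ : Subgroup G) => (x : G) * a * (x : G)⁻¹) = Cl := by
      ext z; simp [hCl]
    rw [h3] at h2
    have h4 := h1.symm.trans h2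
    have hc0 : (Nat.card (centralizer ({a} : Set G)) : ℂ) ≠ 0 := Nat.cast_ne_zero.2 Nat.card_pos.ne'
    refine mul_left_cancel₀ hc0 (Eq.trans ?_ h4)
    rw [hω, centralChar, ← (centralizer ({a} : Set G)).card_mul_index, Nat.cast_mul]
    field_simp [Char.IsIrr.apply_one_ne_zero χ.2]
  have hpair : ∀ b : K.U, Cong (ω * (χ : G → ℂ) b) (∑ k ∈ A, (χ : G → ℂ) ((k : G) * b)) := by
    intro b
    rw [hsum b]
    refine (cong_sum_fixed Cl (fun k => K.t * k * K.t⁻¹) (K.not_isConj_t_center a) ?_ (fun k _ => hχi _)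
      ?_).trans (Cong.of_eq ?_)
    · intro k _
      rw [involution_inv K.ht, show K.t * (K.t * k * K.t) * K.t = K.t * K.t * k * (K.t * K.t) by group,
        involution_sq K.ht, one_mul, mul_one]
    · intro k _
      rw [show K.t * k * K.t⁻¹ * (b : G) = K.t * (k * b) * K.t⁻¹ by
        rw [mul_assoc (K.t * k), (K.comm_U b.2).inv_right.eq.symm]; group]
      exact IsIrr.isClassFunction χ.2 _ _
    · refine Finset.sum_bij' (fun k hk => ⟨k, ?_⟩) (fun k _ => (k : G)) ?_ ?_ (fun _ _ => rfl)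
        (fun _ _ => rfl) (fun _ _ => rfl)
      · obtain ⟨hk, hkt⟩ := Finset.mem_filter.1 hk
        obtain ⟨x, -, rfl⟩ := Finset.mem_image.1 hk
        exact K.mem_U (mul_inv_eq_iff_eq_mul.1 hkt : Commute K.t _).symm (by rwa [orderOf_conj])
      · intro k hk
        obtain ⟨hk, -⟩ := Finset.mem_filter.1 hk
        obtain ⟨x, -, rfl⟩ := Finset.mem_image.1 hk
        exact Finset.mem_filter.2 ⟨Finset.mem_univ _, isConj_iff.2 ⟨x, rfl⟩⟩
      · intro k hk
        obtain ⟨x, hx⟩ := isConj_iff.1 (Finset.mem_filter.1 hk).2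
        exact Finset.mem_filter.2 ⟨Finset.mem_image.2 ⟨x, Finset.mem_univ _, hx⟩,
          mul_inv_eq_iff_eq_mul.2 (K.comm_U k.2).eq.symm⟩
  have hθi : ∀ y : K.U, IsIntegral ℤ ((θ : K.U → ℂ) y) := IsChar.isIntegral (IsIrr.isCharacter θ.2)
  have hb := Cong.sum Finset.univ fun (b : K.U) _ => (hpair b).mul_right (c := (θ : K.U → ℂ) b⁻¹) (hθi _)
  have hc0 : (Nat.card K.U : ℂ) ≠ 0 := Nat.cast_ne_zero.2 Nat.card_pos.ne'
  have hL : ∑ b : K.U, ω * (χ : G → ℂ) b * (θ : K.U → ℂ) b⁻¹ = ω * ((Nat.card K.U : ℂ) * N) := by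
    rw [← hm, classInner, mul_inv_cancel_left₀ hc0, Finset.mul_sum]
    exact Finset.sum_congr rfl fun b _ => by rw [IsIrr.map_inv θ.2, resU, mul_assoc]
  have hR : ∀ k : K.U, (θ : K.U → ℂ) 1 * ∑ b : K.U, (χ : G → ℂ) ((k : G) * b) * (θ : K.U → ℂ) b⁻¹ =
      (Nat.card K.U : ℂ) * N * (θ : K.U → ℂ) k := by
    intro k
    rw [Fintype.sum_equiv (Equiv.mulLeft k) (fun b : K.U => (χ : G → ℂ) ((k : G) * b) * (θ : K.U → ℂ) b⁻¹)
      (fun z : K.U => (χ : G → ℂ) z * (θ : K.U → ℂ) (z⁻¹ * k)) fun b => ?_,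
      CfsgLib.Realize.sum_inv_mul_apply (θ := fun y : K.U => (χ : G → ℂ) y)
        (IsChar.restrict K.U (IsIrr.isCharacter χ.2)) θ k, show classInner (fun y : K.U => (χ : G → ℂ) y) _ = _ from hm]
    · field_simp [Char.IsIrr.apply_one_ne_zero θ.2]
    · simp [mul_assoc]
  rw [hL] at hb
  simp only [Finset.sum_mul] at hb
  rw [Finset.sum_comm] at hb
  have h5 := hb.mul_left (hθi 1)
  rw [Finset.mul_sum, Finset.sum_congr rfl fun k _ => hR k, ← Finset.mul_sum] at h5
  have hNodd : Odd (Nat.card K.U * N) := K.hUodd.mul hN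
  have hgoal1 := cong_odd_mul hNodd ((hθi 1).mul hωi)
  have hgoal2 := cong_odd_mul hNodd (IsIntegral.sum (fun k : K.U => (θ : K.U → ℂ) k) (s := A) fun k _ => hθi k)
  rw [Nat.cast_mul] at hgoal1 hgoal2
  rw [show (θ : K.U → ℂ) 1 * (ω * ((Nat.card K.U : ℂ) * N)) =
    (Nat.card K.U : ℂ) * N * ((θ : K.U → ℂ) 1 * ω) by ring] at h5
  exact hgoal1.symm.trans (h5.trans hgoal2)

theorem cong_sum_fixedW (i : Bool) {F : K.U → ℂ} (hF : ∀ y, IsIntegral ℤ (F y))
    (h : ∀ y, F (K.conjW i y) = F y) :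
    Cong (∑ y : K.U, F y) (∑ y ∈ Finset.univ.filter (fun y : K.U => Commute (y : G) (K.w i)), F y) := by
  refine (cong_sum_fixed Finset.univ (K.conjW i) (fun _ _ => Finset.mem_univ _)
    (fun y _ => K.conjW_conjW i y) (fun y _ => hF y) fun y _ => h y).trans (Cong.of_eq ?_)
  rw [Finset.filter_congr fun y _ => K.conjW_eq_iff i y]

/-- A character fixed by a reflection of odd multiplicity next to `l` is `l`. -/
theorem eq_lin {l : K.U →* ℂˣ} (hl : K.Good l) (χ : IrrCharacter G) {N M : ℕ} (hN : Odd N) (hM : Odd M)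
    (hχl : classInner (K.resU χ) (K.lin l : K.U → ℂ) = N) {i : Bool} (hi : K.Inv i l) (θ : IrrCharacter K.U)
    (hθ : ∀ y, (θ : K.U → ℂ) (K.conjW i y) = (θ : K.U → ℂ) y)
    (hm : classInner (K.resU χ) (θ : K.U → ℂ) = M) : θ = K.lin l := by
  by_contra hne
  have hθi : ∀ y : K.U, IsIntegral ℤ ((θ : K.U → ℂ) y) := IsChar.isIntegral (IsIrr.isCharacter θ.2)
  have hli : ∀ y : K.U, IsIntegral ℤ ((K.lin l : K.U → ℂ) y) :=
    IsChar.isIntegral (IsIrr.isCharacter (K.lin l).2)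
  have hci : ∀ y : K.U, IsIntegral ℤ (conj (l y : ℂ)) := fun y => by
    rw [← K.lin_apply, ← IsIrr.map_inv (K.lin l).2]; exact hli _
  have hlinv : ∀ y, l (K.conjW i y) = l y := fun y => hl.fixed i y _ rfl
  set Fx := Finset.univ.filter (fun y : K.U => Commute (y : G) (K.w i)) with hFx
  set Φ : K.U → ℂ := fun y => (θ : K.U → ℂ) y * conj (l y : ℂ) with hΦ
  have hzero : Cong (∑ y ∈ Fx, Φ y) 0 := by
    refine (K.cong_sum_fixedW i (F := Φ) (fun y => (hθi y).mul (hci y))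
      fun y => by simp only [hΦ, hθ, hlinv]).symm.trans ?_
    have h0 := classInner_irr_of_ne hne
    rw [classInner, mul_eq_zero, or_iff_right (inv_ne_zero (Nat.cast_ne_zero.2 Nat.card_pos.ne'))] at h0
    simp only [K.lin_apply] at h0
    simp only [hΦ]
    rw [h0]
    exact Cong.refl 0
  set d₁ := charDegree (θ : K.U → ℂ) with hd₁
  have hclass : ∀ a ∈ Fx, Cong (∑ k ∈ Fx.filter (fun k : K.U => IsConj (a : G) k), Φ k)
      (∑ _k ∈ Fx.filter (fun k : K.U => IsConj (a : G) k), (d₁ : ℂ)) := by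
    intro a ha
    have haodd : Odd (orderOf (a : G)) := K.odd_of_mem a.2
    have hfilt : ∀ F : K.U → ℂ, (∀ y, IsIntegral ℤ (F y)) → (∀ y, F (K.conjW i y) = F y) →
        Cong (∑ k ∈ Finset.univ.filter (fun k : K.U => IsConj (a : G) k), F k)
          (∑ k ∈ Fx.filter (fun k : K.U => IsConj (a : G) k), F k) := by
      intro F hF hFc
      rw [Finset.sum_filter, Finset.sum_filter]
      refine K.cong_sum_fixedW i (F := fun k : K.U => if IsConj (a : G) k then F k else 0) (fun y => ?_)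
        fun y => ?_
      · split
        · exact hF y
        · exact isIntegral_zero
      · have hiff : IsConj (a : G) (K.conjW i y : G) ↔ IsConj (a : G) y :=
          ⟨fun hc => hc.trans (isConj_iff.2 ⟨(K.w i)⁻¹, by show _ * (K.w i * (y : G) * (K.w i)⁻¹) * _ = _; group⟩),
            fun hc => hc.trans (isConj_iff.2 ⟨K.w i, rfl⟩)⟩
        simp only [hiff, hFc]
    have h1 := (K.cong_central χ θ hM hm a haodd).trans (hfilt _ hθi hθ)
    have h2 := (K.cong_central χ (K.lin l) hN hχl a haodd).trans (hfilt _ hli fun y => by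
      rw [K.lin_apply, K.lin_apply, hlinv y])
    rw [K.lin_apply, map_one, Units.val_one, one_mul] at h2
    have hlk : ∀ k ∈ Fx.filter (fun k : K.U => IsConj (a : G) k), (l k : ℂ) = (l a : ℂ) := fun k hk => by
      rw [Finset.mem_filter] at hk
      rw [hl.apply_eq_of_isConj hi (Finset.mem_filter.1 ha).2 (Finset.mem_filter.1 hk.1).2 hk.2]
    simp only [K.lin_apply] at h2
    rw [Finset.sum_congr rfl hlk] at h2
    have h3 := ((h1.symm.trans (h2.mul_left (hθi 1))).mul_right (hci a))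
    have hunit : (l a : ℂ) * conj (l a : ℂ) = 1 := by
      rw [← K.lin_apply, ← IsIrr.map_inv (K.lin l).2, K.lin_apply, K.lin_apply, ← Units.val_mul,
        ← map_mul, mul_inv_cancel, map_one, Units.val_one]
    rw [Finset.sum_mul, Finset.mul_sum, Finset.sum_mul] at h3
    refine (Cong.of_eq (Finset.sum_congr rfl fun k hk => ?_)).trans
      (h3.trans (Cong.of_eq (Finset.sum_congr rfl fun k _ => ?_)))
    · show _ * conj (l k : ℂ) = _
      rw [hlk k hk]
    · rw [mul_assoc, hunit, mul_one, CfsgLib.Blocks.apply_one_eq_charDegree]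
  have htot : Cong (∑ y ∈ Fx, Φ y) (∑ _y ∈ Fx, (d₁ : ℂ)) := by
    rw [← Finset.sum_fiberwise_of_maps_to (g := fun d : K.U => ConjClasses.mk (d : G))
        (t := Fx.image fun d : K.U => ConjClasses.mk (d : G)) (fun d hd => Finset.mem_image_of_mem _ hd) Φ,
      ← Finset.sum_fiberwise_of_maps_to (g := fun d : K.U => ConjClasses.mk (d : G))
        (t := Fx.image fun d : K.U => ConjClasses.mk (d : G))
        (fun d hd => Finset.mem_image_of_mem _ hd) fun _ : K.U => (d₁ : ℂ)]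
    refine Cong.sum _ fun c hc => ?_
    obtain ⟨a, ha, rfl⟩ := Finset.mem_image.1 hc
    rw [Finset.filter_congr fun (d : K.U) _ => (ConjClasses.mk_eq_mk_iff_isConj (α := G)).trans isConj_comm]
    exact hclass a ha
  rw [Finset.sum_const, nsmul_eq_mul, ← Nat.cast_mul] at htot
  have hodd : Odd (Fx.card * d₁) := by
    refine Odd.mul ?_ (K.hUodd.of_dvd_nat (CfsgLib.CharDegree.charDegree_dvd_card θ))
    have hF : Fx.card = Nat.card ((centralizer ({K.w i} : Set G)).subgroupOf K.U) := by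
      rw [Nat.card_eq_fintype_card, Fintype.card_subtype]
      refine congrArg Finset.card (Finset.filter_congr fun y _ => ?_)
      rw [mem_subgroupOf, mem_centralizer_singleton_iff]
      exact ⟨fun h => h.eq, fun h => h⟩
    rw [hF]
    exact K.hUodd.of_dvd_nat (card_subgroup_dvd_card _)
  have hone : Cong ((Fx.card * d₁ : ℕ) : ℂ) 1 := by
    simpa using cong_odd_mul hodd (isIntegral_one (R := ℤ) (B := ℂ))
  exact not_cong_one_zero (hone.symm.trans (htot.symm.trans hzero))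

end Ctx

end CfsgLib.GW.DLin
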