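import Cfsg.Agent.Lib.GW.Dne.Linear.Degree

/-!
# Moved classes at the four characters of a good linear character
-/

set_option autoImplicit false

open scoped Classical

namespace CfsgLib.GW.DLin

open Subgroup DihedralGroup Cfsg CfsgLib.Char CfsgLib.CharDegree
open CfsgLib.TwoGroups CfsgLib.TwoGroups.Dihedral
open scoped ComplexConjugate

universe v

noncomputable local instance (priority := 10000) irrDecEq₃ {A : Type v} [Group A] :
    DecidableEq (IrrCharacter A) := fun a b => Classical.propDecidable (a = b)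

namespace Ctx

variable {G : Type v} [Group G] [Fintype G] {K : Ctx G} [Fintype (IrrCharacter K.R)]
  [Fintype (IrrCharacter G)]

/-- Differences of a fixed class are orthogonal to those of another class. -/
theorem sum_cross_fixed {η₀ : IrrCharacter K.R} (h₀ : K.bar η₀ = η₀) {ζ : IrrCharacter K.R}
    (hζ : ζ ∈ K.cls η₀) {η η' : IrrCharacter K.R} (h : η ∉ K.cls η₀) (h' : η' ∉ K.cls η₀) :
    ∑ χ : IrrCharacter G, K.d η₀ ζ χ * K.d η η' χ = 0 := by
  rw [K.sum_d_mul_d ((K.mem_cls.1 hζ).symm K)]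
  have hb : ∀ {η : IrrCharacter K.R}, η ∉ K.cls η₀ → K.bar η ∉ K.cls η₀ := fun {η} hn hm => hn (by
    have := K.bar_mem_cls h₀ hm
    rwa [K.bar_bar] at this)
  have hne : ∀ {x η : IrrCharacter K.R}, x ∈ K.cls η₀ → η ∉ K.cls η₀ → x ≠ η :=
    fun hx hn e => hn (e ▸ hx)
  have h0 := K.self_mem_cls η₀
  simp [hne h0 h, hne h0 h', hne hζ h, hne hζ h', hne h0 (hb h), hne h0 (hb h'), hne hζ (hb h),
    hne hζ (hb h')]

/-- The support of a moved difference. -/
theorem moved_supp {ξ η : IrrCharacter K.R} (hb : ¬ K.Same (K.bar ξ) ξ) (hη : η ∈ K.cls ξ)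
    {χ : IrrCharacter G} (h0 : K.d ξ η χ ≠ 0) :
    ∃ w, w ≠ χ ∧ Pattern.supp (fun c => K.d ξ η c) = {χ, w} ∧ K.d ξ η w = -K.d ξ η χ ∧
      charDegree (χ : G → ℂ) = charDegree (w : G → ℂ) ∧
      ∀ v : IrrCharacter G → ℤ, ∑ c : IrrCharacter G, v c * K.d ξ η c = 0 → v w = v χ := by
  have hne : η ≠ ξ := fun q => h0 (by rw [q, d, sub_self])
  have hbne : ∀ {x y : IrrCharacter K.R}, x ∈ K.cls ξ → y ∈ K.cls ξ → x ≠ K.bar y := fun {x y} hx hy q =>
    hb (((K.mem_cls.1 hy).bar K).symm K |>.trans K (q ▸ K.mem_cls.1 hx))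
  have h2 : ∑ c : IrrCharacter G, K.d ξ η c * K.d ξ η c = 2 := by
    rw [K.sum_d_mul_d ((K.mem_cls.1 hη).symm K)]
    simp [hne, hne.symm, hbne (K.self_mem_cls ξ) (K.self_mem_cls ξ), hbne (K.self_mem_cls ξ) hη,
      hbne hη (K.self_mem_cls ξ), hbne hη hη]
  obtain ⟨a, b, hab, hs, hneg, -, hdeg⟩ := Pattern.norm_two
    (x := fun c : IrrCharacter G => (charDegree (c : G → ℂ) : ℤ))
    (fun c => by exact_mod_cast charDegree_pos c) h2 (K.sum_degree_d ((K.mem_cls.1 hη).symm K))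
  obtain ⟨w, hwχ, hs', hd, hx⟩ : ∃ w, w ≠ χ ∧ Pattern.supp (fun c => K.d ξ η c) = {χ, w} ∧
      K.d ξ η w = -K.d ξ η χ ∧ charDegree (χ : G → ℂ) = charDegree (w : G → ℂ) := by
    have hm : χ ∈ Pattern.supp (fun c => K.d ξ η c) := Pattern.mem_supp.2 h0
    rw [hs, Finset.mem_insert, Finset.mem_singleton] at hm
    rcases hm with rfl | rfl
    · exact ⟨b, hab.symm, hs, hneg, by exact_mod_cast hdeg⟩
    · exact ⟨a, hab, hs.trans (Finset.pair_comm _ _), by rw [hneg, neg_neg], by exact_mod_cast hdeg.symm⟩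
  refine ⟨w, hwχ, hs', hd, hx, fun v hv => ?_⟩
  rw [Finset.sum_congr rfl fun c _ => mul_comm (v c) _, Pattern.sum_supp, hs', Finset.sum_pair hwχ.symm,
    hd] at hv
  have h3 : K.d ξ η χ * (v w - v χ) = 0 := by linear_combination -hv
  linarith [(mul_eq_zero.1 h3).resolve_left h0]

/-- A moved class supported on one pair has two members. -/
theorem moved_two {ξ η : IrrCharacter K.R} (hb : ¬ K.Same (K.bar ξ) ξ) (hη : η ∈ K.cls ξ)
    {χ u : IrrCharacter G} (hχu : χ ≠ u) (h0 : K.d ξ η χ ≠ 0)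
    (hall : ∀ η' ∈ K.cls ξ, K.d ξ η' χ + K.d ξ η' u = 0)
    (hs : Pattern.supp (fun c => K.d ξ η c) = {χ, u}) : K.tw ξ 2 = ξ ∧ η = K.tw ξ 1 := by
  have hηξ : η ≠ ξ := fun q => h0 (by rw [q, d, sub_self])
  have honly : ∀ η' ∈ K.cls ξ, η' = ξ ∨ η' = η := by
    intro η' hη'
    by_contra hc
    push Not at hc
    have hbne : ∀ {x y : IrrCharacter K.R}, x ∈ K.cls ξ → y ∈ K.cls ξ → x ≠ K.bar y := fun {x y} hx hy q =>
      hb (((K.mem_cls.1 hy).bar K).symm K |>.trans K (q ▸ K.mem_cls.1 hx))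
    have h1 : ∑ c : IrrCharacter G, K.d ξ η c * K.d ξ η' c = 1 := by
      rw [K.sum_d_mul_d ((K.mem_cls.1 hη).symm K)]
      simp [hc.1.symm, hc.2.symm, hηξ, hbne (K.self_mem_cls ξ) (K.self_mem_cls ξ),
        hbne (K.self_mem_cls ξ) hη', hbne hη (K.self_mem_cls ξ), hbne hη hη']
    rw [Pattern.sum_supp, hs, Finset.sum_pair hχu, show K.d ξ η u = -K.d ξ η χ by linarith [hall η hη],
      show K.d ξ η' u = -K.d ξ η' χ by linarith [hall η' hη']] at h1
    have : (2 : ℤ) ∣ 1 := ⟨K.d ξ η χ * K.d ξ η' χ, by linear_combination -h1⟩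
    omega
  have h1ne : K.tw ξ 1 ≠ ξ := fun q => by
    have := (K.per_dvd_iff ξ).1 q
    obtain ⟨k, hk⟩ := K.even_per ξ
    have := Nat.le_of_dvd one_pos this
    have := (K.per_spec ξ).1
    omega
  have h1 : K.tw ξ 1 = η := (honly _ (K.mem_cls.2 (K.same_tw ξ 1))).resolve_left h1ne
  refine ⟨(honly _ (K.mem_cls.2 (K.same_tw ξ 2))).resolve_right fun q => ?_, h1.symm⟩
  rw [← h1, show (2 : ℕ) = 1 + 1 from rfl, ← K.tw_tw] at q
  have hp := K.eps_tw_one (K.tw ξ 1)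
  rw [q] at hp
  rcases K.eps_cases (K.tw ξ 1) with r | r <;> omega

omit [Fintype (IrrCharacter G)] in
/-- Constant multiplicity from vanishing differences. -/
theorem const_of_d {ξ : IrrCharacter K.R} {χ : IrrCharacter G} (h : ∀ η ∈ K.cls ξ, K.d ξ η χ = 0) :
    (∀ η ∈ K.cls ξ, K.m η χ = K.m ξ χ) ∧ K.a ξ χ = 0 := by
  refine ⟨fun η hη => ?_, ?_⟩
  · have := h η hη
    simp only [d] at this
    omega
  · rw [K.a_eq_sum_d ξ (η₀ := ξ), Finset.sum_eq_zero fun η hη => by rw [h η hη, mul_zero], neg_zero]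

end Ctx

end CfsgLib.GW.DLin
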