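import Mathlib.Algebra.Order.BigOperators.Ring.Finset
import Mathlib.Algebra.BigOperators.Intervals
import Mathlib.Data.Finset.Powerset
import Mathlib.Data.Fintype.BigOperators
import Mathlib.Tactic

/-!
# Small integer vectors of degree zero
-/

set_option autoImplicit false

open scoped Classical

namespace CfsgLib.GW.DLin.Pattern

variable {ι : Type*} [Fintype ι] {x : ι → ℤ}

/-- The support. -/
noncomputable def supp (v : ι → ℤ) : Finset ι := Finset.univ.filter fun i => v i ≠ 0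

theorem mem_supp {v : ι → ℤ} {i : ι} : i ∈ supp v ↔ v i ≠ 0 := by simp [supp]

theorem sum_supp (v w : ι → ℤ) : ∑ i, v i * w i = ∑ i ∈ supp v, v i * w i :=
  (Finset.sum_subset (Finset.subset_univ _) fun i _ hi => by
    rw [mem_supp, not_not] at hi; rw [hi, zero_mul]).symm

theorem sq_le (v : ι → ℤ) (i : ι) : v i * v i ≤ ∑ j, v j * v j :=
  Finset.single_le_sum (fun j _ => mul_self_nonneg (v j)) (Finset.mem_univ i)

theorem cases_of_le_three {v : ι → ℤ} (h : ∑ j, v j * v j ≤ 3) (i : ι) :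
    v i = 0 ∨ v i = 1 ∨ v i = -1 := by
  have h1 := (sq_le v i).trans h
  have h2 : -1 ≤ v i ∧ v i ≤ 1 := ⟨by nlinarith, by nlinarith⟩
  omega

theorem cases_of_four {v : ι → ℤ} (hx : ∀ i, 0 < x i) (h : ∑ j, v j * v j = 4)
    (hd : ∑ j, x j * v j = 0) (i : ι) : v i = 0 ∨ v i = 1 ∨ v i = -1 := by
  have h1 := (sq_le v i).trans h.le
  have h2 : -2 ≤ v i ∧ v i ≤ 2 := ⟨by nlinarith, by nlinarith⟩
  by_contra hc
  have h4 : v i * v i = 4 := by
    obtain ⟨ha, hb⟩ := h2
    interval_cases h5 : v i <;> simp_all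
  rw [← Finset.add_sum_erase _ _ (Finset.mem_univ i), h4] at h
  have hz : ∀ j ∈ Finset.univ.erase i, v j = 0 := fun j hj =>
    mul_self_eq_zero.1 ((Finset.sum_eq_zero_iff_of_nonneg fun k _ => mul_self_nonneg (v k)).1
      (by linarith) j hj)
  rw [← Finset.add_sum_erase _ _ (Finset.mem_univ i),
    Finset.sum_eq_zero fun j hj => by rw [hz j hj, mul_zero], add_zero] at hd
  rcases mul_eq_zero.1 hd with e | e
  · exact absurd e (hx i).ne'
  · exact hc (Or.inl e)

theorem card_supp {v : ι → ℤ} (hv : ∀ i, v i = 0 ∨ v i = 1 ∨ v i = -1) :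
    ((supp v).card : ℤ) = ∑ i, v i * v i := by
  rw [sum_supp, Finset.sum_congr rfl (g := fun _ => (1 : ℤ)) fun i hi => ?_]
  · simp
  · rcases hv i with e | e | e <;> simp_all [mem_supp]

/-- Norm two: a difference of two positions of equal weight. -/
theorem norm_two (hx : ∀ i, 0 < x i) {v : ι → ℤ} (h : ∑ j, v j * v j = 2) (hd : ∑ j, x j * v j = 0) :
    ∃ a b, a ≠ b ∧ supp v = {a, b} ∧ v b = -v a ∧ (v a = 1 ∨ v a = -1) ∧ x a = x b := by
  have hv := cases_of_le_three (v := v) (by omega)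
  have hc := card_supp hv
  rw [h] at hc
  obtain ⟨a, b, hab, he⟩ := Finset.card_eq_two.1 (by exact_mod_cast hc : (supp v).card = 2)
  have hd' : ∑ j ∈ supp v, x j * v j = 0 := by
    rw [← hd]
    exact Finset.sum_subset (Finset.subset_univ _) fun i _ hi => by
      rw [mem_supp, not_not] at hi; rw [hi, mul_zero]
  rw [he, Finset.sum_pair hab] at hd'
  have ha : v a ≠ 0 := mem_supp.1 (by simp [he])
  have hb : v b ≠ 0 := mem_supp.1 (by simp [he])
  refine ⟨a, b, hab, he, ?_⟩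
  have := hx a
  have := hx b
  rcases (hv a).resolve_left ha with e | e <;> rcases (hv b).resolve_left hb with e' | e' <;>
    rw [e, e'] at hd' ⊢ <;> omega

/-- A norm three vector against a norm four vector with inner product two. -/
structure Tri (P D : ι → ℤ) (p : Finset ι) (e : ι) : Prop where
  card : p.card = 2
  sub : p ⊆ supp P
  out : P e = 0
  eqP : ∀ i ∈ p, D i = P i
  De : D e = 1 ∨ D e = -1
  supp_eq : supp D = insert e p

theorem exists_tri {P D : ι → ℤ} (hP : ∀ i, P i = 0 ∨ P i = 1 ∨ P i = -1)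
    (hD : ∑ j, D j * D j = 3) (hPD : ∑ j, P j * D j = 2) :
    ∃ p e, Tri P D p e := by
  have hv := cases_of_le_three hD.le
  have hc := card_supp hv
  rw [hD] at hc
  obtain ⟨a, b, c, hab, hac, hbc, he⟩ := Finset.card_eq_three.1 (by exact_mod_cast hc : (supp D).card = 3)
  have hs : D a * P a + (D b * P b + D c * P c) = 2 := by
    rw [← hPD, Finset.sum_congr rfl fun j _ => mul_comm (P j) (D j), sum_supp, he,
      Finset.sum_insert (by simp [hab, hac]), Finset.sum_pair hbc]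
  have hne : ∀ i ∈ supp D, D i = 1 ∨ D i = -1 := fun i hi => (hv i).resolve_left (mem_supp.1 hi)
  have hDa := hne a (by simp [he])
  have hDb := hne b (by simp [he])
  have hDc := hne c (by simp [he])
  have build : ∀ {u w e : ι}, u ≠ w → P e = 0 → D u = P u → D w = P w → (D e = 1 ∨ D e = -1) →
      (D u = 1 ∨ D u = -1) → (D w = 1 ∨ D w = -1) → supp D = {e, u, w} → ∃ p e, Tri P D p e := by
    intro u w e huw hPe hu hw hDe hDu hDw hs'
    refine ⟨{u, w}, e, ⟨Finset.card_pair huw, ?_, hPe, ?_, hDe, hs'⟩⟩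
    · intro i hi
      rw [mem_supp]
      simp only [Finset.mem_insert, Finset.mem_singleton] at hi
      rcases hi with rfl | rfl <;> omega
    · intro i hi
      simp only [Finset.mem_insert, Finset.mem_singleton] at hi
      rcases hi with rfl | rfl <;> assumption
  have hcases : (P a = 0 ∧ D b = P b ∧ D c = P c) ∨ (P b = 0 ∧ D a = P a ∧ D c = P c) ∨
      (P c = 0 ∧ D a = P a ∧ D b = P b) := by
    rcases hDa with e | e <;> rcases hDb with e' | e' <;> rcases hDc with e'' | e'' <;>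
      rw [e, e', e''] at hs ⊢ <;>
      have := hP a <;> have := hP b <;> have := hP c <;> omega
  rcases hcases with ⟨h0, h1, h2⟩ | ⟨h0, h1, h2⟩ | ⟨h0, h1, h2⟩
  · exact build hbc h0 h1 h2 hDa hDb hDc he
  · exact build hac h0 h1 h2 hDb hDa hDc (he.trans (Finset.insert_comm _ _ _))
  · exact build hab h0 h1 h2 hDc hDa hDb (he.trans (by ext; simp; tauto))

namespace Tri

variable {P D D' : ι → ℤ} {p p' : Finset ι} {e e' : ι}

omit [Fintype ι] in
theorem sign_mul {P : ι → ℤ} (hP : ∀ i, P i = 0 ∨ P i = 1 ∨ P i = -1) {i : ι} (h : P i ≠ 0) :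
    P i * P i = 1 := by
  rcases (hP i).resolve_left h with e | e <;> rw [e] <;> norm_num

theorem e_notMem (h : Tri P D p e) : e ∉ p := fun he => mem_supp.1 (h.sub he) h.out

theorem zero (h : Tri P D p e) {i : ι} (h1 : i ∉ p) (h2 : i ≠ e) : D i = 0 := by
  by_contra hne
  have := mem_supp.2 hne
  rw [h.supp_eq, Finset.mem_insert] at this
  exact this.elim h2 h1

theorem inner (hP : ∀ i, P i = 0 ∨ P i = 1 ∨ P i = -1) (h : Tri P D p e) (h' : Tri P D' p' e') :
    ∑ i, D i * D' i = ((p ∩ p').card : ℤ) + D e * D' e := by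
  rw [sum_supp, h.supp_eq, Finset.sum_insert h.e_notMem, add_comm, ← Finset.sum_filter_add_sum_filter_not p
    (fun i => i ∈ p'), Finset.filter_mem_eq_inter,
    Finset.sum_eq_zero (s := p.filter fun i => ¬ i ∈ p') fun i hi => ?_, add_zero,
    Finset.sum_congr rfl (g := fun _ => (1 : ℤ)) fun i hi => ?_]
  · simp
  · rw [Finset.mem_inter] at hi
    rw [h.eqP i hi.1, h'.eqP i hi.2]
    exact sign_mul hP (mem_supp.1 (h.sub hi.1))
  · rw [Finset.mem_filter] at hi
    rw [h'.zero hi.2 fun e => mem_supp.1 (h.sub hi.1) (e ▸ h'.out), mul_zero]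

theorem mul_cases (h : Tri P D p e) (h' : Tri P D' p' e') :
    (e = e' ∧ D e = D' e ∧ D e * D' e = 1) ∨ D e * D' e = 0 ∨ (e = e' ∧ D e * D' e = -1) := by
  by_cases he : e = e'
  · subst he
    rcases h.De with a | a <;> rcases h'.De with b | b <;> rw [a, b] <;> simp
  · refine Or.inr (Or.inl ?_)
    rw [h'.zero (fun hm => mem_supp.1 (h'.sub hm) h.out) he, mul_zero]

theorem same_pair (hP : ∀ i, P i = 0 ∨ P i = 1 ∨ P i = -1) (h : Tri P D p e) (h' : Tri P D' p e')
    (hin : ∑ i, D i * D' i = 2) : e ≠ e' := by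
  rw [inner hP h h', Finset.inter_self, h.card] at hin
  push_cast at hin
  rintro rfl
  rcases h.mul_cases h' with ⟨-, -, q⟩ | q | ⟨-, q⟩
  · omega
  · rcases h.De with a | a <;> rcases h'.De with b | b <;> rw [a, b] at q <;> norm_num at q
  · omega

theorem diff_pair (hP : ∀ i, P i = 0 ∨ P i = 1 ∨ P i = -1) (h : Tri P D p e) (h' : Tri P D' p' e')
    (hin : ∑ i, D i * D' i = 2) (hne : p ≠ p') :
    (p ∩ p').card = 1 ∧ e = e' ∧ D e = D' e := by
  rw [inner hP h h'] at hin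
  have hle : (p ∩ p').card ≤ 1 := by
    by_contra hc
    push Not at hc
    refine hne (Finset.eq_of_subset_of_card_le ?_ (by rw [h.card, h'.card]))
    have := Finset.eq_of_subset_of_card_le (Finset.inter_subset_left : p ∩ p' ⊆ p) (by rw [h.card]; omega)
    rw [← this]
    exact Finset.inter_subset_right
  rcases h.mul_cases h' with ⟨h1, h2, q⟩ | q | ⟨-, q⟩
  · exact ⟨by omega, h1, h2⟩
  · omega
  · omega

end Tri

/-- A family of intersecting pairs in a set of four has at most three members. -/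
theorem card_le_three {κ : Type*} (J : Finset κ) (p : κ → Finset ι) (X : Finset ι) (hX : X.card = 4)
    (hp : ∀ j ∈ J, (p j).card = 2 ∧ p j ⊆ X) (hinj : ∀ i ∈ J, ∀ j ∈ J, p i = p j → i = j)
    (hint : ∀ i ∈ J, ∀ j ∈ J, i ≠ j → (p i ∩ p j).Nonempty) : J.card ≤ 3 := by
  have h1 : J.image p ⊆ X.powersetCard 2 := by
    intro q hq
    obtain ⟨j, hj, rfl⟩ := Finset.mem_image.1 hq
    exact Finset.mem_powersetCard.2 ⟨(hp j hj).2, (hp j hj).1⟩
  have h2 : J.image (fun j => X \ p j) ⊆ X.powersetCard 2 := by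
    intro q hq
    obtain ⟨j, hj, rfl⟩ := Finset.mem_image.1 hq
    refine Finset.mem_powersetCard.2 ⟨Finset.sdiff_subset, ?_⟩
    rw [Finset.card_sdiff_of_subset (hp j hj).2, hX, (hp j hj).1]
  have hd : Disjoint (J.image p) (J.image fun j => X \ p j) := by
    rw [Finset.disjoint_left]
    intro q hq hq'
    obtain ⟨i, hi, rfl⟩ := Finset.mem_image.1 hq
    obtain ⟨j, hj, e⟩ := Finset.mem_image.1 hq'
    by_cases hij : i = j
    · subst hij
      obtain ⟨a, ha⟩ := Finset.card_pos.1 (by rw [(hp i hi).1]; norm_num : 0 < (p i).card)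
      have hb := ha
      rw [← e, Finset.mem_sdiff] at hb
      exact hb.2 ha
    · obtain ⟨a, ha⟩ := hint i hi j hj hij
      rw [Finset.mem_inter, ← e, Finset.mem_sdiff] at ha
      exact ha.1.2 ha.2
  have h3 := Finset.card_le_card (Finset.union_subset h1 h2)
  rw [Finset.card_union_of_disjoint hd, Finset.card_powersetCard, hX,
    Finset.card_image_of_injOn (fun i hi j hj => hinj i hi j hj),
    Finset.card_image_of_injOn (fun i hi j hj e => hinj i hi j hj ?_)] at h3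
  · rw [show Nat.choose 4 2 = 6 by decide] at h3; omega
  · have := congrArg (X \ ·) e
    simp only [Finset.sdiff_sdiff_eq_self (hp i hi).2, Finset.sdiff_sdiff_eq_self (hp j hj).2] at this
    exact this

theorem sum_neg_one_Ico : ∀ r : ℕ, ∑ j ∈ Finset.Ico 1 (2 * (r + 1)), (-1 : ℤ) ^ j = -1
  | 0 => by decide
  | r + 1 => by
    rw [show 2 * (r + 1 + 1) = 2 * (r + 1) + 1 + 1 by ring, Finset.sum_Ico_succ_top (by omega),
      Finset.sum_Ico_succ_top (by omega), sum_neg_one_Ico r, pow_succ, Even.neg_one_pow ⟨r + 1, by ring⟩]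
    ring

/-- The data of a family of norm three vectors around a norm four one. -/
structure Fam (n : ℕ) (x : ι → ℤ) (P : ι → ℤ) (D : ℕ → ι → ℤ) (a : ι → ℤ) : Prop where
  two_le : 2 ≤ n
  pos : ∀ i, 0 < x i
  normP : ∑ i, P i * P i = 4
  degP : ∑ i, x i * P i = 0
  degD : ∀ j ∈ Finset.Ico 1 (2 ^ (n - 1)), ∑ i, x i * D j i = 0
  normD : ∀ j ∈ Finset.Ico 1 (2 ^ (n - 1)), ∑ i, D j i * D j i = 3 ∧ ∑ i, P i * D j i = 2
  inner : ∀ j ∈ Finset.Ico 1 (2 ^ (n - 1)), ∀ k ∈ Finset.Ico 1 (2 ^ (n - 1)), j ≠ k →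
    ∑ i, D j i * D k i = 2
  ha : ∀ i, a i = -P i - 2 * ∑ j ∈ Finset.Ico 1 (2 ^ (n - 1)), (-1) ^ j * D j i

variable {n : ℕ} {P : ι → ℤ} {D : ℕ → ι → ℤ} {a : ι → ℤ}

theorem Fam.cases (F : Fam n x P D a) : ∀ i, P i = 0 ∨ P i = 1 ∨ P i = -1 :=
  cases_of_four F.pos F.normP F.degP

/-- A choice of the pairs and the outer positions. -/
structure Pairs (P : ι → ℤ) (D : ℕ → ι → ℤ) (J : Finset ℕ) (p : J → Finset ι) (e : J → ι) : Prop where
  tri : ∀ j : J, Tri P (D j) (p j) (e j)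

theorem Fam.exists_pairs (F : Fam n x P D a) :
    ∃ p e, Pairs P D (Finset.Ico 1 (2 ^ (n - 1))) p e := by
  have htri : ∀ j : (Finset.Ico 1 (2 ^ (n - 1)) : Finset ℕ), ∃ p e, Tri P (D j) p e := fun j =>
    exists_tri F.cases (F.normD j j.2).1 (F.normD j j.2).2
  choose p e hT using htri
  exact ⟨p, e, ⟨hT⟩⟩

/-- One pair for all: every member serves. -/
theorem Fam.good_of_same (F : Fam n x P D a) {p : (Finset.Ico 1 (2 ^ (n - 1)) : Finset ℕ) → Finset ι}
    {e : (Finset.Ico 1 (2 ^ (n - 1)) : Finset ℕ) → ι} (h : Pairs P D _ p e)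
    (hall : ∀ i j, p i = p j) (k : (Finset.Ico 1 (2 ^ (n - 1)) : Finset ℕ)) :
    (∀ i ∈ p k, a i = P i) ∧ a (e k) * a (e k) = 4 := by
  obtain ⟨r, hr⟩ : ∃ r, 2 ^ (n - 1) = 2 * (r + 1) :=
    ⟨2 ^ (n - 2) - 1, by
      have := F.two_le
      rw [show n - 1 = n - 2 + 1 by omega, pow_succ]; have := Nat.one_le_two_pow (n := n - 2); omega⟩
  constructor
  · intro i hi
    rw [F.ha, Finset.sum_congr rfl (g := fun j => (-1) ^ j * P i) fun j hj => by
      rw [(h.tri ⟨j, hj⟩).eqP i (hall k ⟨j, hj⟩ ▸ hi)], ← Finset.sum_mul, hr, sum_neg_one_Ico]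
    ring
  · rw [F.ha, Finset.sum_eq_single_of_mem (k : ℕ) k.2 fun j hj hne => ?_, (h.tri k).out]
    · rcases neg_one_pow_eq_or ℤ (k : ℕ) with s | s <;> rcases (h.tri k).De with q | q <;>
        rw [s, q] <;> norm_num
    · rw [(h.tri ⟨j, hj⟩).zero ?_ ?_, mul_zero]
      · rw [← hall k]
        exact (h.tri k).e_notMem
      · have h' := h.tri ⟨j, hj⟩
        rw [← hall k] at h'
        exact Tri.same_pair F.cases (h.tri k) h' (F.inner k k.2 j hj (Ne.symm hne))

/-- Different pairs: three members with one outer position. -/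
theorem Fam.not_same (F : Fam n x P D a) {p : (Finset.Ico 1 (2 ^ (n - 1)) : Finset ℕ) → Finset ι}
    {e : (Finset.Ico 1 (2 ^ (n - 1)) : Finset ℕ) → ι} (h : Pairs P D _ p e)
    (hall : ¬ ∀ i j, p i = p j) : n = 3 ∧ ∃ (e₀ : ι) (s : ℤ),
      (∀ j, e j = e₀ ∧ D (j : ℕ) e₀ = s) ∧ (s = 1 ∨ s = -1) ∧ (supp P).card = 4 ∧
        Function.Injective p ∧ ∀ i j, i ≠ j → (p i ∩ p j).card = 1 := by
  have hPc := F.cases
  have hP := F.normP
  have hn := F.two_le
  have hT := h.tri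
  have hDD := F.inner
  push Not at hall
  obtain ⟨i₀, k₀, hne₀⟩ := hall
  have hdd : ∀ i j : (Finset.Ico 1 (2 ^ (n - 1)) : Finset ℕ), i ≠ j → ∑ l, D i l * D j l = 2 := fun i j h => hDD i i.2 j j.2 fun q => h (Subtype.ext q)
  have hdiff : ∀ {i j : (Finset.Ico 1 (2 ^ (n - 1)) : Finset ℕ)}, p i ≠ p j → (p i ∩ p j).card = 1 ∧ e i = e j ∧ D i (e i) = D j (e i) :=
    fun {i j} h => Tri.diff_pair hPc (hT i) (hT j) (hdd i j fun q => h (by rw [q])) h
  have he : ∀ j : (Finset.Ico 1 (2 ^ (n - 1)) : Finset ℕ), e j = e i₀ ∧ D j (e i₀) = D i₀ (e i₀) := by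
    intro j
    by_cases hj : p i₀ = p j
    · have hk : p k₀ ≠ p j := fun q => hne₀ (hj.trans q.symm)
      obtain ⟨-, q1, q2⟩ := hdiff hne₀
      obtain ⟨-, q3, q4⟩ := hdiff hk
      refine ⟨q3.symm.trans q1.symm, ?_⟩
      rw [q1, ← q4, ← q1, q2]
    · obtain ⟨-, q1, q2⟩ := hdiff hj
      exact ⟨q1.symm, q2.symm⟩
  have hinj : ∀ i j : (Finset.Ico 1 (2 ^ (n - 1)) : Finset ℕ), p i = p j → i = j := by
    intro i j q
    by_contra hij
    have h' := hT j
    rw [← q] at h'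
    exact Tri.same_pair hPc (hT i) h' (hdd i j hij) ((he i).1.trans (he j).1.symm)
  have hX : (supp P).card = 4 := by
    have := card_supp hPc
    rw [hP] at this
    exact_mod_cast this
  have hint : ∀ i j : (Finset.Ico 1 (2 ^ (n - 1)) : Finset ℕ), i ≠ j → (p i ∩ p j).Nonempty := fun i j h =>
    Finset.card_pos.1 (by rw [(hdiff fun q => h (hinj i j q)).1]; norm_num)
  have hcard := card_le_three (Finset.univ : Finset (Finset.Ico 1 (2 ^ (n - 1)) : Finset ℕ)) p (supp P) hX (fun j _ => ⟨(hT j).card, (hT j).sub⟩)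
    (fun i _ j _ => hinj i j) (fun i _ j _ => hint i j)
  rw [Finset.card_univ, Fintype.card_coe, Nat.card_Ico] at hcard
  have hn3 : n = 3 := by
    have h2 : n ≠ 2 := by
      intro h2
      have := i₀.2; have := k₀.2
      simp only [h2, Finset.mem_Ico] at *
      norm_num at *
      exact hne₀ (congrArg p (Subtype.ext (by omega)))
    by_contra h3
    have : 8 ≤ 2 ^ (n - 1) := le_trans (by norm_num) (Nat.pow_le_pow_right two_pos (by omega : 3 ≤ n - 1))
    omega
  exact ⟨hn3, e i₀, D i₀ (e i₀), he, (hT i₀).De, hX, fun i j => hinj i j,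
    fun i j hij => (hdiff fun q => hij (hinj i j q)).1⟩

/-- With a position of weight one in all, the pairs agree. -/
theorem Fam.good_of_one (F : Fam n x P D a) {c : ι} (hxc : x c = 1) (hPc : P c = 1)
    (hDc : ∀ j ∈ Finset.Ico 1 (2 ^ (n - 1)), D j c = 1) (j : ℕ) (hj : j ∈ Finset.Ico 1 (2 ^ (n - 1))) :
    ∃ w e, c ≠ w ∧ Tri P (D j) {c, w} e ∧ a w = P w ∧ a e * a e = 4 := by
  obtain ⟨p, e, h⟩ := F.exists_pairs
  have hc : ∀ k, c ∈ p k := fun k => by
    by_contra hn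
    have h1 := (h.tri k).zero hn fun q => by
      rw [q, (h.tri k).out] at hPc; exact absurd hPc (by norm_num)
    rw [hDc k k.2] at h1
    exact absurd h1 (by norm_num)
  have hpair : ∀ k, ∃ w, w ≠ c ∧ p k = {c, w} := fun k => by
    obtain ⟨w, hw⟩ := Finset.card_eq_one.1 (show ((p k).erase c).card = 1 by
      rw [Finset.card_erase_of_mem (hc k), (h.tri k).card])
    have : w ∈ (p k).erase c := by simp [hw]
    exact ⟨w, Finset.ne_of_mem_erase this, by rw [← Finset.insert_erase (hc k), hw]⟩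
  choose b hbc hb using hpair
  have hall : ∀ i k, p i = p k := by
    by_contra hall
    obtain ⟨hn3, e₀, s, he, hs, hX, hinj, -⟩ := F.not_same h hall
    have hdeg : ∀ k, x c + x (b k) * P (b k) + x e₀ * s = 0 := by
      intro k
      have h1 := F.degD k k.2
      rw [← Finset.sum_subset (Finset.subset_univ (insert e₀ (p k))) fun i _ hi => ?_,
        Finset.sum_insert ((he k).1 ▸ (h.tri k).e_notMem), hb k, Finset.sum_pair (hbc k).symm,
        (he k).2, hDc k k.2, (h.tri k).eqP (b k) (by simp [hb k])] at h1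
      · linarith
      · rw [Finset.mem_insert, not_or] at hi
        rw [(h.tri k).zero hi.2 (by rw [(he k).1]; exact hi.1), mul_zero]
    have hbinj : Function.Injective b := fun i k q => hinj (by rw [hb i, hb k, q])
    have hsX : supp P = insert c (Finset.univ.image b) := by
      refine (Finset.eq_of_subset_of_card_le (Finset.insert_subset_iff.2
        ⟨mem_supp.2 (by rw [hPc]; norm_num), fun i hi => ?_⟩) ?_).symm
      · obtain ⟨k, -, rfl⟩ := Finset.mem_image.1 hi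
        exact (h.tri k).sub (by simp [hb k])
      · rw [hX, Finset.card_insert_of_notMem, Finset.card_image_of_injective _ hbinj, Finset.card_univ,
          Fintype.card_coe, hn3]
        · decide
        · intro hm
          obtain ⟨k, -, q⟩ := Finset.mem_image.1 hm
          exact hbc k q
    have hd := F.degP
    rw [← Finset.sum_subset (Finset.subset_univ (supp P)) fun i _ hi => by
        rw [mem_supp, not_not] at hi; rw [hi, mul_zero],
      hsX, Finset.sum_insert (fun hm => by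
        obtain ⟨k, -, q⟩ := Finset.mem_image.1 hm
        exact hbc k q), Finset.sum_image fun i _ k _ q => hbinj q, hPc, mul_one] at hd
    have hsum := Finset.sum_congr rfl fun (k : (Finset.Ico 1 (2 ^ (n - 1)) : Finset ℕ))
      (_ : k ∈ Finset.univ) => hdeg k
    rw [Finset.sum_add_distrib, Finset.sum_add_distrib, Finset.sum_const, Finset.sum_const,
      Finset.sum_const_zero, Finset.card_univ,
      show Fintype.card (Finset.Ico 1 (2 ^ (n - 1)) : Finset ℕ) = 3 by rw [Fintype.card_coe, Nat.card_Ico, hn3]; rfl,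
      hxc] at hsum
    rw [hxc] at hd
    norm_num at hsum
    rw [← Finset.univ_eq_attach] at hsum
    rcases hs with q | q <;> rw [q] at hsum <;> omega
  obtain ⟨h1, h2⟩ := F.good_of_same h hall ⟨j, hj⟩
  refine ⟨b ⟨j, hj⟩, e ⟨j, hj⟩, (hbc _).symm, hb ⟨j, hj⟩ ▸ h.tri ⟨j, hj⟩, h1 _ (by simp [hb ⟨j, hj⟩]), h2⟩

/-- The three positions read from one of the vectors. -/
theorem Fam.exists_good (F : Fam n x P D a) :
    ∃ j ∈ Finset.Ico 1 (2 ^ (n - 1)), ∃ χ₀ χ₁ e, χ₀ ≠ χ₁ ∧ Tri P (D j) {χ₀, χ₁} e ∧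
      ∃ κ : ℤ, (κ = 1 ∨ κ = -1) ∧ a χ₀ = κ * P χ₀ ∧ a χ₁ = κ * P χ₁ ∧ a e * a e = 4 := by
  obtain ⟨p, e, h⟩ := F.exists_pairs
  have h1mem : 1 ∈ Finset.Ico 1 (2 ^ (n - 1)) := by
    have := F.two_le
    exact Finset.mem_Ico.2 ⟨le_rfl, Nat.one_lt_two_pow (by omega)⟩
  by_cases hall : ∀ i j, p i = p j
  · obtain ⟨u, w, huw, hp1⟩ := Finset.card_eq_two.1 (h.tri ⟨1, h1mem⟩).card
    obtain ⟨h1, h2⟩ := F.good_of_same h hall ⟨1, h1mem⟩
    exact ⟨1, h1mem, u, w, _, huw, hp1 ▸ h.tri ⟨1, h1mem⟩, 1, Or.inl rfl,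
      by rw [h1 u (by simp [hp1]), one_mul], by rw [h1 w (by simp [hp1]), one_mul], h2⟩
  obtain ⟨hn3, e₀, s, he, hs, hX, hinj', hint⟩ := F.not_same h hall
  have hPc := F.cases
  have hT := h.tri
  have hinj : ∀ i j : (Finset.Ico 1 (2 ^ (n - 1)) : Finset ℕ), p i = p j → i = j := fun i j q => hinj' q
  have hdiff : ∀ {i j : (Finset.Ico 1 (2 ^ (n - 1)) : Finset ℕ)}, p i ≠ p j → (p i ∩ p j).card = 1 := fun {i j} q => hint i j fun r => q (by rw [r])
  have hJ3 : (Finset.Ico 1 (2 ^ (n - 1)) : Finset ℕ) = {1, 2, 3} := by rw [hn3]; rfl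
  have h2mem : 2 ∈ (Finset.Ico 1 (2 ^ (n - 1)) : Finset ℕ) := by simp [hJ3]
  have h3mem : 3 ∈ (Finset.Ico 1 (2 ^ (n - 1)) : Finset ℕ) := by simp [hJ3]
  set p1 := p ⟨1, h1mem⟩
  set p2 := p ⟨2, h2mem⟩
  set p3 := p ⟨3, h3mem⟩
  have hDv : ∀ (j : (Finset.Ico 1 (2 ^ (n - 1)) : Finset ℕ)) {i : ι}, i ∈ supp P → D j i = if i ∈ p j then P i else 0 := by
    intro j i hi
    split_ifs with h
    · exact (hT j).eqP i h
    · exact (hT j).zero h fun q => mem_supp.1 hi (q ▸ (hT j).out)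
  have hval : ∀ i ∈ supp P, a i = -P i * (1 + 2 * (-(if i ∈ p1 then 1 else 0) +
      (if i ∈ p2 then 1 else 0) - (if i ∈ p3 then 1 else 0))) := by
    intro i hi
    rw [F.ha, hJ3, Finset.sum_insert (by decide), Finset.sum_pair (by decide), hDv ⟨1, h1mem⟩ hi,
      hDv ⟨2, h2mem⟩ hi, hDv ⟨3, h3mem⟩ hi]
    split_ifs <;> ring
  have hae : a e₀ * a e₀ = 4 := by
    rw [F.ha, hJ3, Finset.sum_insert (by decide), Finset.sum_pair (by decide), (he ⟨1, h1mem⟩).2,
      (he ⟨2, h2mem⟩).2, (he ⟨3, h3mem⟩).2,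
      (show P e₀ = 0 by rw [← (he ⟨1, h1mem⟩).1]; exact (hT ⟨1, h1mem⟩).out)]
    rcases hs with q | q <;> rw [q] <;> norm_num
  have hne : ∀ {i j : ℕ} (hi : i ∈ (Finset.Ico 1 (2 ^ (n - 1)) : Finset ℕ)) (hj : j ∈ (Finset.Ico 1 (2 ^ (n - 1)) : Finset ℕ)), i ≠ j → (⟨i, hi⟩ : (Finset.Ico 1 (2 ^ (n - 1)) : Finset ℕ)) ≠ ⟨j, hj⟩ :=
    fun hi hj h q => h (congrArg Subtype.val q)
  have mkTri : ∀ {j : ℕ} (hj : j ∈ (Finset.Ico 1 (2 ^ (n - 1)) : Finset ℕ)) {u w : ι}, p ⟨j, hj⟩ = {u, w} → Tri P (D j) {u, w} e₀ := by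
    intro j hj u w q
    rw [← q, ← (he ⟨j, hj⟩).1]
    exact hT ⟨j, hj⟩
  by_cases hcom : ∃ c, c ∈ p1 ∧ c ∈ p2 ∧ c ∈ p3
  · obtain ⟨c, c1, c2, c3⟩ := hcom
    obtain ⟨w, hw⟩ := Finset.card_eq_one.1 (show (p1.erase c).card = 1 by
      rw [Finset.card_erase_of_mem c1, (hT _).card])
    have hw1 : w ∈ p1 ∧ w ≠ c := by
      have : w ∈ p1.erase c := by simp [hw]
      exact ⟨Finset.mem_of_mem_erase this, Finset.ne_of_mem_erase this⟩
    have hp : p1 = {c, w} := by rw [← Finset.insert_erase c1, hw]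
    have hw2 : ∀ j : (Finset.Ico 1 (2 ^ (n - 1)) : Finset ℕ), j ≠ ⟨1, h1mem⟩ → c ∈ p j → w ∉ p j := fun j hj hc hwj => hj (hinj j _ (by
      refine (Finset.eq_of_subset_of_card_le ?_ (by rw [(hT j).card, (hT ⟨1, h1mem⟩).card])).symm
      show p1 ⊆ p j
      rw [hp]
      intro i hi
      simp only [Finset.mem_insert, Finset.mem_singleton] at hi
      rcases hi with rfl | rfl <;> assumption))
    refine ⟨1, h1mem, c, w, e₀, hw1.2.symm, mkTri h1mem hp, 1, Or.inl rfl, ?_, ?_, hae⟩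
    · rw [hval c ((hT _).sub c1), if_pos c1, if_pos c2, if_pos c3]; ring
    · rw [hval w ((hT _).sub hw1.1), if_pos hw1.1,
        if_neg (hw2 ⟨2, h2mem⟩ (hne _ _ (by decide)) c2), if_neg (hw2 ⟨3, h3mem⟩ (hne _ _ (by decide)) c3)]
      ring
  push Not at hcom
  obtain ⟨u, hu⟩ := Finset.card_eq_one.1 (hdiff fun q =>
    hne h1mem h2mem (by decide) (hinj _ _ q))
  obtain ⟨w, hw⟩ := Finset.card_eq_one.1 (hdiff fun q =>
    hne h3mem h2mem (by decide) (hinj _ _ q))
  have hu' : u ∈ p1 ∧ u ∈ p2 := Finset.mem_inter.1 (hu ▸ Finset.mem_singleton_self u)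
  have hw' : w ∈ p3 ∧ w ∈ p2 := Finset.mem_inter.1 (hw ▸ Finset.mem_singleton_self w)
  have huw : u ≠ w := fun q => hcom u hu'.1 hu'.2 (q ▸ hw'.1)
  have hp : p2 = {u, w} := (Finset.eq_of_subset_of_card_le (by
      intro i hi
      simp only [Finset.mem_insert, Finset.mem_singleton] at hi
      rcases hi with rfl | rfl
      exacts [hu'.2, hw'.2]) (by rw [(hT _).card, Finset.card_pair huw])).symm
  refine ⟨2, h2mem, u, w, e₀, huw, mkTri h2mem hp, -1, Or.inr rfl, ?_, ?_, hae⟩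
  · rw [hval u ((hT _).sub hu'.2), if_pos hu'.1, if_pos hu'.2, if_neg (hcom u hu'.1 hu'.2)]; ring
  · rw [hval w ((hT _).sub hw'.2), if_neg fun h => hcom w h hw'.2 hw'.1, if_pos hw'.2, if_pos hw'.1]; ring

end CfsgLib.GW.DLin.Pattern
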