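import Cfsg.Agent.Lib.GW.Dne.Linear.Degree

/-!
# A linear character invariant for one class only (Sylow 2-subgroups of order eight)

`l₁` is fixed by the moving reflection and equals the rotated `l` on its fixed points; the classes of
`R` over `l` and over `l₁` are the only ones of odd signed multiplicity next to `l`.
-/

set_option autoImplicit false

open scoped Classical

namespace CfsgLib.GW.DLin

open Subgroup DihedralGroup Cfsg CfsgLib.Char CfsgLib.CharDegree
open CfsgLib.TwoGroups CfsgLib.TwoGroups.Dihedral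
open CfsgLib.GW.Two.Lin (Cong cong_odd_mul not_cong_one_zero)
open scoped ComplexConjugate
open CfsgLib.Signalizer (involution_sq involution_inv involution_ne_one orderOf_conj)

universe v

namespace Ctx

variable {G : Type v} [Group G] [Fintype G] (K : Ctx G)

/-- `l` invariant for one class, `l₁` fixed and equal to the rotated `l` for the other. -/
structure Tri (l l₁ : K.U →* ℂˣ) : Prop where
  n_eq : K.n = 2
  good : K.Good l
  inv : K.Inv true l
  fixed₁ : ∀ x y : K.U, (y : G) = K.w false * x * (K.w false)⁻¹ → l₁ y = l₁ x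
  rot₁ : ∀ x y : K.U, Commute (x : G) (K.w false) → (y : G) = K.g false * x * (K.g false)⁻¹ → l₁ x = l y
  move : ¬ K.Inv false l

/-- Conjugation of `U` by the first rotation of `S`. -/
def cjz : K.U ≃* K.U where
  toFun y := ⟨K.F (r 1) * y * (K.F (r 1))⁻¹, K.conj_mem (K.comm_F _) y.2⟩
  invFun y := ⟨(K.F (r 1))⁻¹ * y * K.F (r 1), by
    simpa using K.conj_mem (K.comm_F (r 1)).inv_left y.2⟩
  left_inv y := Subtype.ext (by simp [mul_assoc])
  right_inv y := Subtype.ext (by simp [mul_assoc])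
  map_mul' x y := Subtype.ext (by simp [mul_assoc])

theorem cjz_apply (y : K.U) : (K.cjz y : G) = K.F (r 1) * y * (K.F (r 1))⁻¹ := rfl

/-- The third character. -/
def third (l₁ : K.U →* ℂˣ) : K.U →* ℂˣ := l₁.comp K.cjz.toMonoidHom

theorem third_apply (l₁ : K.U →* ℂˣ) (y : K.U) : K.third l₁ y = l₁ (K.cjz y) := rfl

theorem F_r_one_w (hn : K.n = 2) :
    K.F (r 1) * K.w false * (K.F (r 1))⁻¹ = K.t * K.w false := by
  rw [w, t, if_neg (by simp), ← map_inv, ← map_mul, ← map_mul, ← map_mul, inv_r, r_mul_sr, sr_mul_r, r_mul_sr]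
  congr 2
  have h : half K.n = (2 : ZMod (2 ^ K.n)) := by
    rw [half, hn]; norm_num
  rw [h]; ring

theorem F_r_one_inv_w (hn : K.n = 2) :
    (K.F (r 1))⁻¹ * K.w false * K.F (r 1) = K.t * K.w false := by
  have h := K.F_r_one_w hn
  set z := K.F (r 1)
  have hz : z * K.t * z⁻¹ = K.t := by rw [(K.comm_F (r 1)).eq, mul_inv_cancel_right]
  calc z⁻¹ * K.w false * z = z⁻¹ * (K.t * (K.t * K.w false)) * z := by
        rw [← mul_assoc K.t, involution_sq K.ht, one_mul]
    _ = z⁻¹ * (z * K.t * z⁻¹ * (z * K.w false * z⁻¹)) * z := by rw [h, hz]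
    _ = K.t * K.w false := by group

theorem rot_cube (i : Bool) :
    Commute (K.g i * K.g i * K.g i) K.t ∧ Commute (K.g i * K.g i * K.g i) (K.w i) := by
  have hr := K.rot' i
  set g := K.g i
  have h3 : g * (K.t * K.w i) * g⁻¹ = K.t := by
    rw [show g * (K.t * K.w i) * g⁻¹ = g * K.t * g⁻¹ * (g * K.w i * g⁻¹) by group, hr.conj1, hr.conj2,
      ← mul_assoc, ← hr.comm.eq, mul_assoc, K.w_sq, mul_one]
  constructor
  · refine mul_inv_eq_iff_eq_mul.1 ?_
    rw [show g * g * g * K.t * (g * g * g)⁻¹ = g * (g * (g * K.t * g⁻¹) * g⁻¹) * g⁻¹ by group, hr.conj1,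
      hr.conj2, h3]
  · refine mul_inv_eq_iff_eq_mul.1 ?_
    rw [show g * g * g * K.w i * (g * g * g)⁻¹ = g * (g * (g * K.w i * g⁻¹) * g⁻¹) * g⁻¹ by group, hr.conj2,
      h3, hr.conj1]

/-- The centraliser of the four-group acts on `D` through `D`. -/
theorem conj_four {c : G} (hct : Commute c K.t) (hcw : Commute c (K.w false)) {x : G} (hx : x ∈ K.U)
    (hxw : Commute x (K.w false)) :
    ∃ a : K.U, Commute (a : G) (K.w false) ∧ c * x * c⁻¹ = a * x * (a : G)⁻¹ := by
  obtain ⟨a, ha, s, rfl⟩ := K.split c hct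
  have hW : K.F (sr 0) = K.w false := rfl
  have h1 : K.w false * a * (K.w false)⁻¹ * K.F (sr 0 * s * (sr 0)⁻¹) = a * K.F s := by
    rw [map_mul, map_mul, map_inv, hW]
    refine Eq.trans ?_ (mul_inv_eq_iff_eq_mul.2 hcw.symm.eq)
    group
  obtain ⟨h2, h3⟩ := K.eq_of_mul_eq (K.conj_mem (K.commute_w false) ha) ha h1
  refine ⟨⟨a, ha⟩, (mul_inv_eq_iff_eq_mul.1 h2 : Commute (K.w false) a).symm, ?_⟩
  have hs : Commute (K.F s) x := by
    have hsw : sr 0 * s = s * sr 0 := mul_inv_eq_iff_eq_mul.1 h3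
    have hz : ∀ i : ZMod (2 ^ K.n), i + i = 0 → Commute (K.F (r i)) x := fun i hi => by
      rcases CfsgLib.TwoGroups.Dihedral.sq_eq_one_r K.one_le (t := i) (by rw [r_mul_r, hi, r_zero]) with e | e
      · rw [e, map_one]; exact Commute.one_left _
      · rw [e]; exact (K.comm_U hx).symm
    rcases s with i | i
    · refine hz i ?_
      rw [sr_mul_r, r_mul_sr, sr.injEq] at hsw
      linear_combination hsw
    · rw [sr_mul_sr, sr_mul_sr, r.injEq] at hsw
      rw [show (sr i : DihedralGroup (2 ^ K.n)) = sr 0 * r i by rw [sr_mul_r, zero_add], map_mul, hW]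
      exact hxw.symm.mul_left (hz i (by linear_combination hsw))
  show a * K.F s * x * (a * K.F s)⁻¹ = a * x * a⁻¹
  rw [show a * K.F s * x * (a * K.F s)⁻¹ = a * (K.F s * x * (K.F s)⁻¹) * a⁻¹ by group, hs.eq,
    mul_inv_cancel_right]

variable {K} {l l₁ : K.U →* ℂˣ}

theorem Tri.third_fixed (h : K.Tri l l₁) (x y : K.U) (e : (y : G) = K.w false * x * (K.w false)⁻¹) :
    K.third l₁ y = K.third l₁ x := by
  rw [third_apply, third_apply]
  refine h.fixed₁ _ _ ?_
  rw [cjz_apply, cjz_apply, e]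
  set z := K.F (r 1)
  have hU := K.conj_mem (K.comm_F (r 1)) x.2
  calc z * (K.w false * x * (K.w false)⁻¹) * z⁻¹
      = z * K.w false * z⁻¹ * (z * x * z⁻¹) * (z * K.w false * z⁻¹)⁻¹ := by group
    _ = K.t * (K.w false * (z * x * z⁻¹) * (K.w false)⁻¹) * K.t⁻¹ := by rw [K.F_r_one_w h.n_eq]; group
    _ = _ := by
      rw [← (K.comm_U (K.conj_mem (K.commute_w false) hU)).eq, mul_inv_cancel_right]

theorem commute_cjz (hn : K.n = 2) {x : K.U} (hx : Commute (x : G) (K.w false)) :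
    Commute (K.cjz x : G) (K.w false) := by
  have h1 := hx.map (MulAut.conj (K.F (r 1))).toMonoidHom
  simp only [MulEquiv.coe_toMonoidHom, MulAut.conj_apply, K.F_r_one_w hn] at h1
  have h2 := Commute.mul_right (K.comm_U (K.cjz x).2) (b := K.t) (c := K.t * K.w false) h1
  rwa [← mul_assoc, involution_sq K.ht, one_mul] at h2

/-- The rotated values on `D`. -/
theorem Tri.third_eq (h : K.Tri l l₁) (x y : K.U) (hx : Commute (x : G) (K.w false))
    (e : (y : G) = K.g false * K.g false * x * (K.g false * K.g false)⁻¹) : K.third l₁ x = l y := by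
  set g := K.g false with hg
  set z := K.F (r 1)
  set w := K.w false
  have hr := K.rot' false
  have hz : Commute z K.t := K.comm_F (r 1)
  set c := g * (z⁻¹ * g * z)
  have hgt : g * K.t * g⁻¹ = w := hr.conj1
  have hgw : g * w * g⁻¹ = K.t * w := hr.conj2
  have h3 : g * (K.t * w) * g⁻¹ = K.t := by
    rw [show g * (K.t * w) * g⁻¹ = g * K.t * g⁻¹ * (g * w * g⁻¹) by group, hgt, hgw,
      ← mul_assoc, ← hr.comm.eq, mul_assoc, K.w_sq, mul_one]
  have hzt : z * K.t * z⁻¹ = K.t := by rw [hz.eq, mul_inv_cancel_right]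
  have hct : Commute c K.t := by
    refine mul_inv_eq_iff_eq_mul.1 ?_
    rw [show c * K.t * c⁻¹ = g * (z⁻¹ * (g * (z * K.t * z⁻¹) * g⁻¹) * z) * g⁻¹ by simp only [c]; group, hzt, hgt,
      K.F_r_one_inv_w h.n_eq, h3]
  have hcw : Commute c w := by
    refine mul_inv_eq_iff_eq_mul.1 ?_
    have hzt' : z⁻¹ * K.t * z = K.t := by rw [mul_assoc, ← hz.eq, inv_mul_cancel_left]
    rw [show c * w * c⁻¹ = g * (z⁻¹ * (g * (z * w * z⁻¹) * g⁻¹) * z) * g⁻¹ by simp only [c]; group,
      K.F_r_one_w h.n_eq, h3, hzt', hgt]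
  obtain ⟨a, haw, hca⟩ := K.conj_four hct hcw x.2 hx
  have hzx := commute_cjz h.n_eq hx
  set Y : K.U := ⟨g * (K.cjz x) * g⁻¹, (K.rot_conj_mem (K.cjz x).2 hzx).1⟩
  rw [third_apply, h.rot₁ (K.cjz x) Y hzx rfl]
  -- two steps in `C(t)`
  set X : K.U := a * x * a⁻¹ with hX
  have hXw : Commute (X : G) w := (haw.mul_left hx).mul_left haw.inv_left
  set Y' : K.U := ⟨_, (K.rot_pow_mem X.2 hXw 2).1⟩
  have hcube := (K.rot_cube false).1
  have e1 : l Y = l Y' := by
    refine h.good.conj_cent (c := z * (g * g * g)⁻¹) (hz.mul_left hcube.inv_left) _ _ ?_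
    show g * (z * x * z⁻¹) * g⁻¹ = z * (g * g * g)⁻¹ * (g ^ 2 * (a * x * (a : G)⁻¹) * (g ^ 2)⁻¹) * (z * (g * g * g)⁻¹)⁻¹
    rw [← hca, pow_two]
    simp only [c]
    group
  rw [e1]
  obtain ⟨m1, -⟩ := K.rot_pow_mem a.2 haw 2
  obtain ⟨m2, -⟩ := K.rot_pow_mem x.2 hx 2
  have hy : y = ⟨_, m2⟩ := Subtype.ext (by rw [e]; show _ = g ^ 2 * (x : G) * (g ^ 2)⁻¹; rw [pow_two])
  rw [show Y' = ⟨_, m1⟩ * y * (⟨_, m1⟩)⁻¹ from Subtype.ext (by
    rw [hy]
    show g ^ 2 * (a * x * (a : G)⁻¹) * (g ^ 2)⁻¹ =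
      g ^ 2 * a * (g ^ 2)⁻¹ * (g ^ 2 * x * (g ^ 2)⁻¹) * (g ^ 2 * a * (g ^ 2)⁻¹)⁻¹
    group), map_mul, map_mul, map_inv, mul_comm (l _) (l y), mul_inv_cancel_right]

theorem Tri.f_rot (h : K.Tri l l₁) (x y : K.U) (hx : Commute (x : G) (K.w false))
    (e : (y : G) = K.g false * x * (K.g false)⁻¹) :
    l y = l₁ x ∧ l₁ y = K.third l₁ x ∧ K.third l₁ y = l x := by
  have hy : Commute (y : G) (K.w false) := e ▸ (K.rot_conj_mem x.2 hx).2
  set y2 : K.U := ⟨_, (K.rot_conj_mem y.2 hy).1⟩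
  have hy2 : Commute (y2 : G) (K.w false) := (K.rot_conj_mem y.2 hy).2
  set y3 : K.U := ⟨_, (K.rot_conj_mem y2.2 hy2).1⟩
  refine ⟨(h.rot₁ x y hx e).symm, ?_, ?_⟩
  · rw [h.rot₁ y y2 hy rfl]
    refine (h.third_eq x y2 hx ?_).symm
    show K.g false * (y : G) * (K.g false)⁻¹ = _
    rw [e]; group
  · rw [h.third_eq y y3 hy (by
      show K.g false * (K.g false * (y : G) * (K.g false)⁻¹) * (K.g false)⁻¹ = _; group)]
    refine h.good.conj_cent (c := K.g false * K.g false * K.g false) (K.rot_cube false).1 x y3 ?_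
    show K.g false * (K.g false * (y : G) * (K.g false)⁻¹) * (K.g false)⁻¹ = _
    rw [e]; group

theorem Tri.third_ne (h : K.Tri l l₁) : l ≠ l₁ ∧ l ≠ K.third l₁ ∧ l₁ ≠ K.third l₁ := by
  have h1 : l ≠ l₁ := fun q => h.move fun x y hx e => by rw [(h.f_rot x y hx e).1, q]
  refine ⟨h1, fun q => h1 (MonoidHom.ext fun y => ?_), fun q => h.move fun x y hx e => ?_⟩
  · obtain ⟨x, rfl⟩ := K.cjz.surjective y
    have hq := DFunLike.congr_fun q x
    rw [third_apply] at hq
    rw [← hq]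
    exact h.good.conj_F (r 1) x _ rfl
  · obtain ⟨e1, e2, e3⟩ := h.f_rot x y hx e
    have hy : Commute (y : G) (K.w false) := e ▸ (K.rot_conj_mem x.2 hx).2
    rw [← e3, ← DFunLike.congr_fun q y, e2, ← DFunLike.congr_fun q x]
    exact e1

/-- The sum of the three, conjugated. -/
noncomputable def Tri.F3 (_h : K.Tri l l₁) (y : K.U) : ℂ :=
  conj ((l y : ℂ) + (l₁ y : ℂ) + (K.third l₁ y : ℂ))

theorem Tri.F3_rot (h : K.Tri l l₁) (x y : K.U) (hx : Commute (x : G) (K.w false))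
    (e : (y : G) = K.g false * x * (K.g false)⁻¹) : h.F3 y = h.F3 x := by
  obtain ⟨e1, e2, e3⟩ := h.f_rot x y hx e
  simp only [F3, e1, e2, e3, map_add]
  ring

theorem Tri.F3_pow (h : K.Tri l l₁) (x : K.U) (hx : Commute (x : G) (K.w false)) :
    ∀ (k : ℕ) (y : K.U), (y : G) = K.g false ^ k * x * (K.g false ^ k)⁻¹ → h.F3 y = h.F3 x
  | 0, y, e => by
    rw [pow_zero, one_mul, inv_one, mul_one] at e
    exact congrArg h.F3 (Subtype.ext e)
  | k + 1, y, e => by
    have hz := K.rot_pow_mem x.2 hx k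
    rw [h.F3_rot ⟨_, hz.1⟩ y hz.2 (by rw [e, pow_succ']; group)]
    exact F3_pow h x hx k _ rfl

theorem Tri.F3_z (h : K.Tri l l₁) (x : K.U) : h.F3 (K.cjz x) = h.F3 x := by
  have e1 : l (K.cjz x) = l x := h.good.conj_F (r 1) x _ rfl
  have e2 : l₁ (K.cjz x) = K.third l₁ x := rfl
  have e3 : K.third l₁ (K.cjz x) = l₁ x := by
    rw [third_apply]
    refine congrArg l₁ (Subtype.ext ?_)
    rw [cjz_apply, cjz_apply]
    have hh : (r 1 * r 1 : DihedralGroup (2 ^ K.n)) = r (half K.n) := by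
      rw [r_mul_r, half, h.n_eq]; norm_num
    calc K.F (r 1) * (K.F (r 1) * x * (K.F (r 1))⁻¹) * (K.F (r 1))⁻¹
        = K.F (r 1 * r 1) * x * (K.F (r 1 * r 1))⁻¹ := by rw [map_mul]; group
      _ = x := by
        rw [hh]
        exact mul_inv_eq_iff_eq_mul.2 (K.comm_U x.2).eq.symm
  simp only [F3, e1, e2, e3, map_add]
  ring

theorem Tri.F3_F (h : K.Tri l l₁) (s : DihedralGroup (2 ^ K.n)) (x y : K.U)
    (e : (y : G) = K.F s * x * (K.F s)⁻¹) : h.F3 y = h.F3 x := by
  have hr : ∀ (k : ℕ) (x y : K.U), (y : G) = K.F (r (k : ZMod (2 ^ K.n))) * x * (K.F (r (k : ZMod (2 ^ K.n))))⁻¹ →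
      h.F3 y = h.F3 x := by
    intro k
    induction k with
    | zero =>
      intro x y e
      rw [Nat.cast_zero, r_zero, map_one, one_mul, inv_one, mul_one] at e
      exact congrArg h.F3 (Subtype.ext e)
    | succ k ih =>
      intro x y e
      rw [← h.F3_z x]
      refine ih (K.cjz x) y ?_
      rw [e, Nat.cast_succ, ← r_mul_r, map_mul, cjz_apply]
      group
  rcases s with i | i
  · exact hr i.val x y (by rw [e, ZMod.natCast_zmod_val])
  · set z : K.U := ⟨K.F (r i) * x * (K.F (r i))⁻¹, K.conj_mem (K.comm_F _) x.2⟩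
    rw [← hr i.val x z (by rw [ZMod.natCast_zmod_val])]
    have e' : (y : G) = K.w false * z * (K.w false)⁻¹ := by
      rw [e, show (sr i : DihedralGroup (2 ^ K.n)) = sr 0 * r i by rw [sr_mul_r, zero_add], map_mul]
      show _ = K.F (sr 0) * (K.F (r i) * x * (K.F (r i))⁻¹) * (K.F (sr 0))⁻¹
      group
    simp only [F3, h.good.fixed false z y e', h.fixed₁ z y e', h.third_fixed z y e']

theorem Tri.F3_of_isConj (h : K.Tri l l₁) {a b : K.U} (ha : Commute (a : G) (K.w false))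
    (hb : Commute (b : G) (K.w false)) (hc : IsConj (a : G) b) : h.F3 b = h.F3 a := by
  obtain ⟨k, k', ya, yb, c, hya, hyb, hct, e⟩ := exists_moved false ha hb hc
  rw [← h.F3_pow a ha k ya hya, ← h.F3_pow b hb k' yb hyb]
  obtain ⟨u, hu, s, rfl⟩ := K.split c hct
  set z : K.U := ⟨K.F s * ya * (K.F s)⁻¹, K.conj_mem (K.comm_F _) ya.2⟩
  have hyb' : yb = ⟨u, hu⟩ * z * (⟨u, hu⟩)⁻¹ := Subtype.ext (by
    rw [e]; show _ = u * (K.F s * ya * (K.F s)⁻¹) * u⁻¹; group)
  rw [← h.F3_F s ya z rfl, hyb']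
  have hom : ∀ m : K.U →* ℂˣ, m (⟨u, hu⟩ * z * (⟨u, hu⟩)⁻¹) = m z := fun m => by
    rw [map_mul, map_mul, map_inv, mul_comm (m _) (m z), mul_inv_cancel_right]
  simp only [F3, hom]

/-- A character fixed by the moving reflection of odd multiplicity next to `l` is one of the three. -/
theorem Tri.eq_tri (h : K.Tri l l₁) (χ : IrrCharacter G) {N M : ℕ} (hN : Odd N) (hM : Odd M)
    (hχl : classInner (K.resU χ) (K.lin l : K.U → ℂ) = N) (θ : IrrCharacter K.U)
    (hθ : ∀ y, (θ : K.U → ℂ) (K.conjW false y) = (θ : K.U → ℂ) y)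
    (hm : classInner (K.resU χ) (θ : K.U → ℂ) = M) :
    θ = K.lin l ∨ θ = K.lin l₁ ∨ θ = K.lin (K.third l₁) := by
  by_contra hne
  push Not at hne
  obtain ⟨hne0, hne1, hne2⟩ := hne
  have hint : ∀ φ : IrrCharacter K.U, ∀ y, IsIntegral ℤ ((φ : K.U → ℂ) y) := fun φ =>
    IsChar.isIntegral (IsIrr.isCharacter φ.2)
  have hci : ∀ (m : K.U →* ℂˣ) (y : K.U), IsIntegral ℤ (conj (m y : ℂ)) := fun m y => by
    rw [← K.lin_apply, ← IsIrr.map_inv (K.lin m).2]; exact hint _ _
  have hFi : ∀ y, IsIntegral ℤ (h.F3 y) := fun y => by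
    simp only [Tri.F3, map_add]; exact ((hci l y).add (hci l₁ y)).add (hci _ y)
  have hfix : ∀ y, h.F3 (K.conjW false y) = h.F3 y := fun y => by
    simp only [Tri.F3, h.good.fixed false y (K.conjW false y) rfl, h.fixed₁ y (K.conjW false y) rfl,
      h.third_fixed y (K.conjW false y) rfl]
  have hlinv : ∀ y, l (K.conjW false y) = l y := fun y => h.good.fixed false y _ rfl
  set Fx := Finset.univ.filter (fun y : K.U => Commute (y : G) (K.w false)) with hFx
  have hinner : ∀ φ : IrrCharacter K.U, ∑ y : K.U, (φ : K.U → ℂ) y * h.F3 y = (Nat.card K.U : ℂ) *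
      ((if φ = K.lin l then 1 else 0) + (if φ = K.lin l₁ then 1 else 0) +
        (if φ = K.lin (K.third l₁) then 1 else 0)) := by
    intro φ
    have hi : ∀ m : K.U →* ℂˣ, ∑ y : K.U, (φ : K.U → ℂ) y * conj (m y : ℂ) =
        (Nat.card K.U : ℂ) * (if φ = K.lin m then 1 else 0) := fun m => by
      rw [← Char.classInner_irr, classInner,
        mul_inv_cancel_left₀ (Nat.cast_ne_zero.2 Nat.card_pos.ne' : (Nat.card K.U : ℂ) ≠ 0)]
      rfl
    simp only [Tri.F3, map_add, mul_add, Finset.sum_add_distrib, hi]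
  have hzero : Cong (∑ y ∈ Fx, (θ : K.U → ℂ) y * h.F3 y) 0 := by
    refine (K.cong_sum_fixedW false (F := fun y => (θ : K.U → ℂ) y * h.F3 y) (fun y => (hint θ y).mul (hFi y))
      fun y => by simp only [hθ, hfix]).symm.trans ?_
    rw [hinner, if_neg hne0, if_neg hne1, if_neg hne2]
    simpa using Cong.refl 0
  set d₁ := charDegree (θ : K.U → ℂ) with hd₁
  have hclass : ∀ a ∈ Fx,
      Cong (∑ k ∈ Fx.filter (fun k : K.U => IsConj (a : G) k), (θ : K.U → ℂ) k * h.F3 k)
        (∑ k ∈ Fx.filter (fun k : K.U => IsConj (a : G) k), (d₁ : ℂ) * ((l k : ℂ) * h.F3 k)) := by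
    intro a ha
    have haodd : Odd (orderOf (a : G)) := K.odd_of_mem a.2
    have hfilt : ∀ F : K.U → ℂ, (∀ y, IsIntegral ℤ (F y)) → (∀ y, F (K.conjW false y) = F y) →
        Cong (∑ k ∈ Finset.univ.filter (fun k : K.U => IsConj (a : G) k), F k)
          (∑ k ∈ Fx.filter (fun k : K.U => IsConj (a : G) k), F k) := by
      intro F hF hFc
      rw [Finset.sum_filter, Finset.sum_filter]
      refine K.cong_sum_fixedW false (F := fun k : K.U => if IsConj (a : G) k then F k else 0) (fun y => ?_)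
        fun y => ?_
      · split
        · exact hF y
        · exact isIntegral_zero
      · have hiff : IsConj (a : G) (K.conjW false y : G) ↔ IsConj (a : G) y :=
          ⟨fun hc => hc.trans (isConj_iff.2 ⟨(K.w false)⁻¹, by
              show _ * (K.w false * (y : G) * (K.w false)⁻¹) * _ = _; group⟩),
            fun hc => hc.trans (isConj_iff.2 ⟨K.w false, rfl⟩)⟩
        simp only [hiff, hFc]
    have h1 := (K.cong_central χ θ hM hm a haodd).trans (hfilt _ (hint θ) hθ)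
    have h2 := (K.cong_central χ (K.lin l) hN hχl a haodd).trans (hfilt _ (hint _) fun y => by
      rw [K.lin_apply, K.lin_apply, hlinv y])
    rw [K.lin_apply, map_one, Units.val_one, one_mul] at h2
    have h3 := ((h1.symm.trans (h2.mul_left (hint θ 1))).mul_right (hFi a))
    have hF : ∀ k ∈ Fx.filter (fun k : K.U => IsConj (a : G) k), h.F3 k = h.F3 a := fun k hk => by
      rw [Finset.mem_filter] at hk
      exact h.F3_of_isConj (Finset.mem_filter.1 ha).2 (Finset.mem_filter.1 hk.1).2 hk.2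
    rw [Finset.sum_mul, Finset.mul_sum, Finset.sum_mul] at h3
    refine (Cong.of_eq (Finset.sum_congr rfl fun k hk => by rw [hF k hk])).trans
      (h3.trans (Cong.of_eq (Finset.sum_congr rfl fun k hk => ?_)))
    rw [hF k hk, K.lin_apply, CfsgLib.Blocks.apply_one_eq_charDegree, mul_assoc]
  have htot : Cong (∑ y ∈ Fx, (θ : K.U → ℂ) y * h.F3 y) (∑ y ∈ Fx, (d₁ : ℂ) * ((l y : ℂ) * h.F3 y)) := by
    rw [← Finset.sum_fiberwise_of_maps_to (g := fun d : K.U => ConjClasses.mk (d : G))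
        (t := Fx.image fun d : K.U => ConjClasses.mk (d : G)) (fun d hd => Finset.mem_image_of_mem _ hd)
        (fun y => (θ : K.U → ℂ) y * h.F3 y),
      ← Finset.sum_fiberwise_of_maps_to (g := fun d : K.U => ConjClasses.mk (d : G))
        (t := Fx.image fun d : K.U => ConjClasses.mk (d : G))
        (fun d hd => Finset.mem_image_of_mem _ hd) (fun y => (d₁ : ℂ) * ((l y : ℂ) * h.F3 y))]
    refine Cong.sum _ fun c hc => ?_
    obtain ⟨a, ha, rfl⟩ := Finset.mem_image.1 hc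
    rw [Finset.filter_congr fun (d : K.U) _ => (ConjClasses.mk_eq_mk_iff_isConj (α := G)).trans isConj_comm]
    exact hclass a ha
  have hone : Cong (∑ y ∈ Fx, (l y : ℂ) * h.F3 y) (Nat.card K.U : ℂ) := by
    refine (K.cong_sum_fixedW false (F := fun y => (l y : ℂ) * h.F3 y)
      (fun y => (hint (K.lin l) y).mul (hFi y)) fun y => by simp only [hlinv, hfix]).symm.trans (Cong.of_eq ?_)
    have h0 := hinner (K.lin l)
    have hinj : ∀ m m' : K.U →* ℂˣ, K.lin m = K.lin m' → m = m' := fun m m' q =>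
      MonoidHom.ext fun y => Units.ext (by rw [← K.lin_apply, ← K.lin_apply, q])
    obtain ⟨n1, n2, -⟩ := h.third_ne
    rw [if_pos rfl, if_neg fun q => n1 (hinj _ _ q), if_neg fun q => n2 (hinj _ _ q)] at h0
    simpa [K.lin_apply] using h0
  rw [← Finset.mul_sum] at htot
  have hd : IsIntegral ℤ (d₁ : ℂ) := by
    rw [hd₁, ← CfsgLib.Blocks.apply_one_eq_charDegree]; exact hint θ 1
  have hodd : Odd (d₁ * Nat.card K.U) :=
    (K.hUodd.of_dvd_nat (CfsgLib.CharDegree.charDegree_dvd_card θ)).mul K.hUodd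
  have h1 : Cong ((d₁ * Nat.card K.U : ℕ) : ℂ) 1 := by
    simpa using cong_odd_mul hodd (isIntegral_one (R := ℤ) (B := ℂ))
  rw [Nat.cast_mul] at h1
  exact not_cong_one_zero (h1.symm.trans (((hone.mul_left hd).symm).trans (htot.symm.trans hzero)))

/-- Equal parities of the multiplicities of `l` and `l₁`. -/
theorem Tri.parity (h : K.Tri l l₁) (χ : IrrCharacter G) {N M : ℕ}
    (hN : classInner (K.resU χ) (K.lin l : K.U → ℂ) = N)
    (hM : classInner (K.resU χ) (K.lin l₁ : K.U → ℂ) = M) (hodd : Odd N) : Odd M := by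
  set Fx := Finset.univ.filter (fun y : K.U => Commute (y : G) (K.w false)) with hFx
  have hci : ∀ (m : K.U →* ℂˣ) (y : K.U), IsIntegral ℤ ((χ : G → ℂ) y * conj (m y : ℂ)) := fun m y => by
    refine (IsChar.isIntegral (IsIrr.isCharacter χ.2) _).mul ?_
    rw [← K.lin_apply, ← IsIrr.map_inv (K.lin m).2]
    exact IsChar.isIntegral (IsIrr.isCharacter (K.lin m).2) _
  have hfix : ∀ m : K.U →* ℂˣ, (∀ y, m (K.conjW false y) = m y) → ∀ M : ℕ,
      classInner (K.resU χ) (K.lin m : K.U → ℂ) = M →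
      Cong ((Nat.card K.U * M : ℕ) : ℂ) (∑ y ∈ Fx, (χ : G → ℂ) y * conj (m y : ℂ)) := by
    intro m hm M hM
    refine Cong.trans (Cong.of_eq ?_) (K.cong_sum_fixedW false (hci m) fun y => ?_)
    · rw [Nat.cast_mul, ← hM, classInner,
        mul_inv_cancel_left₀ (Nat.cast_ne_zero.2 Nat.card_pos.ne' : (Nat.card K.U : ℂ) ≠ 0)]
      rfl
    · rw [hm]
      show (χ : G → ℂ) (K.w false * y * (K.w false)⁻¹) * _ = _
      rw [IsIrr.isClassFunction χ.2]
  have hsum : ∑ y ∈ Fx, (χ : G → ℂ) y * conj (l y : ℂ) = ∑ y ∈ Fx, (χ : G → ℂ) y * conj (l₁ y : ℂ) := by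
    have hmem : ∀ (y : K.U) (hy : y ∈ Fx), (⟨_, (K.rot_conj_mem y.2 (Finset.mem_filter.1 hy).2).1⟩ : K.U) ∈ Fx :=
      fun y hy => Finset.mem_filter.2 ⟨Finset.mem_univ _, (K.rot_conj_mem y.2 (Finset.mem_filter.1 hy).2).2⟩
    refine (Finset.sum_bij (fun y hy => ⟨_, (K.rot_conj_mem y.2 (Finset.mem_filter.1 hy).2).1⟩) hmem
      (fun a _ b _ q => ?_) ?_ fun y hy => ?_).symm
    · exact Subtype.ext (mul_left_cancel (mul_right_cancel (congrArg Subtype.val q)))
    · intro b hb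
      obtain ⟨a, ha, q⟩ := Finset.surj_on_of_inj_on_of_card_le _ hmem
        (fun a b _ _ q => Subtype.ext (mul_left_cancel (mul_right_cancel (congrArg Subtype.val q))))
        le_rfl b hb
      exact ⟨a, ha, q.symm⟩
    · rw [IsIrr.isClassFunction χ.2, (h.f_rot y _ (Finset.mem_filter.1 hy).2 rfl).1]
  have h1 := (hfix l (fun y => h.good.fixed false y _ rfl) N hN).trans (Cong.of_eq hsum)
  have h2 := hfix l₁ (fun y => h.fixed₁ y _ rfl) M hM
  have h3 := h1.trans h2.symm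
  rw [← Int.cast_natCast, ← Int.cast_natCast (R := ℂ) (Nat.card K.U * M), CfsgLib.GW.Two.Lin.cong_intCast] at h3
  by_contra hev
  rw [Nat.not_odd_iff_even] at hev
  obtain ⟨k, hk⟩ := K.hUodd.mul hodd
  obtain ⟨k', hk'⟩ := hev.mul_left (Nat.card K.U)
  rw [hk, hk'] at h3
  omega

end Ctx

end CfsgLib.GW.DLin
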