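import Cfsg.Agent.Lib.GW.Dne.Linear.Constituent
import Cfsg.Agent.Lib.GW.Dne.Linear.Pattern

/-!
# The family of a good linear character and the other classes

The differences of the twists of a good linear character give a family in the sense of `Pattern`;
the other classes do not meet its three distinguished characters, except moved classes of two
members.
-/

set_option autoImplicit false

open scoped Classical

namespace CfsgLib.GW.DLin

open Subgroup DihedralGroup Cfsg CfsgLib.Char CfsgLib.CharDegree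
open CfsgLib.TwoGroups CfsgLib.TwoGroups.Dihedral
open scoped ComplexConjugate
open CfsgLib.Signalizer (involution_sq involution_inv involution_ne_one orderOf_conj)

universe v

noncomputable local instance (priority := 10000) irrDecEq {A : Type v} [Group A] :
    DecidableEq (IrrCharacter A) := fun a b => Classical.propDecidable (a = b)

namespace Ctx

variable {G : Type v} [Group G] [Fintype G] {K : Ctx G} [Fintype (IrrCharacter K.R)]

theorem tw_inj {ξ : IrrCharacter K.R} {i j : ℕ} (hi : i < K.per ξ) (hj : j < K.per ξ)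
    (h : K.tw ξ i = K.tw ξ j) : i = j := by
  wlog hij : i ≤ j with H
  · exact (H hj hi h.symm (le_of_not_ge hij)).symm
  have h1 : K.tw (K.tw ξ i) (K.per ξ - j) = K.tw (K.tw ξ j) (K.per ξ - j) := by rw [h]
  rw [K.tw_tw, K.tw_tw, Nat.add_sub_cancel' hj.le, (K.per_spec ξ).2] at h1
  have h2 := Nat.eq_zero_of_dvd_of_lt ((K.per_dvd_iff ξ).1 h1)
  by_contra hne
  have := h2 (by omega)
  omega

theorem bar_tw {ξ : IrrCharacter K.R} (h : K.bar ξ = ξ) {i : ℕ} (hi : i ≤ 2 ^ K.n) :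
    K.bar (K.tw ξ i) = K.tw ξ (2 ^ K.n - i) := irr_ext fun x => by
  rw [bar_apply, tw_apply, ← bar_apply, h, tw_apply, nu_conjR, Units.val_inv_eq_inv_val, inv_pow]
  congr 1
  refine inv_eq_of_mul_eq_one_left ?_
  rw [← pow_add, Nat.sub_add_cancel hi, ← Units.val_pow_eq_pow_val, ← MonoidHom.pow_apply, nu_pow_card,
    MonoidHom.one_apply, Units.val_one]

theorem two_pow_eq : 2 ^ K.n = 2 ^ (K.n - 1) + 2 ^ (K.n - 1) := by
  have := K.two_le
  conv_lhs => rw [show K.n = K.n - 1 + 1 by omega, pow_succ, mul_two]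

variable {l : K.U →* ℂˣ} (hl : K.Good l)

theorem Good.opp_ext : K.opp hl.ext = K.tw hl.ext (2 ^ (K.n - 1)) := by
  have := two_pow_eq (K := K)
  rw [opp, hl.per_ext, show 2 ^ K.n / 2 = 2 ^ (K.n - 1) by omega]

theorem Good.cls_ext : K.cls hl.ext = (Finset.range (2 ^ K.n)).image (K.tw hl.ext) := by
  ext η
  rw [Finset.mem_image, K.mem_cls]
  constructor
  · intro h
    obtain ⟨i, hi, rfl⟩ := h.exists_tw K
    exact ⟨i, Finset.mem_range.2 hi, rfl⟩
  · rintro ⟨i, -, rfl⟩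
    exact K.same_tw _ i

variable [Fintype (IrrCharacter G)]

/-- The norm four difference. -/
noncomputable def Good.P (χ : IrrCharacter G) : ℤ := K.d hl.ext (K.opp hl.ext) χ

/-- The norm three differences. -/
noncomputable def Good.D (j : ℕ) (χ : IrrCharacter G) : ℤ := K.d hl.ext (K.tw hl.ext j) χ

theorem Good.tw_ne {j : ℕ} (hj : j ∈ Finset.Ico 1 (2 ^ (K.n - 1))) :
    K.tw hl.ext j ≠ hl.ext ∧ K.tw hl.ext j ≠ K.opp hl.ext := by
  obtain ⟨h1, h2⟩ := Finset.mem_Ico.1 hj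
  have := two_pow_eq (K := K)
  refine ⟨fun e => ?_, fun e => ?_⟩
  · have := tw_inj (ξ := hl.ext) (i := j) (j := 0) (by rw [hl.per_ext]; omega) (K.per_spec _).1
      (by rw [K.tw_zero]; exact e)
    omega
  · rw [hl.opp_ext] at e
    have := tw_inj (ξ := hl.ext) (by rw [hl.per_ext]; omega) (by rw [hl.per_ext]; omega) e
    omega

theorem Good.eps_ext : K.eps hl.ext = 1 := by
  rcases K.eps_cases hl.ext with e | e
  · exact e
  exfalso
  have h := K.apply_tR_eq hl.ext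
  have ht : hl.extHom K.tR = 1 := by
    rw [show hl.extHom K.tR = l ⟨_, mul_F_inv_mem K.tR⟩ from rfl]
    refine (congrArg l (Subtype.ext ?_)).trans (map_one l)
    show K.t * (K.F (r (K.rotNum K.tR)))⁻¹ = 1
    rw [rotNum_tR]
    exact mul_inv_cancel _
  rw [e, Good.ext_apply, Good.ext_apply, ht, map_one] at h
  norm_num at h

/-- The signed multiplicity of the class through the family. -/
theorem Good.a_eq (χ : IrrCharacter G) : K.a hl.ext χ =
    -hl.P χ - 2 * ∑ j ∈ Finset.Ico 1 (2 ^ (K.n - 1)), (-1) ^ j * hl.D j χ := by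
  set q := 2 ^ (K.n - 1) with hq
  have hN := two_pow_eq (K := K)
  have hq0 : 0 < q := Nat.two_pow_pos _
  rw [K.a_eq_sum_d hl.ext (η₀ := hl.ext), hl.cls_ext, Finset.sum_image (fun i hi j hj e =>
    tw_inj (by rw [hl.per_ext]; exact Finset.mem_range.1 hi) (by rw [hl.per_ext]; exact Finset.mem_range.1 hj) e)]
  simp only [K.eps_tw, hl.eps_ext, mul_one]
  rw [Finset.range_eq_Ico, ← Finset.sum_Ico_consecutive _ (Nat.zero_le q) (by omega : q ≤ 2 ^ K.n),
    Finset.sum_eq_sum_Ico_succ_bot hq0, Finset.sum_eq_sum_Ico_succ_bot (by omega : q < 2 ^ K.n)]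
  have hzero : K.d hl.ext (K.tw hl.ext 0) χ = 0 := by rw [K.tw_zero, d, sub_self]
  have hrefl : ∑ i ∈ Finset.Ico (q + 1) (2 ^ K.n), (-1 : ℤ) ^ i * K.d hl.ext (K.tw hl.ext i) χ =
      ∑ j ∈ Finset.Ico (0 + 1) q, (-1 : ℤ) ^ j * K.d hl.ext (K.tw hl.ext j) χ := by
    refine Finset.sum_bij' (fun i _ => 2 ^ K.n - i) (fun j _ => 2 ^ K.n - j) ?_ ?_ ?_ ?_ ?_
    · intro i hi; rw [Finset.mem_Ico] at hi ⊢; omega
    · intro i hi; rw [Finset.mem_Ico] at hi ⊢; omega
    · intro i hi; rw [Finset.mem_Ico] at hi; omega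
    · intro i hi; rw [Finset.mem_Ico] at hi; omega
    · intro i hi
      rw [Finset.mem_Ico] at hi
      have hd : K.d hl.ext (K.tw hl.ext i) χ = K.d hl.ext (K.tw hl.ext (2 ^ K.n - i)) χ := by
        rw [← bar_tw hl.bar_ext (by omega : i ≤ 2 ^ K.n), d, d, K.m_bar]
      rw [hd]
      congr 1
      obtain ⟨k, hk⟩ : Even (2 ^ K.n) := ⟨q, hN⟩
      rcases Nat.even_or_odd i with e | e
      · rw [e.neg_one_pow, Even.neg_one_pow]
        exact (Nat.even_sub (by omega)).2 (iff_of_true ⟨k, hk⟩ e)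
      · rw [e.neg_one_pow, Odd.neg_one_pow]
        exact Nat.Even.sub_odd (by omega) ⟨k, hk⟩ e
  have hqe : Even q := by
    have := K.two_le
    rw [hq]; exact Nat.even_pow.2 ⟨even_two, by omega⟩
  rw [hrefl, hzero, hqe.neg_one_pow]
  simp only [Good.P, Good.D, hl.opp_ext, ← hq]
  ring

/-- The family of a good linear character. -/
theorem Good.fam : Pattern.Fam K.n (fun χ : IrrCharacter G => (charDegree (χ : G → ℂ) : ℤ))
    hl.P hl.D (fun χ => K.a hl.ext χ) where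
  two_le := K.two_le
  pos χ := by exact_mod_cast charDegree_pos χ
  normP := K.sum_dP_sq hl.bar_ext
  degP := K.sum_degree_d ((K.mem_cls.1 (K.opp_mem _)).symm K)
  degD j _ := K.sum_degree_d ((K.same_tw hl.ext j).symm K)
  normD j hj :=
    ⟨K.sum_d_sq_fixed hl.bar_ext (K.mem_cls.2 (K.same_tw _ j)) (hl.tw_ne hj).1 (hl.tw_ne hj).2,
      K.sum_dP_mul hl.bar_ext (K.mem_cls.2 (K.same_tw _ j)) (hl.tw_ne hj).1 (hl.tw_ne hj).2⟩
  inner j hj k hk hjk := by
    have hN := two_pow_eq (K := K)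
    have hj' := Finset.mem_Ico.1 hj
    have hk' := Finset.mem_Ico.1 hk
    refine K.sum_d_mul_fixed hl.bar_ext (K.mem_cls.2 (K.same_tw _ j)) (hl.tw_ne hj).1 (hl.tw_ne hk).1
      (fun e => hjk ?_) fun e => ?_
    · exact tw_inj (by rw [hl.per_ext]; omega) (by rw [hl.per_ext]; omega) e
    · rw [bar_tw hl.bar_ext (by omega)] at e
      have := tw_inj (ξ := hl.ext) (by rw [hl.per_ext]; omega) (by rw [hl.per_ext]; omega) e
      omega
  ha := hl.a_eq

theorem Good.odd_of_mem_supp {χ : IrrCharacter G} (h : χ ∈ Pattern.supp hl.P) :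
    ¬ (2 : ℤ) ∣ K.a hl.ext χ := by
  rw [Pattern.mem_supp] at h
  rw [hl.a_eq]
  rcases (hl.fam.cases χ).resolve_left h with e | e <;> rw [e] <;> omega

/-- Differences of another class are orthogonal to those of the linear one. -/
theorem Good.sum_cross {η η' : IrrCharacter K.R} (h : η ∉ K.cls hl.ext) (h' : η' ∉ K.cls hl.ext)
    {ζ : IrrCharacter K.R} (hζ : ζ ∈ K.cls hl.ext) :
    ∑ χ : IrrCharacter G, K.d hl.ext ζ χ * K.d η η' χ = 0 := by
  rw [K.sum_d_mul_d ((K.mem_cls.1 hζ).symm K)]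
  have hb : ∀ {η : IrrCharacter K.R}, η ∉ K.cls hl.ext → K.bar η ∉ K.cls hl.ext := fun {η} hn hm => hn (by
    have := K.bar_mem_cls hl.bar_ext hm
    rwa [K.bar_bar] at this)
  have hne : ∀ {x η : IrrCharacter K.R}, x ∈ K.cls hl.ext → η ∉ K.cls hl.ext → x ≠ η :=
    fun hx hn e => hn (e ▸ hx)
  have h0 := K.self_mem_cls hl.ext
  simp [hne h0 h, hne h0 h', hne hζ h, hne hζ h', hne h0 (hb h), hne h0 (hb h'), hne hζ (hb h),
    hne hζ (hb h')]

/-- Another class fixed by the reflection, of even signed multiplicity, misses the four characters. -/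
theorem Good.stable_of_even {ξ : IrrCharacter K.R} (hξ : ξ ∉ K.cls hl.ext) (hs : K.Same (K.bar ξ) ξ)
    (heven : ∀ η₀ ∈ K.cls ξ, K.bar η₀ = η₀ → ∀ χ ∈ Pattern.supp hl.P, (2 : ℤ) ∣ K.a η₀ χ) :
    ∀ χ ∈ Pattern.supp hl.P, K.a ξ χ = 0 ∧
      ∀ η ∈ K.cls ξ, ∀ η' ∈ K.cls ξ, K.d η η' χ = 0 := by
  obtain ⟨η₀, hη₀, hb⟩ := K.exists_fixed hs
  have hnot : ∀ η ∈ K.cls ξ, η ∉ K.cls hl.ext := fun η hη hm => hξ (by
    rw [← K.cls_eq hm, K.cls_eq hη]; exact K.self_mem_cls ξ)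
  have hP' : ∀ χ ∈ Pattern.supp hl.P, K.d η₀ (K.opp η₀) χ = 0 := by
    intro χ hχ
    have h2 := heven η₀ hη₀ hb χ hχ
    have h3 := K.two_dvd_a_sub hb χ
    rcases Pattern.cases_of_four (x := fun χ : IrrCharacter G => (charDegree (χ : G → ℂ) : ℤ))
      (fun χ => by exact_mod_cast charDegree_pos χ) (K.sum_dP_sq hb)
      (K.sum_degree_d ((K.mem_cls.1 (K.opp_mem η₀)).symm K)) χ with e | e | e
    · exact e
    all_goals (rw [e] at h3; omega)
  have hzero : ∀ η ∈ K.cls ξ, ∀ χ ∈ Pattern.supp hl.P, K.d η₀ η χ = 0 := by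
    intro η hη χ hχ
    rcases eq_or_ne η η₀ with rfl | h1
    · simp [d]
    rcases eq_or_ne η (K.opp η₀) with rfl | h2
    · exact hP' χ hχ
    have hη' : η ∈ K.cls η₀ := by rwa [K.cls_eq hη₀]
    obtain ⟨p, e, hT⟩ := Pattern.exists_tri (P := fun χ => K.d η₀ (K.opp η₀) χ)
      (D := fun χ => K.d η₀ η χ)
      (Pattern.cases_of_four (x := fun χ : IrrCharacter G => (charDegree (χ : G → ℂ) : ℤ))
        (fun χ => by exact_mod_cast charDegree_pos χ) (K.sum_dP_sq hb)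
        (K.sum_degree_d ((K.mem_cls.1 (K.opp_mem η₀)).symm K)))
      (K.sum_d_sq_fixed hb hη' h1 h2) (K.sum_dP_mul hb hη' h1 h2)
    have hp : ∀ χ ∈ Pattern.supp hl.P, χ ∉ p := fun χ hχ hp =>
      Pattern.mem_supp.1 (hT.sub hp) (hP' χ hχ)
    have horth := hl.sum_cross (hnot η₀ hη₀) (hnot η hη) (K.opp_mem hl.ext)
    rw [Finset.sum_eq_single e (fun χ _ hne => ?_) (by simp)] at horth
    · by_cases hχe : χ = e
      · subst hχe
        refine (mul_eq_zero.1 horth).resolve_left ?_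
        exact Pattern.mem_supp.1 hχ
      · exact hT.zero (hp χ hχ) hχe
    · by_cases hm : χ ∈ Pattern.supp hl.P
      · rw [show K.d η₀ η χ = 0 from hT.zero (hp χ hm) hne, mul_zero]
      · rw [Pattern.mem_supp, not_not] at hm
        rw [show K.d hl.ext (K.opp hl.ext) χ = 0 from hm, zero_mul]
  intro χ hχ
  refine ⟨?_, fun η hη η' hη' => ?_⟩
  · rw [K.a_eq_sum_d ξ (η₀ := η₀), Finset.sum_eq_zero fun η hη => by rw [hzero η hη χ hχ, mul_zero],
      neg_zero]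
  · have h1 := hzero η hη χ hχ
    have h2 := hzero η' hη' χ hχ
    simp only [d] at h1 h2 ⊢
    omega

/-- Another class fixed by the reflection misses the four characters of an invariant one. -/
theorem Good.stable_a (hi : ∀ i, K.Inv i l) {ξ : IrrCharacter K.R} (hξ : ξ ∉ K.cls hl.ext)
    (hs : K.Same (K.bar ξ) ξ) :
    ∀ χ ∈ Pattern.supp hl.P, K.a ξ χ = 0 ∧
      ∀ η ∈ K.cls ξ, ∀ η' ∈ K.cls ξ, K.d η η' χ = 0 :=
  hl.stable_of_even hξ hs fun η₀ hη₀ hb χ hχ => K.two_dvd_a hl hi χ (hl.odd_of_mem_supp hχ) hb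
    fun hm => hξ (by rw [← K.cls_eq hm, K.cls_eq hη₀]; exact K.self_mem_cls ξ)

/-- The three characters read from one difference of the family. -/
structure Three (j : ℕ) (χ₀ χ₁ e : IrrCharacter G) : Prop where
  mem : j ∈ Finset.Ico 1 (2 ^ (K.n - 1))
  ne : χ₀ ≠ χ₁
  tri : Pattern.Tri hl.P (hl.D j) {χ₀, χ₁} e

variable {hl} {j : ℕ} {χ₀ χ₁ e : IrrCharacter G}

theorem Three.mem₀ (h : Three hl j χ₀ χ₁ e) : χ₀ ∈ Pattern.supp hl.P := h.tri.sub (by simp)

theorem Three.mem₁ (h : Three hl j χ₀ χ₁ e) : χ₁ ∈ Pattern.supp hl.P := h.tri.sub (by simp)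

theorem Three.ne₀ (h : Three hl j χ₀ χ₁ e) : χ₀ ≠ e := fun q =>
  Pattern.mem_supp.1 h.mem₀ (q ▸ h.tri.out)

theorem Three.ne₁ (h : Three hl j χ₀ χ₁ e) : χ₁ ≠ e := fun q =>
  Pattern.mem_supp.1 h.mem₁ (q ▸ h.tri.out)

theorem Three.sum_mul (h : Three hl j χ₀ χ₁ e) (v : IrrCharacter G → ℤ) :
    ∑ χ : IrrCharacter G, hl.D j χ * v χ =
      hl.P χ₀ * v χ₀ + hl.P χ₁ * v χ₁ + hl.D j e * v e := by
  rw [Pattern.sum_supp, h.tri.supp_eq, Finset.sum_insert h.tri.e_notMem, Finset.sum_pair h.ne,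
    h.tri.eqP χ₀ (by simp), h.tri.eqP χ₁ (by simp)]
  ring

theorem Three.stable_e (h : Three hl j χ₀ χ₁ e) {ξ : IrrCharacter K.R} (hξ : ξ ∉ K.cls hl.ext)
    (hzero : ∀ χ ∈ Pattern.supp hl.P, ∀ η ∈ K.cls ξ, ∀ η' ∈ K.cls ξ, K.d η η' χ = 0) :
    K.a ξ e = 0 ∧ ∀ η ∈ K.cls ξ, K.d ξ η e = 0 := by
  have hnot : ∀ η ∈ K.cls ξ, η ∉ K.cls hl.ext := fun η hη hm => hξ (by
    rw [← K.cls_eq hm, K.cls_eq hη]; exact K.self_mem_cls ξ)
  suffices hd : ∀ η ∈ K.cls ξ, K.d ξ η e = 0 by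
    refine ⟨?_, hd⟩
    rw [K.a_eq_sum_d ξ (η₀ := ξ), Finset.sum_eq_zero fun η hη => by rw [hd η hη, mul_zero], neg_zero]
  intro η hη
  have horth : ∑ χ : IrrCharacter G, hl.D j χ * K.d ξ η χ = 0 :=
    hl.sum_cross hξ (hnot η hη) (K.mem_cls.2 (K.same_tw _ j))
  rw [h.sum_mul, hzero χ₀ h.mem₀ ξ (K.self_mem_cls ξ) η hη,
    hzero χ₁ h.mem₁ ξ (K.self_mem_cls ξ) η hη, mul_zero, mul_zero, zero_add, zero_add,
    mul_eq_zero] at horth
  exact horth.resolve_left (by rcases h.tri.De with q | q <;> rw [q] <;> norm_num)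

theorem Three.moved (h : Three hl j χ₀ χ₁ e) {ξ η : IrrCharacter K.R} (hξ : ξ ∉ K.cls hl.ext)
    (hb : ¬ K.Same (K.bar ξ) ξ) (hη : η ∈ K.cls ξ) :
    K.d ξ η e = 0 ∧ K.d ξ η χ₀ + K.d ξ η χ₁ = 0 ∧ (K.d ξ η χ₀ ≠ 0 →
      Pattern.supp (fun χ => K.d ξ η χ) = {χ₀, χ₁} ∧ hl.P χ₀ = hl.P χ₁ ∧
        charDegree (χ₀ : G → ℂ) = charDegree (χ₁ : G → ℂ)) := by
  rcases eq_or_ne η ξ with rfl | hne
  · simp [d]
  have hnη : η ∉ K.cls hl.ext := fun hm => hξ (by
    rw [← K.cls_eq hm, K.cls_eq hη]; exact K.self_mem_cls ξ)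
  have hbne : ∀ {x y : IrrCharacter K.R}, x ∈ K.cls ξ → y ∈ K.cls ξ → x ≠ K.bar y := fun {x y} hx hy q =>
    hb (((K.mem_cls.1 hy).bar K).symm K |>.trans K (q ▸ K.mem_cls.1 hx))
  have h2 : ∑ χ : IrrCharacter G, K.d ξ η χ * K.d ξ η χ = 2 := by
    rw [K.sum_d_mul_d ((K.mem_cls.1 hη).symm K)]
    simp [hne, hne.symm, hbne (K.self_mem_cls ξ) (K.self_mem_cls ξ), hbne (K.self_mem_cls ξ) hη,
      hbne hη (K.self_mem_cls ξ), hbne hη hη]
  obtain ⟨u, w, huw, hs, hneg, hu, hdeg⟩ := Pattern.norm_two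
    (x := fun χ : IrrCharacter G => (charDegree (χ : G → ℂ) : ℤ))
    (fun χ => by exact_mod_cast charDegree_pos χ) h2 (K.sum_degree_d ((K.mem_cls.1 hη).symm K))
  have hP : hl.P u * K.d ξ η u + hl.P w * K.d ξ η w = 0 := by
    have := hl.sum_cross hξ hnη (K.opp_mem hl.ext)
    rw [Finset.sum_congr rfl fun χ _ => mul_comm (K.d hl.ext _ χ) _, Pattern.sum_supp, hs,
      Finset.sum_pair huw] at this
    show K.d hl.ext (K.opp hl.ext) u * _ + K.d hl.ext (K.opp hl.ext) w * _ = 0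
    linear_combination this
  have hD : ∑ χ : IrrCharacter G, hl.D j χ * K.d ξ η χ = 0 :=
    hl.sum_cross hξ hnη (K.mem_cls.2 (K.same_tw _ j))
  rw [h.sum_mul] at hD
  have hmem : ∀ {χ}, K.d ξ η χ ≠ 0 → χ = u ∨ χ = w := fun {χ} hx => by
    simpa [hs] using (Pattern.mem_supp (v := fun χ => K.d ξ η χ)).2 hx
  have hPc := hl.fam.cases
  have he : K.d ξ η e = 0 := by
    by_contra hne0
    have hp0 := Pattern.mem_supp.1 h.mem₀
    have hp1 := Pattern.mem_supp.1 h.mem₁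
    have other : ∀ {χ}, χ ∈ Pattern.supp hl.P → K.d ξ η χ = 0 := by
      intro χ hχ
      by_contra hx
      have hχe : χ ≠ e := fun q => Pattern.mem_supp.1 hχ (q ▸ h.tri.out)
      have hpc := Pattern.mem_supp.1 hχ
      rcases hmem hne0 with q | q <;> rcases hmem hx with q' | q'
      · exact hχe (q'.trans q.symm)
      · rw [← q, ← q', h.tri.out, zero_mul, zero_add, mul_eq_zero] at hP
        exact hP.elim hpc hx
      · rw [← q, ← q', h.tri.out, zero_mul, add_zero, mul_eq_zero] at hP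
        exact hP.elim hpc hx
      · exact hχe (q'.trans q.symm)
    rw [other h.mem₀, other h.mem₁, mul_zero, mul_zero, zero_add, zero_add, mul_eq_zero] at hD
    exact hD.elim (by rcases h.tri.De with q | q <;> rw [q] <;> norm_num) hne0
  rw [he, mul_zero, add_zero] at hD
  refine ⟨he, ?_, fun h0 => ?_⟩
  · by_cases h0 : K.d ξ η χ₀ = 0
    · rw [h0, mul_zero, zero_add, mul_eq_zero] at hD
      rw [h0, hD.resolve_left (Pattern.mem_supp.1 h.mem₁), add_zero]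
    · have h1 : K.d ξ η χ₁ ≠ 0 := fun q => by
        rw [q, mul_zero, add_zero, mul_eq_zero] at hD
        exact hD.elim (Pattern.mem_supp.1 h.mem₀) h0
      rcases hmem h0 with q | q <;> rcases hmem h1 with q' | q'
      · exact absurd (q.trans q'.symm) h.ne
      · rw [q, q', hneg, add_neg_cancel]
      · rw [q, q', hneg, neg_add_cancel]
      · exact absurd (q.trans q'.symm) h.ne
  · have h1 : K.d ξ η χ₁ ≠ 0 := fun q => by
      rw [q, mul_zero, add_zero, mul_eq_zero] at hD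
      exact hD.elim (Pattern.mem_supp.1 h.mem₀) h0
    rcases hmem h0 with q | q <;> rcases hmem h1 with q' | q'
    · exact absurd (q.trans q'.symm) h.ne
    · subst q q'
      refine ⟨hs, ?_, by exact_mod_cast hdeg⟩
      rw [hneg] at hD
      exact mul_right_cancel₀ h0 (by linear_combination hD)
    · subst q q'
      refine ⟨hs.trans (Finset.pair_comm _ _), ?_, by exact_mod_cast hdeg.symm⟩
      rw [hneg] at hD
      exact mul_right_cancel₀ h1 (by linear_combination -hD)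
    · exact absurd (q.trans q'.symm) h.ne

/-- Another class: antisymmetric on the two and zero at the third; otherwise two members. -/
theorem Three.other (hi : ∀ i, K.Inv i l) (h : Three hl j χ₀ χ₁ e) {ξ : IrrCharacter K.R} (hξ : ξ ∉ K.cls hl.ext) :
    K.a ξ e = 0 ∧ K.a ξ χ₀ + K.a ξ χ₁ = 0 ∧ (K.a ξ χ₀ ≠ 0 →
      ¬ K.Same (K.bar ξ) ξ ∧ K.tw ξ 2 = ξ ∧
        Pattern.supp (fun χ => K.d ξ (K.tw ξ 1) χ) = {χ₀, χ₁} ∧ hl.P χ₀ = hl.P χ₁ ∧
          charDegree (χ₀ : G → ℂ) = charDegree (χ₁ : G → ℂ)) := by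
  by_cases hs : K.Same (K.bar ξ) ξ
  · rw [(h.stable_e hξ fun χ hχ => (hl.stable_a hi hξ hs χ hχ).2).1, (hl.stable_a hi hξ hs χ₀ h.mem₀).1,
      (hl.stable_a hi hξ hs χ₁ h.mem₁).1]
    exact ⟨rfl, add_zero _, fun q => absurd rfl q⟩
  refine ⟨?_, ?_, fun h0 => ?_⟩
  · rw [K.a_eq_sum_d ξ (η₀ := ξ), Finset.sum_eq_zero fun η hη => by rw [(h.moved hξ hs hη).1, mul_zero],
      neg_zero]
  · rw [K.a_eq_sum_d ξ (η₀ := ξ), K.a_eq_sum_d ξ (η₀ := ξ), ← neg_add, ← Finset.sum_add_distrib,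
      Finset.sum_eq_zero fun η hη => by rw [← mul_add, (h.moved hξ hs hη).2.1, mul_zero], neg_zero]
  rw [K.a_eq_sum_d ξ (η₀ := ξ), neg_ne_zero] at h0
  obtain ⟨η, hη, hne⟩ := Finset.exists_ne_zero_of_sum_ne_zero h0
  have hd := right_ne_zero_of_mul hne
  obtain ⟨hsupp, hP, hx⟩ := (h.moved hξ hs hη).2.2 hd
  have hηξ : η ≠ ξ := fun q => hd (by rw [q, d, sub_self])
  have honly : ∀ η' ∈ K.cls ξ, η' = ξ ∨ η' = η := by
    intro η' hη'
    by_contra hc
    push Not at hc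
    have hbne : ∀ {x y : IrrCharacter K.R}, x ∈ K.cls ξ → y ∈ K.cls ξ → x ≠ K.bar y := fun {x y} hx hy q =>
      hs (((K.mem_cls.1 hy).bar K).symm K |>.trans K (q ▸ K.mem_cls.1 hx))
    have h1 : ∑ χ : IrrCharacter G, K.d ξ η χ * K.d ξ η' χ = 1 := by
      rw [K.sum_d_mul_d ((K.mem_cls.1 hη).symm K)]
      simp [hc.1.symm, hc.2.symm, hηξ, hbne (K.self_mem_cls ξ) (K.self_mem_cls ξ),
        hbne (K.self_mem_cls ξ) hη', hbne hη (K.self_mem_cls ξ), hbne hη hη']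
    rw [Pattern.sum_supp, hsupp, Finset.sum_pair h.ne, show K.d ξ η χ₁ = -K.d ξ η χ₀ by
        linarith [(h.moved hξ hs hη).2.1], show K.d ξ η' χ₁ = -K.d ξ η' χ₀ by
        linarith [(h.moved hξ hs hη').2.1]] at h1
    have : (2 : ℤ) ∣ 1 := ⟨K.d ξ η χ₀ * K.d ξ η' χ₀, by linear_combination -h1⟩
    omega
  have h1ne : K.tw ξ 1 ≠ ξ := fun q => by
    have := (K.per_dvd_iff ξ).1 q
    obtain ⟨k, hk⟩ := K.even_per ξ
    have := Nat.le_of_dvd one_pos this
    have := (K.per_spec ξ).1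
    omega
  have h1 : K.tw ξ 1 = η := (honly _ (K.mem_cls.2 (K.same_tw ξ 1))).resolve_left h1ne
  refine ⟨hs, ?_, h1 ▸ hsupp, hP, hx⟩
  refine (honly _ (K.mem_cls.2 (K.same_tw ξ 2))).resolve_right fun q => ?_
  rw [← h1, show (2 : ℕ) = 1 + 1 from rfl, ← K.tw_tw] at q
  have hp := K.eps_tw_one (K.tw ξ 1)
  rw [q] at hp
  rcases K.eps_cases (K.tw ξ 1) with r | r <;> omega

end Ctx

end CfsgLib.GW.DLin
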