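import Cfsg.Agent.Lib.GW.Dne.Linear.Count
import Cfsg.Agent.Lib.GW.Dne.Linear.Vanish

/-!
# Values and degrees of the three distinguished characters
-/

set_option autoImplicit false

open scoped Classical

namespace CfsgLib.GW.DLin

open Subgroup DihedralGroup Cfsg CfsgLib.Char CfsgLib.CharDegree
open CfsgLib.TwoGroups CfsgLib.TwoGroups.Dihedral
open scoped ComplexConjugate
open CfsgLib.Signalizer (involution_sq involution_inv involution_ne_one orderOf_conj)

universe v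

noncomputable local instance (priority := 10000) irrDecEq' {A : Type v} [Group A] :
    DecidableEq (IrrCharacter A) := fun a b => Classical.propDecidable (a = b)

namespace Ctx

variable {G : Type v} [Group G] [Fintype G] {K : Ctx G} [Fintype (IrrCharacter K.R)]

variable (K) in
/-- The contribution of the other classes to the value at `t`. -/
noncomputable def Q (ξ₀ : IrrCharacter K.R) (χ : IrrCharacter G) : ℂ :=
  ∑ ξ ∈ Finset.univ \ K.cls ξ₀, (K.eps ξ : ℂ) * (K.m ξ χ : ℂ) * (ξ : K.R → ℂ) 1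

variable {l : K.U →* ℂˣ} {hl : K.Good l}

theorem Good.ext_one (hl : K.Good l) {η : IrrCharacter K.R} (h : η ∈ K.cls hl.ext) :
    (η : K.R → ℂ) 1 = 1 := by
  rw [K.mem_cls.1 h 1 (one_mem K.U), Good.ext_apply, map_one, Units.val_one]

theorem Good.apply_t (hl : K.Good l) (χ : IrrCharacter G) :
    (χ : G → ℂ) K.t = (K.a hl.ext χ : ℂ) + Q K hl.ext χ := by
  have h := K.apply_t_mul χ 1
  rw [OneMemClass.coe_one, mul_one] at h
  rw [h, ← Finset.sum_sdiff (Finset.subset_univ (K.cls hl.ext)), add_comm, Q, a, Int.cast_sum]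
  congr 1
  refine Finset.sum_congr rfl fun η hη => ?_
  rw [hl.ext_one hη, mul_one, Int.cast_mul, Int.cast_natCast]

/-- `Q` by classes. -/
theorem Q_eq (hl : K.Good l) (χ : IrrCharacter G) :
    Q K hl.ext χ = ∑ c ∈ (Finset.univ \ K.cls hl.ext).image K.resR,
      c 1 * ∑ ξ ∈ (Finset.univ \ K.cls hl.ext).filter (fun ξ => K.resR ξ = c), (K.eps ξ : ℂ) * (K.m ξ χ : ℂ) := by
  rw [Q, ← Finset.sum_fiberwise_of_maps_to (g := K.resR) (t := (Finset.univ \ K.cls hl.ext).image K.resR)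
    (fun ξ hξ => Finset.mem_image_of_mem _ hξ)]
  refine Finset.sum_congr rfl fun c _ => ?_
  rw [Finset.mul_sum]
  refine Finset.sum_congr rfl fun ξ hξ => ?_
  rw [← (Finset.mem_filter.1 hξ).2]
  show _ = (ξ : K.R → ℂ) (K.inc 1) * _
  rw [map_one]; ring

theorem fibre_eq (hl : K.Good l) {ξ₀ : IrrCharacter K.R} (h : ξ₀ ∉ K.cls hl.ext) (χ : IrrCharacter G) :
    ∑ ξ ∈ (Finset.univ \ K.cls hl.ext).filter (fun ξ => K.resR ξ = K.resR ξ₀),
      (K.eps ξ : ℂ) * (K.m ξ χ : ℂ) = (K.a ξ₀ χ : ℂ) := by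
  rw [a, Int.cast_sum]
  refine Finset.sum_congr ?_ fun ξ _ => by rw [Int.cast_mul, Int.cast_natCast]
  ext ξ
  rw [Finset.mem_filter, Finset.mem_sdiff, K.mem_cls, K.mem_cls]
  constructor
  · rintro ⟨-, e⟩ x hx
    exact congrFun e ⟨x, hx⟩
  · intro hs
    refine ⟨⟨Finset.mem_univ _, fun hm => h (K.mem_cls.2 ((hs.symm K).trans K hm))⟩, K.classInner_resR_eq hs⟩

variable [Fintype (IrrCharacter G)] {j : ℕ} {χ₀ χ₁ e : IrrCharacter G}

theorem Three.Q_e (hi : ∀ i, K.Inv i l) (h : Three hl j χ₀ χ₁ e) : Q K hl.ext e = 0 := by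
  rw [Q_eq hl]
  refine Finset.sum_eq_zero fun c hc => ?_
  obtain ⟨ξ₀, hξ₀, rfl⟩ := Finset.mem_image.1 hc
  rw [fibre_eq hl (Finset.mem_sdiff.1 hξ₀).2, (h.other hi (Finset.mem_sdiff.1 hξ₀).2).1, Int.cast_zero, mul_zero]

theorem Three.Q_add (hi : ∀ i, K.Inv i l) (h : Three hl j χ₀ χ₁ e) : Q K hl.ext χ₀ + Q K hl.ext χ₁ = 0 := by
  rw [Q_eq hl, Q_eq hl, ← Finset.sum_add_distrib]
  refine Finset.sum_eq_zero fun c hc => ?_
  obtain ⟨ξ₀, hξ₀, rfl⟩ := Finset.mem_image.1 hc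
  rw [fibre_eq hl (Finset.mem_sdiff.1 hξ₀).2, fibre_eq hl (Finset.mem_sdiff.1 hξ₀).2, ← mul_add,
    ← Int.cast_add, (h.other hi (Finset.mem_sdiff.1 hξ₀).2).2.1, Int.cast_zero, mul_zero]

/-- The other classes do not contribute. -/
theorem Three.Q_eq_zero (hi : ∀ i, K.Inv i l) (h : Three hl j χ₀ χ₁ e) {κ : ℤ} (hκ : κ = 1 ∨ κ = -1)
    (h0 : K.a hl.ext χ₀ = κ * hl.P χ₀) (h1 : K.a hl.ext χ₁ = κ * hl.P χ₁) :
    Q K hl.ext χ₀ = 0 := by
  by_contra hQ
  obtain ⟨ξ, hξ, hne⟩ : ∃ ξ, ξ ∉ K.cls hl.ext ∧ K.a ξ χ₀ ≠ 0 := by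
    by_contra hc
    push Not at hc
    refine hQ ?_
    rw [Q_eq hl]
    refine Finset.sum_eq_zero fun c hc' => ?_
    obtain ⟨ξ₀, hξ₀, rfl⟩ := Finset.mem_image.1 hc'
    rw [fibre_eq hl (Finset.mem_sdiff.1 hξ₀).2, hc _ (Finset.mem_sdiff.1 hξ₀).2, Int.cast_zero, mul_zero]
  obtain ⟨hb, hp, hsupp, hP, hx⟩ := (h.other hi hξ).2.2 hne
  have hc := K.cubic_moved hb hp
  rw [cubic, ← Finset.sum_subset (Finset.subset_univ (Pattern.supp fun χ => K.d ξ (K.tw ξ 1) χ))
    fun χ _ hχ => by rw [Pattern.mem_supp, not_not] at hχ; rw [hχ]; simp, hsupp, Finset.sum_pair h.ne] at hc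
  have hd1 : K.d ξ (K.tw ξ 1) χ₁ = -K.d ξ (K.tw ξ 1) χ₀ := by
    linarith [(h.moved hξ hb (K.mem_cls.2 (K.same_tw ξ 1))).2.1]
  have hd0 : (K.d ξ (K.tw ξ 1) χ₀ : ℂ) ≠ 0 := by
    have hm : χ₀ ∈ Pattern.supp fun χ => K.d ξ (K.tw ξ 1) χ := by rw [hsupp]; simp
    exact_mod_cast Pattern.mem_supp.1 hm
  have hxc : (charDegree (χ₀ : G → ℂ) : ℂ) ≠ 0 := Nat.cast_ne_zero.2 (charDegree_pos χ₀).ne'
  rw [hl.apply_t χ₀, hl.apply_t χ₁, h0, h1, ← hP, hd1, ← hx,
    show Q K hl.ext χ₁ = -Q K hl.ext χ₀ from eq_neg_of_add_eq_zero_right (h.Q_add hi)] at hc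
  push_cast at hc
  field_simp at hc
  have hκP : ((κ : ℂ) * (hl.P χ₀ : ℂ)) ≠ 0 := by
    refine mul_ne_zero ?_ (Int.cast_ne_zero.2 (Pattern.mem_supp.1 h.mem₀))
    rcases hκ with q | q <;> rw [q] <;> norm_num
  have h4 : (K.d ξ (K.tw ξ 1) χ₀ : ℂ) * (((κ : ℂ) * (hl.P χ₀ : ℂ)) * Q K hl.ext χ₀) = 0 := by
    linear_combination (1 / 4 : ℂ) * hc
  exact hQ ((mul_eq_zero.1 ((mul_eq_zero.1 h4).resolve_left hd0)).resolve_left hκP)

/-- The cubic sum of the linear character. -/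
theorem Three.cubic_eq (hi : ∀ i, K.Inv i l) (h : Three hl j χ₀ χ₁ e) {κ : ℤ} (hκ : κ = 1 ∨ κ = -1)
    (h0 : K.a hl.ext χ₀ = κ * hl.P χ₀) (h1 : K.a hl.ext χ₁ = κ * hl.P χ₁)
    (he : K.a hl.ext e * K.a hl.ext e = 4) :
    K.cubic hl.ext (K.tw hl.ext j) =
      (((hl.P χ₀ : ℚ) / (charDegree (χ₀ : G → ℂ) : ℚ) + (hl.P χ₁ : ℚ) / (charDegree (χ₁ : G → ℂ) : ℚ) +
        4 * (hl.D j e : ℚ) / (charDegree (e : G → ℂ) : ℚ) : ℚ) : ℂ) := by
  have hQ0 := h.Q_eq_zero hi hκ h0 h1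
  have hQ1 : Q K hl.ext χ₁ = 0 := by
    have := h.Q_add hi
    rwa [hQ0, zero_add] at this
  have hk : (κ : ℂ) ^ 2 = 1 := by rcases hκ with q | q <;> rw [q] <;> norm_num
  have sq : ∀ χ, χ ∈ Pattern.supp hl.P → (hl.P χ : ℂ) ^ 2 = 1 := fun χ hχ => by
    rcases (hl.fam.cases χ).resolve_left (Pattern.mem_supp.1 hχ) with q | q <;> rw [q] <;> norm_num
  have he' : (K.a hl.ext e : ℂ) ^ 2 = 4 := by rw [pow_two]; exact_mod_cast he
  rw [cubic, ← Finset.sum_subset (Finset.subset_univ (Pattern.supp (hl.D j)))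
    fun χ _ hχ => by
      rw [Pattern.mem_supp, not_not] at hχ
      rw [show K.d hl.ext (K.tw hl.ext j) χ = 0 from hχ]; simp,
    h.tri.supp_eq, Finset.sum_insert h.tri.e_notMem, Finset.sum_pair h.ne, hl.apply_t χ₀, hl.apply_t χ₁,
    hl.apply_t e, hQ0, hQ1, h.Q_e hi, add_zero, add_zero, add_zero]
  simp only [show ∀ χ, K.d hl.ext (K.tw hl.ext j) χ = hl.D j χ from fun _ => rfl]
  rw [h.tri.eqP χ₀ (by simp), h.tri.eqP χ₁ (by simp), h0, h1]
  push_cast
  rw [mul_pow, mul_pow, hk, sq χ₀ h.mem₀, sq χ₁ h.mem₁, he']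
  ring

/-- The degree relation. -/
theorem Three.degree_rel (h : Three hl j χ₀ χ₁ e) :
    (hl.P χ₀ : ℤ) * (charDegree (χ₀ : G → ℂ) : ℤ) + hl.P χ₁ * (charDegree (χ₁ : G → ℂ) : ℤ) +
      hl.D j e * (charDegree (e : G → ℂ) : ℤ) = 0 := by
  rw [← h.sum_mul fun χ => (charDegree (χ : G → ℂ) : ℤ)]
  refine Eq.trans (Finset.sum_congr rfl fun χ _ => mul_comm _ _) ?_
  exact K.sum_degree_d ((K.same_tw hl.ext j).symm K)

/-- The lower bound for the degree of a non-trivial one. -/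
theorem Three.degree_le [IsSimpleGroup G] (hi : ∀ i, K.Inv i l) (h : Three hl j χ₀ χ₁ e) (hU : ∃ x y : K.U, x * y ≠ y * x)
    {χ : IrrCharacter G} (hχ : χ = χ₀ ∨ χ = χ₁ ∨ χ = e) (hχ1 : χ ≠ trivChar G) :
    (K.a hl.ext χ).natAbs + 6 ≤ charDegree (χ : G → ℂ) := by
  have := Fintype.ofFinite (IrrCharacter K.U)
  -- a non-linear constituent on `U`
  obtain ⟨θ, hθ, hθ1⟩ : ∃ θ : IrrCharacter K.U,
      classInner (K.resU χ) (θ : K.U → ℂ) ≠ 0 ∧ (θ : K.U → ℂ) 1 ≠ 1 := by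
    by_contra hc
    push Not at hc
    obtain ⟨a, b, hab⟩ := hU
    set y : K.U := a * b * a⁻¹ * b⁻¹ with hy
    have hy1 : y ≠ 1 := fun q => hab (by rw [hy, mul_inv_eq_one, mul_inv_eq_iff_eq_mul] at q; exact q)
    have hres := classFunction_apply_eq_sum (θ := K.resU χ)
      (IsChar.isClassFunction (IsChar.restrict K.U (IsIrr.isCharacter χ.2)))
    have hval : (χ : G → ℂ) (y : G) = (χ : G → ℂ) 1 := by
      refine (hres y).trans (Eq.trans ?_ ((hres 1).symm.trans (by simp [resU])))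
      refine Finset.sum_congr rfl fun θ _ => ?_
      rcases eq_or_ne (classInner (K.resU χ) (θ : K.U → ℂ)) 0 with h0 | h0
      · rw [h0, zero_mul, zero_mul]
      · obtain ⟨lam, hlam⟩ := exists_linear_of_degree_one (IsIrr.isCharacter θ.2) (hc θ h0)
        congr 1
        have hl1 : lam y = 1 := by
          rw [hy, map_mul, map_mul, map_mul, map_inv, map_inv]
          simp [mul_comm (lam a) (lam b)]
        simp only [hlam, hl1, map_one]
    have hker : (y : G) ∈ CharDegree.kerSubgroup χ := (CharDegree.mem_kerSubgroup).2 hval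
    rcases (CharDegree.kerSubgroup_normal χ).eq_bot_or_eq_top with q | q
    · rw [q, Subgroup.mem_bot] at hker
      exact hy1 (Subtype.ext hker)
    · have hall : ∀ g, (χ : G → ℂ) g = (χ : G → ℂ) 1 := fun g =>
        (CharDegree.mem_kerSubgroup).1 (q ▸ mem_top g)
      have hi := Char.classInner_irr χ (trivChar G)
      rw [if_neg hχ1, classInner] at hi
      simp only [hall, trivChar_apply, map_one, mul_one, Finset.sum_const, Finset.card_univ,
        ← Nat.card_eq_fintype_card, nsmul_eq_mul, ← mul_assoc,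
        inv_mul_cancel₀ (Nat.cast_ne_zero.2 (Nat.card_pos (α := G)).ne' : (Nat.card G : ℂ) ≠ 0), one_mul] at hi
      exact Char.IsIrr.apply_one_ne_zero χ.2 hi
  rw [K.classInner_resU] at hθ
  obtain ⟨ξ, -, hξ⟩ := Finset.exists_ne_zero_of_sum_ne_zero hθ
  have hm : 1 ≤ K.m ξ χ := Nat.one_le_iff_ne_zero.2 fun q => left_ne_zero_of_mul hξ (by rw [q, Nat.cast_zero])
  have hξθ := right_ne_zero_of_mul hξ
  have hd3 : 3 ≤ charDegree (θ : K.U → ℂ) := by
    obtain ⟨k, hk⟩ := K.hUodd.of_dvd_nat (CfsgLib.CharDegree.charDegree_dvd_card θ)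
    have hne : charDegree (θ : K.U → ℂ) ≠ 1 := fun q => hθ1 (by
      rw [Blocks.apply_one_eq_charDegree, q, Nat.cast_one])
    omega
  have hξ3 : 3 ≤ charDegree (ξ : K.R → ℂ) := by
    refine hd3.trans ?_
    have hchar : IsCharacter K.U (K.resR ξ) := IsChar.comp K.inc (IsIrr.isCharacter ξ.2)
    choose c hc using fun ψ : IrrCharacter K.U => IsChar.classInner_eq_natCast hchar (IsIrr.isCharacter ψ.2)
    have hs := classFunction_apply_eq_sum (θ := K.resR ξ) (IsChar.isClassFunction hchar) 1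
    rw [resR, map_one] at hs
    simp only [hc, Blocks.apply_one_eq_charDegree] at hs
    have hs' : charDegree (ξ : K.R → ℂ) = ∑ ψ : IrrCharacter K.U, c ψ * charDegree (ψ : K.U → ℂ) := by
      exact_mod_cast hs
    have hcθ : 1 ≤ c θ := Nat.one_le_iff_ne_zero.2 fun q => hξθ (by rw [hc, q, Nat.cast_zero])
    rw [hs']
    exact le_trans (Nat.le_mul_of_pos_left _ hcθ)
      (Finset.single_le_sum (f := fun ψ => c ψ * charDegree (ψ : K.U → ℂ)) (fun _ _ => Nat.zero_le _)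
        (Finset.mem_univ θ))
  have hξL : ξ ∉ K.cls hl.ext := fun hm' => by
    rw [K.classInner_resR_eq (K.mem_cls.1 hm'), show K.resR hl.ext = (K.lin l : K.U → ℂ) from funext fun y => by
      show (hl.extHom (K.inc y) : ℂ) = _
      rw [hl.ext_inc, lin_apply]] at hξθ
    have : θ = K.lin l := by
      by_contra hne
      exact hξθ (classInner_irr_of_ne (Ne.symm hne))
    exact hθ1 (by rw [this, lin_apply, map_one, Units.val_one])
  -- the degree as a sum
  have hdeg : charDegree (χ : G → ℂ) =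
      ∑ η : IrrCharacter K.R, K.m η χ * charDegree (η : K.R → ℂ) := by
    have hs := K.apply_eq_sum χ 1
    rw [OneMemClass.coe_one] at hs
    simp only [Blocks.apply_one_eq_charDegree] at hs
    exact_mod_cast hs
  rw [hdeg, ← Finset.sum_sdiff (Finset.subset_univ (K.cls hl.ext))]
  refine le_of_le_of_eq (add_le_add ?_ ?_) (add_comm _ _)
  · refine le_trans ?_ (Finset.sum_le_sum fun η _ => Nat.le_mul_of_pos_right _ (charDegree_pos η))
    unfold Ctx.a
    refine le_trans (Int.natAbs_sum_le _ _) ?_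
    refine Finset.sum_le_sum fun η _ => ?_
    rw [Int.natAbs_mul, Int.natAbs_natCast]
    rcases K.eps_cases η with q | q <;> rw [q] <;> simp
  · by_cases hs : K.Same (K.bar ξ) ξ
    · have hev : (2 : ℤ) ∣ K.a ξ χ := by
        rcases hχ with rfl | rfl | rfl
        · rw [(hl.stable_a hi hξL hs _ h.mem₀).1]; exact dvd_zero 2
        · rw [(hl.stable_a hi hξL hs _ h.mem₁).1]; exact dvd_zero 2
        · rw [(h.stable_e hξL fun χ hχ => (hl.stable_a hi hξL hs χ hχ).2).1]; exact dvd_zero 2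
      have h2 : 2 ≤ ∑ η ∈ K.cls ξ, K.m η χ := by
        have h1 : 1 ≤ ∑ η ∈ K.cls ξ, K.m η χ := le_trans hm
          (Finset.single_le_sum (f := fun η => K.m η χ) (fun _ _ => Nat.zero_le _) (K.self_mem_cls ξ))
        have h0 : ((∑ η ∈ K.cls ξ, K.m η χ : ℕ) : ZMod 2) = 0 := by
          rw [K.cast_a_eq_sum, ZMod.intCast_zmod_eq_zero_iff_dvd]
          exact hev
        rw [ZMod.natCast_eq_zero_iff] at h0
        obtain ⟨k, hk⟩ := h0
        omega
      refine le_trans ?_ (Finset.sum_le_sum_of_subset (s := K.cls ξ) fun η hη => Finset.mem_sdiff.2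
        ⟨Finset.mem_univ _, fun hm' => hξL (by rw [← K.cls_eq hm', K.cls_eq hη]; exact K.self_mem_cls ξ)⟩)
      refine le_trans (Nat.mul_le_mul h2 hξ3 : 2 * 3 ≤ _) ?_
      rw [Finset.sum_mul]
      refine Finset.sum_le_sum fun η hη => le_of_eq ?_
      congr 1
      refine Nat.cast_injective (R := ℂ) ?_
      rw [← Blocks.apply_one_eq_charDegree, ← Blocks.apply_one_eq_charDegree]
      exact (K.mem_cls.1 hη 1 (one_mem K.U)).symm
    · have hne : ξ ≠ K.bar ξ := fun q => hs (by rw [← q]; exact fun _ _ => rfl)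
      refine le_trans ?_ (Finset.sum_le_sum_of_subset (s := {ξ, K.bar ξ}) fun η hη => Finset.mem_sdiff.2
        ⟨Finset.mem_univ _, fun hm' => hξL ?_⟩)
      · rw [Finset.sum_pair hne, K.m_bar]
        have hb : charDegree (K.bar ξ : K.R → ℂ) = charDegree (ξ : K.R → ℂ) := by
          refine Nat.cast_injective (R := ℂ) ?_
          rw [← Blocks.apply_one_eq_charDegree, ← Blocks.apply_one_eq_charDegree, bar_apply, map_one]
        rw [hb]
        nlinarith [Nat.mul_le_mul hm hξ3]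
      · rcases Finset.mem_insert.1 hη with rfl | hη
        · exact hm'
        · rw [Finset.mem_singleton] at hη
          subst hη
          have := K.bar_mem_cls hl.bar_ext hm'
          rwa [K.bar_bar] at this

end Ctx

end CfsgLib.GW.DLin
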