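import Cfsg.Agent.Lib.GW.Dne.Linear.Tri
import Cfsg.Agent.Lib.GW.Dne.Linear.Partner
import Cfsg.Agent.Lib.GW.Dne.Linear.Values

/-!
# The class of `R` over the moved linear character
-/

set_option autoImplicit false

open scoped Classical

namespace CfsgLib.GW.DLin

open Subgroup DihedralGroup Cfsg CfsgLib.Char CfsgLib.CharDegree
open CfsgLib.TwoGroups CfsgLib.TwoGroups.Dihedral
open scoped ComplexConjugate

universe v

noncomputable local instance (priority := 10000) irrDecEq₄ {A : Type v} [Group A] :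
    DecidableEq (IrrCharacter A) := fun a b => Classical.propDecidable (a = b)

namespace Ctx

variable {G : Type v} [Group G] [Fintype G] {K : Ctx G} [Fintype (IrrCharacter K.R)]

theorem lin_inj {m m' : K.U →* ℂˣ} (h : K.lin m = K.lin m') : m = m' :=
  MonoidHom.ext fun y => Units.ext (by rw [← K.lin_apply, ← K.lin_apply, h])

theorem Good.resR_ext {l : K.U →* ℂˣ} (hl : K.Good l) : K.resR hl.ext = (K.lin l : K.U → ℂ) :=
  funext fun y => by
    show (hl.extHom (K.inc y) : ℂ) = _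
    rw [hl.ext_inc, lin_apply]

theorem sum_m_lin_eq {η : IrrCharacter K.R} {m : K.U →* ℂˣ}
    (h : classInner (K.resR η) (K.lin m : K.U → ℂ) ≠ 0) (χ : IrrCharacter G) :
    classInner (K.resU χ) (K.lin m : K.U → ℂ) = ((∑ η' ∈ K.cls η, K.m η' χ : ℕ) : ℂ) := by
  rw [K.classInner_resU, Nat.cast_sum, ← Finset.sum_subset (Finset.subset_univ (K.cls η)) fun η' _ hη' => ?_]
  · refine Finset.sum_congr rfl fun η' hη' => ?_
    rw [K.classInner_resR_eq (K.mem_cls.1 hη'), K.classInner_resR_eq_one h, mul_one]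
  · by_contra hne
    exact hη' (K.mem_cls.2 (K.same_of_common (right_ne_zero_of_mul hne) h))

/-- The class over `l₁`: two members of degree two, fixed by the reflection. -/
structure TriCls (l₁ : K.U →* ℂˣ) (η₀ : IrrCharacter K.R) : Prop where
  bar_eq : K.bar η₀ = η₀
  cls_eq' : K.cls η₀ = {η₀, K.opp η₀}
  deg : ∀ η ∈ K.cls η₀, charDegree (η : K.R → ℂ) = 2
  inner₁ : classInner (K.resR η₀) (K.lin l₁ : K.U → ℂ) ≠ 0
  inner₂ : classInner (K.resR η₀) (K.lin (K.third l₁) : K.U → ℂ) ≠ 0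
  eps_opp : K.eps (K.opp η₀) = -K.eps η₀

variable {l l₁ : K.U →* ℂˣ}

theorem Tri.exists_cls (h : K.Tri l l₁) {χ : IrrCharacter G} {M : ℕ}
    (hM : classInner (K.resU χ) (K.lin l₁ : K.U → ℂ) = M) (hodd : Odd M) : ∃ η₀, TriCls l₁ η₀ := by
  have := Fintype.ofFinite (IrrCharacter K.U)
  rw [K.classInner_resU] at hM
  obtain ⟨ξ, -, hξ⟩ := Finset.exists_ne_zero_of_sum_ne_zero (hM ▸ Nat.cast_ne_zero.2 hodd.pos.ne')
  have hξ1 := right_ne_zero_of_mul hξ
  -- the class is fixed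
  let σ : K.U ≃* K.U :=
    { toFun := K.conjW false
      invFun := K.conjW false
      left_inv := K.conjW_conjW false
      right_inv := K.conjW_conjW false
      map_mul' := fun x y => Subtype.ext (by
        show K.w false * ((x : G) * y) * (K.w false)⁻¹ =
          K.w false * (x : G) * (K.w false)⁻¹ * (K.w false * (y : G) * (K.w false)⁻¹)
        group) }
  have hbar : classInner (K.resR (K.bar ξ)) (K.lin l₁ : K.U → ℂ) ≠ 0 := by
    rw [← CfsgLib.Clifford.classInner_comp_equiv σ (K.resR ξ) (K.lin l₁ : K.U → ℂ)] at hξ1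
    rw [show K.resR (K.bar ξ) = fun y => K.resR ξ (σ y) from rfl,
      show (K.lin l₁ : K.U → ℂ) = fun y => (K.lin l₁ : K.U → ℂ) (σ y) from funext fun y => by
        rw [K.lin_apply, K.lin_apply, h.fixed₁ y (σ y) rfl]]
    exact hξ1
  obtain ⟨η₀, hη₀, hb⟩ := K.exists_fixed (K.same_of_common hbar hξ1)
  have h1 : classInner (K.resR η₀) (K.lin l₁ : K.U → ℂ) ≠ 0 := by
    rw [K.classInner_resR_eq (K.mem_cls.1 hη₀)]; exact hξ1
  have h2 : classInner (K.resR η₀) (K.lin (K.third l₁) : K.U → ℂ) ≠ 0 := by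
    have e := CfsgLib.Clifford.classInner_comp_equiv K.cjz (K.resR η₀) (K.lin l₁ : K.U → ℂ)
    rw [show (fun y => K.resR η₀ (K.cjz y)) = K.resR η₀ from funext fun y =>
      IsIrr.isClassFunction η₀.2 (K.inc y) ⟨K.F (r 1), 1, one_mem _, 1, (one_mul _).symm⟩] at e
    rw [show (K.lin (K.third l₁) : K.U → ℂ) = fun y => (K.lin l₁ : K.U → ℂ) (K.cjz y) from rfl, e]
    exact h1
  -- degree at least two
  have hchar : IsCharacter K.U (K.resR η₀) := IsChar.comp K.inc (IsIrr.isCharacter η₀.2)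
  choose c hc using fun ψ : IrrCharacter K.U => IsChar.classInner_eq_natCast hchar (IsIrr.isCharacter ψ.2)
  have hs := classFunction_apply_eq_sum (θ := K.resR η₀) (IsChar.isClassFunction hchar) 1
  rw [resR_one] at hs
  simp only [hc, Blocks.apply_one_eq_charDegree] at hs
  have hs' : charDegree (η₀ : K.R → ℂ) = ∑ ψ : IrrCharacter K.U, c ψ * charDegree (ψ : K.U → ℂ) := by
    exact_mod_cast hs
  have hd2 : 2 ≤ charDegree (η₀ : K.R → ℂ) := by
    rw [hs']
    refine le_trans ?_ (Finset.sum_le_sum_of_subset (Finset.subset_univ {K.lin l₁, K.lin (K.third l₁)}))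
    rw [Finset.sum_pair fun q => h.third_ne.2.2 (lin_inj q)]
    have hp : ∀ ψ : IrrCharacter K.U, classInner (K.resR η₀) (ψ : K.U → ℂ) ≠ 0 →
        1 ≤ c ψ * charDegree (ψ : K.U → ℂ) := fun ψ hψ =>
      Nat.mul_pos (Nat.pos_of_ne_zero fun q => hψ (by rw [hc, q, Nat.cast_zero])) (charDegree_pos ψ)
    have := hp _ h1
    have := hp _ h2
    omega
  -- two members
  have hsum := K.sum_degree_cls h1
  rw [Finset.sum_congr rfl fun η hη => (K.mem_cls.1 hη).charDegree_eq K, Finset.sum_const, smul_eq_mul,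
    h.n_eq, show charDegree (K.lin l₁ : K.U → ℂ) = 1 from Nat.cast_injective (R := ℂ) (by
      rw [← Blocks.apply_one_eq_charDegree, lin_apply, map_one, Units.val_one, Nat.cast_one])] at hsum
  have hsub : ({η₀, K.opp η₀} : Finset (IrrCharacter K.R)) ⊆ K.cls η₀ :=
    Finset.insert_subset_iff.2 ⟨K.self_mem_cls η₀, Finset.singleton_subset_iff.2 (K.opp_mem η₀)⟩
  have hc2 : 2 ≤ (K.cls η₀).card :=
    (Finset.card_pair (K.opp_ne η₀).symm).ge.trans (Finset.card_le_card hsub)
  have hdeg : charDegree (η₀ : K.R → ℂ) = 2 ∧ (K.cls η₀).card = 2 := by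
    constructor <;> nlinarith
  have hcls : K.cls η₀ = {η₀, K.opp η₀} :=
    (Finset.eq_of_subset_of_card_le hsub (by rw [hdeg.2, Finset.card_pair (K.opp_ne η₀).symm])).symm
  refine ⟨η₀, hb, hcls, fun η hη => by rw [(K.mem_cls.1 hη).charDegree_eq K]; exact hdeg.1, h1, h2, ?_⟩
  have he := K.sum_eps η₀
  rw [hcls, Finset.sum_pair (K.opp_ne η₀).symm] at he
  linarith

theorem TriCls.a_eq {η₀ : IrrCharacter K.R} (hη : TriCls l₁ η₀) (χ : IrrCharacter G) :
    K.a η₀ χ = K.eps η₀ * K.d η₀ (K.opp η₀) χ := by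
  rw [a, hη.cls_eq', Finset.sum_pair (K.opp_ne η₀).symm, hη.eps_opp, d]
  ring

theorem TriCls.notMem_ext {η₀ : IrrCharacter K.R} (hη : TriCls l₁ η₀) (hl : K.Good l) :
    η₀ ∉ K.cls hl.ext := fun hm => by
  have h1 := hη.deg η₀ (K.self_mem_cls η₀)
  rw [(K.mem_cls.1 hm).charDegree_eq K] at h1
  have h2 := hl.ext_one (K.self_mem_cls _)
  rw [Blocks.apply_one_eq_charDegree, h1] at h2
  norm_num at h2

end Ctx

end CfsgLib.GW.DLin
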