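import Cfsg.Agent.Lib.GW.Dne.Linear.TriClass

/-!
# The five characters next to a linear character invariant for one class
-/

set_option autoImplicit false

open scoped Classical

namespace CfsgLib.GW.DLin

open Subgroup DihedralGroup Cfsg CfsgLib.Char CfsgLib.CharDegree
open CfsgLib.TwoGroups CfsgLib.TwoGroups.Dihedral
open scoped ComplexConjugate

universe v

noncomputable local instance (priority := 10000) irrDecEq₅ {A : Type v} [Group A] :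
    DecidableEq (IrrCharacter A) := fun a b => Classical.propDecidable (a = b)

namespace Ctx

variable {G : Type v} [Group G] [Fintype G] {K : Ctx G} [Fintype (IrrCharacter K.R)]
  [Fintype (IrrCharacter G)] {l l₁ : K.U →* ℂˣ}

/-- The labelled five characters. -/
structure TriFam (hl : K.Good l) (η₀ : IrrCharacter K.R) (χ₀ χ₁ χ₂ χ₃ e : IrrCharacter G) (r : ℤ) : Prop where
  three : Three hl 1 χ₀ χ₁ e
  sign : r = 1 ∨ r = -1
  supp_eq : Pattern.supp hl.P = {χ₀, χ₁, χ₂, χ₃}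
  ne02 : χ₀ ≠ χ₂
  ne03 : χ₀ ≠ χ₃
  ne12 : χ₁ ≠ χ₂
  ne13 : χ₁ ≠ χ₃
  ne23 : χ₂ ≠ χ₃
  P₂ : hl.P χ₂ = -hl.P χ₀
  P₃ : hl.P χ₃ = -hl.P χ₁
  D₂ : hl.D 1 χ₂ = 0
  D₃ : hl.D 1 χ₃ = 0
  deg₂ : charDegree (χ₂ : G → ℂ) = charDegree (χ₀ : G → ℂ)
  deg₃ : charDegree (χ₃ : G → ℂ) = charDegree (χ₁ : G → ℂ)
  R₀ : K.d η₀ (K.opp η₀) χ₀ = r * hl.P χ₀
  R₁ : K.d η₀ (K.opp η₀) χ₁ = -(r * hl.P χ₁)
  R₂ : K.d η₀ (K.opp η₀) χ₂ = r * hl.P χ₂
  R₃ : K.d η₀ (K.opp η₀) χ₃ = -(r * hl.P χ₃)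
  Re : K.d η₀ (K.opp η₀) e = 0
  other : ∀ ξ : IrrCharacter K.R, ξ ∉ K.cls hl.ext → ξ ∉ K.cls η₀ →
    ∀ χ ∈ insert e (Pattern.supp hl.P), ∀ η ∈ K.cls ξ, K.d ξ η χ = 0

theorem Tri.Ico_eq (h : K.Tri l l₁) : Finset.Ico 1 (2 ^ (K.n - 1)) = {1} := by
  rw [h.n_eq]; decide

theorem Tri.a_one (h : K.Tri l l₁) (χ : IrrCharacter G) :
    K.a h.good.ext χ = -h.good.P χ + 2 * h.good.D 1 χ := by
  rw [h.good.a_eq, h.Ico_eq, Finset.sum_singleton]
  ring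

theorem Tri.odd_l₁ (h : K.Tri l l₁) {χ : IrrCharacter G} (hχ : χ ∈ Pattern.supp h.good.P) :
    ∃ M : ℕ, classInner (K.resU χ) (K.lin l₁ : K.U → ℂ) = (M : ℂ) ∧ Odd M := by
  have hodd : Odd (∑ η ∈ K.cls h.good.ext, K.m η χ) := by
    rw [Nat.odd_iff, ← Nat.two_dvd_ne_zero, ← ZMod.natCast_eq_zero_iff]
    rw [K.cast_a_eq_sum, ZMod.intCast_zmod_eq_zero_iff_dvd]
    exact_mod_cast h.good.odd_of_mem_supp hχ
  obtain ⟨M, hM⟩ : ∃ M : ℕ, classInner (K.resU χ) (K.lin l₁ : K.U → ℂ) = M :=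
    IsChar.classInner_eq_natCast (IsChar.restrict K.U (IsIrr.isCharacter χ.2)) (IsIrr.isCharacter (K.lin l₁).2)
  exact ⟨M, hM, h.parity χ (K.sum_m_lin h.good χ) hM hodd⟩

theorem Tri.exists_fam (h : K.Tri l l₁) :
    ∃ η₀, TriCls l₁ η₀ ∧ ∃ χ₀ χ₁ χ₂ χ₃ e r, TriFam h.good η₀ χ₀ χ₁ χ₂ χ₃ e r := by
  set hl := h.good with hhl
  have hj : 1 ∈ Finset.Ico 1 (2 ^ (K.n - 1)) := by rw [h.Ico_eq]; exact Finset.mem_singleton_self 1
  have hPc : ∀ χ, hl.P χ = 0 ∨ hl.P χ = 1 ∨ hl.P χ = -1 := hl.fam.cases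
  have hcard4 : (Pattern.supp hl.P).card = 4 := by
    have := Pattern.card_supp hPc
    rw [hl.fam.normP] at this
    exact_mod_cast this
  obtain ⟨p, e, hT⟩ := Pattern.exists_tri hPc (hl.fam.normD 1 hj).1 (hl.fam.normD 1 hj).2
  obtain ⟨χ₀, χ₁, h01, rfl⟩ := Finset.card_eq_two.1 hT.card
  have h3 : Three hl 1 χ₀ χ₁ e := ⟨hj, h01, hT⟩
  obtain ⟨M, hM, hMo⟩ := h.odd_l₁ h3.mem₀
  obtain ⟨η₀, hη⟩ := h.exists_cls hM hMo
  have hnot : η₀ ∉ K.cls hl.ext := hη.notMem_ext hl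
  have hnot' : ∀ η ∈ K.cls hl.ext, η ∉ K.cls η₀ := fun η hη' hm => hnot (by
    rw [← K.cls_eq hη', K.cls_eq hm]; exact K.self_mem_cls η₀)
  set R := fun χ => K.d η₀ (K.opp η₀) χ with hR
  have hRc : ∀ χ, R χ = 0 ∨ R χ = 1 ∨ R χ = -1 :=
    Pattern.cases_of_four (x := fun χ : IrrCharacter G => (charDegree (χ : G → ℂ) : ℤ))
      (fun χ => by exact_mod_cast charDegree_pos χ) (K.sum_dP_sq hη.bar_eq)
      (K.sum_degree_d ((K.mem_cls.1 (K.opp_mem η₀)).symm K))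
  have hRodd : ∀ χ ∈ Pattern.supp hl.P, R χ ≠ 0 := by
    intro χ hχ h0
    obtain ⟨M', hM', hMo'⟩ := h.odd_l₁ hχ
    rw [sum_m_lin_eq hη.inner₁, Nat.cast_inj] at hM'
    have h1 := K.cast_a_eq_sum η₀ χ
    rw [hM', hη.a_eq, show K.d η₀ (K.opp η₀) χ = 0 from h0, mul_zero, Int.cast_zero,
      ZMod.natCast_eq_zero_iff] at h1
    exact Nat.not_even_iff_odd.2 hMo' (even_iff_two_dvd.2 h1)
  have hsupp : Pattern.supp R = Pattern.supp hl.P :=
    (Finset.eq_of_subset_of_card_le (fun χ hχ => Pattern.mem_supp.2 (hRodd χ hχ)) (by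
      have := Pattern.card_supp hRc
      rw [show ∑ χ, R χ * R χ = 4 from K.sum_dP_sq hη.bar_eq] at this
      have : (Pattern.supp R).card = 4 := by exact_mod_cast this
      omega)).symm
  have hRe : R e = 0 := by
    by_contra hne
    exact Pattern.mem_supp.1 (hsupp ▸ Pattern.mem_supp.2 hne) hT.out
  have horth : ∀ {ζ : IrrCharacter K.R}, ζ ∈ K.cls hl.ext →
      ∑ χ : IrrCharacter G, R χ * K.d hl.ext ζ χ = 0 := fun hζ =>
    sum_cross_fixed hη.bar_eq (K.opp_mem η₀) (hnot' _ (K.self_mem_cls _)) (hnot' _ hζ)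
  -- the other two
  have hsub : ({χ₀, χ₁} : Finset _) ⊆ Pattern.supp hl.P := hT.sub
  obtain ⟨a, b, hab, hX⟩ := Finset.card_eq_two.1 (show (Pattern.supp hl.P \ {χ₀, χ₁}).card = 2 by
    rw [Finset.card_sdiff_of_subset hsub, hcard4, Finset.card_pair h01])
  have hmem : ∀ {c}, c = a ∨ c = b → c ∈ Pattern.supp hl.P ∧ c ≠ χ₀ ∧ c ≠ χ₁ := fun {c} hc => by
    have : c ∈ Pattern.supp hl.P \ {χ₀, χ₁} := by rw [hX]; simpa using hc
    simpa [not_or] using this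
  have hsum : ∀ v : IrrCharacter G → ℤ, (∀ c, c ∉ Pattern.supp hl.P → v c = 0) →
      ∑ c, v c = v χ₀ + v χ₁ + (v a + v b) := fun v hv => by
    rw [← Finset.sum_subset (Finset.subset_univ (Pattern.supp hl.P)) (fun c _ hc => hv c hc),
      ← Finset.sum_sdiff hsub, hX, Finset.sum_pair hab, Finset.sum_pair h01]
    ring
  have hout : ∀ {c}, c ∉ Pattern.supp hl.P → hl.P c = 0 ∧ R c = 0 := fun {c} hc => by
    have h1 : c ∉ Pattern.supp R := hsupp ▸ hc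
    rw [Pattern.mem_supp, not_not] at hc h1
    exact ⟨hc, h1⟩
  have hdegR := K.sum_degree_d ((K.mem_cls.1 (K.opp_mem η₀)).symm K)
  have hdegP := hl.fam.degP
  have hRP := horth (K.opp_mem hl.ext)
  have hRD := horth (K.mem_cls.2 (K.same_tw hl.ext 1))
  rw [hsum _ fun c hc => by rw [show K.d η₀ (K.opp η₀) c = 0 from (hout hc).2, mul_zero]] at hdegR
  rw [hsum _ fun c hc => by rw [(hout hc).1, mul_zero]] at hdegP
  rw [hsum _ fun c hc => by rw [(hout hc).2, zero_mul]] at hRP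
  rw [Finset.sum_congr rfl fun c _ => mul_comm (R c) _,
    show (∑ c, K.d hl.ext (K.tw hl.ext 1) c * R c) = ∑ c, hl.D 1 c * R c from rfl, h3.sum_mul, hRe,
    mul_zero, add_zero] at hRD
  -- labels
  obtain ⟨χ₂, χ₃, hc23, h2, h3'⟩ : ∃ χ₂ χ₃, ((χ₂ = a ∧ χ₃ = b) ∨ (χ₂ = b ∧ χ₃ = a)) ∧
      R χ₂ * hl.P χ₂ = R χ₀ * hl.P χ₀ ∧ R χ₃ * hl.P χ₃ = -(R χ₀ * hl.P χ₀) := by
    have hpm : ∀ {c}, c ∈ Pattern.supp hl.P → R c * hl.P c = 1 ∨ R c * hl.P c = -1 := fun {c} hc => by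
      rcases (hRc c).resolve_left (hRodd c hc) with q | q <;>
        rcases (hPc c).resolve_left (Pattern.mem_supp.1 hc) with q' | q' <;> rw [q, q'] <;> norm_num
    have hA := hpm (hmem (Or.inl rfl : a = a ∨ a = b)).1
    have hB := hpm (hmem (Or.inr rfl : b = a ∨ b = b)).1
    have hZ := hpm h3.mem₀
    have hz : R χ₁ * hl.P χ₁ = -(R χ₀ * hl.P χ₀) := by linear_combination hRD
    change R χ₀ * hl.P χ₀ + R χ₁ * hl.P χ₁ + (R a * hl.P a + R b * hl.P b) = 0 at hRP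
    by_cases hca : R a * hl.P a = R χ₀ * hl.P χ₀
    · exact ⟨a, b, Or.inl ⟨rfl, rfl⟩, hca, by linarith⟩
    · refine ⟨b, a, Or.inr ⟨rfl, rfl⟩, ?_, ?_⟩ <;>
        (rcases hA with q | q <;> rcases hB with q' | q' <;> rcases hZ with q'' | q'' <;> first | linarith | exact absurd (q.trans q''.symm) hca)
  set r := R χ₀ * hl.P χ₀ with hr
  have hm2 : χ₂ = a ∨ χ₂ = b := by tauto
  have hm3 : χ₃ = a ∨ χ₃ = b := by tauto
  have hne23 : χ₂ ≠ χ₃ := by rcases hc23 with ⟨rfl, rfl⟩ | ⟨rfl, rfl⟩; exacts [hab, hab.symm]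
  have hsq : ∀ {c}, c ∈ Pattern.supp hl.P → hl.P c * hl.P c = 1 := fun {c} hc =>
    Pattern.Tri.sign_mul hPc (Pattern.mem_supp.1 hc)
  have hRv : ∀ {c s}, c ∈ Pattern.supp hl.P → R c * hl.P c = s → R c = s * hl.P c := fun {c s} hc e => by
    rw [← e, mul_assoc, hsq hc, mul_one]
  have h1' : R χ₁ * hl.P χ₁ = -r := by linear_combination hRD
  have r0 := hRv h3.mem₀ hr.symm
  have r1 := hRv h3.mem₁ h1'
  have r2 := hRv (hmem hm2).1 h2
  have r3 := hRv (hmem hm3).1 h3'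
  have hr1 : r = 1 ∨ r = -1 := by
    rcases (hRc χ₀).resolve_left (hRodd _ h3.mem₀) with q | q <;>
      rcases (hPc χ₀).resolve_left (Pattern.mem_supp.1 h3.mem₀) with q' | q' <;>
        rw [hr, q, q'] <;> norm_num
  have hsR : (charDegree (χ₀ : G → ℂ) : ℤ) * R χ₀ + (charDegree (χ₁ : G → ℂ) : ℤ) * R χ₁ +
      ((charDegree (χ₂ : G → ℂ) : ℤ) * R χ₂ + (charDegree (χ₃ : G → ℂ) : ℤ) * R χ₃) = 0 := by
    rcases hc23 with ⟨q, q'⟩ | ⟨q, q'⟩ <;> rw [q, q'] <;> linear_combination hdegR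
  have hsP : (charDegree (χ₀ : G → ℂ) : ℤ) * hl.P χ₀ + (charDegree (χ₁ : G → ℂ) : ℤ) * hl.P χ₁ +
      ((charDegree (χ₂ : G → ℂ) : ℤ) * hl.P χ₂ + (charDegree (χ₃ : G → ℂ) : ℤ) * hl.P χ₃) = 0 := by
    rcases hc23 with ⟨q, q'⟩ | ⟨q, q'⟩ <;> rw [q, q'] <;> linear_combination hdegP
  rw [r0, r1, r2, r3] at hsR
  have h02 : (charDegree (χ₀ : G → ℂ) : ℤ) * hl.P χ₀ + (charDegree (χ₂ : G → ℂ) : ℤ) * hl.P χ₂ = 0 := by
    rcases hr1 with q | q <;> rw [q] at hsR <;> linarith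
  have hflip : ∀ {c c' : IrrCharacter G}, c ∈ Pattern.supp hl.P → c' ∈ Pattern.supp hl.P →
      (charDegree (c : G → ℂ) : ℤ) * hl.P c + (charDegree (c' : G → ℂ) : ℤ) * hl.P c' = 0 →
      hl.P c' = -hl.P c ∧ charDegree (c' : G → ℂ) = charDegree (c : G → ℂ) := by
    intro c c' hc hc' he
    have := charDegree_pos c
    have := charDegree_pos c'
    rcases (hPc c).resolve_left (Pattern.mem_supp.1 hc) with q | q <;>
      rcases (hPc c').resolve_left (Pattern.mem_supp.1 hc') with q' | q' <;> rw [q, q'] at he ⊢ <;> omega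
  obtain ⟨p2, d2⟩ := hflip h3.mem₀ (hmem hm2).1 h02
  obtain ⟨p3, d3⟩ := hflip h3.mem₁ (hmem hm3).1 (by linarith)
  have hseq : Pattern.supp hl.P = {χ₀, χ₁, χ₂, χ₃} := by
    rw [← Finset.union_sdiff_of_subset hsub, hX]
    rcases hc23 with ⟨rfl, rfl⟩ | ⟨rfl, rfl⟩ <;> ext c <;> simp <;> tauto
  have hD0 : ∀ {c}, c = a ∨ c = b → hl.D 1 c = 0 := fun {c} hc => hT.zero
    (by simp [(hmem hc).2.1, (hmem hc).2.2]) fun q => Pattern.mem_supp.1 (hmem hc).1 (q ▸ hT.out)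
  refine ⟨η₀, hη, χ₀, χ₁, χ₂, χ₃, e, r, h3, hr1, hseq, (hmem hm2).2.1.symm, (hmem hm3).2.1.symm,
    (hmem hm2).2.2.symm, (hmem hm3).2.2.symm, hne23, p2, p3, hD0 hm2, hD0 hm3, d2, d3, r0, ?_, r2, ?_, hRe, ?_⟩
  · show R χ₁ = _; rw [r1, neg_mul]
  · show R χ₃ = _; rw [r3, neg_mul]
  -- the other classes
  intro ξ hξ hξ' χ hχ η hη'
  have hnξ : ∀ η ∈ K.cls ξ, η ∉ K.cls hl.ext ∧ η ∉ K.cls η₀ := fun η hη =>
    ⟨fun hm => hξ (by rw [← K.cls_eq hm, K.cls_eq hη]; exact K.self_mem_cls ξ),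
      fun hm => hξ' (by rw [← K.cls_eq hm, K.cls_eq hη]; exact K.self_mem_cls ξ)⟩
  by_cases hs : K.Same (K.bar ξ) ξ
  · have hst := hl.stable_of_even hξ hs fun η₁ hη₁ hb χ hχ => by
      by_contra hc
      have hpar : ∀ η : IrrCharacter K.R, ¬ (2 : ℤ) ∣ K.a η χ → Odd (∑ ψ ∈ K.cls η, K.m ψ χ) := by
        intro η hη
        rw [Nat.odd_iff, ← Nat.two_dvd_ne_zero, ← ZMod.natCast_eq_zero_iff]
        rw [K.cast_a_eq_sum, ZMod.intCast_zmod_eq_zero_iff_dvd]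
        exact_mod_cast hη
      obtain ⟨i, θ, hfix, hsum', hone⟩ := K.exists_constituent_fixed hb
      have hno := hpar _ (hl.odd_of_mem_supp hχ)
      have hcom : ∀ {η : IrrCharacter K.R}, classInner (K.resR η) (θ : K.U → ℂ) ≠ 0 → η₁ ∈ K.cls η :=
        fun hne => K.mem_cls.2 (K.same_of_common (θ := θ) (by rw [hone]; exact one_ne_zero) hne)
      have hl' : θ ≠ K.lin l := fun q => (hnξ η₁ hη₁).1 (hcom (by
        rw [q, hl.resR_ext, classInner_irr_self]; exact one_ne_zero))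
      cases i with
      | true => exact hl' (K.eq_lin hl χ hno (hpar _ hc) (K.sum_m_lin hl χ) h.inv θ hfix (hsum' χ))
      | false =>
        rcases h.eq_tri χ hno (hpar _ hc) (K.sum_m_lin hl χ) θ hfix (hsum' χ) with q | q | q
        · exact hl' q
        · exact (hnξ η₁ hη₁).2 (hcom (by rw [q]; exact hη.inner₁))
        · exact (hnξ η₁ hη₁).2 (hcom (by rw [q]; exact hη.inner₂))
    rcases Finset.mem_insert.1 hχ with rfl | hχ
    · exact (h3.stable_e hξ fun c hc => (hst c hc).2).2 η hη'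
    · exact (hst χ hχ).2 ξ (K.self_mem_cls ξ) η hη'
  rcases Finset.mem_insert.1 hχ with rfl | hχ
  · exact (h3.moved hξ hs hη').1
  by_contra h0
  obtain ⟨w, hwne, -, -, -, hv⟩ := moved_supp hs hη' h0
  have eP : hl.P w = hl.P χ := hv _ (hl.sum_cross hξ (hnξ η hη').1 (K.opp_mem hl.ext))
  have eD : hl.D 1 w = hl.D 1 χ := hv _ (hl.sum_cross hξ (hnξ η hη').1 (K.mem_cls.2 (K.same_tw _ 1)))
  have eR : R w = R χ := hv _ (sum_cross_fixed hη.bar_eq (K.opp_mem η₀) hξ' (hnξ η hη').2)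
  have hw : w ∈ Pattern.supp hl.P := Pattern.mem_supp.2 (eP ▸ Pattern.mem_supp.1 hχ)
  have hp : ∀ {c}, c ∈ Pattern.supp hl.P → hl.P c ≠ 0 := fun hc => Pattern.mem_supp.1 hc
  have n0 := hp h3.mem₀
  have n1 := hp h3.mem₁
  have D0 := hT.eqP χ₀ (by simp)
  have D1 := hT.eqP χ₁ (by simp)
  have D2 := hD0 hm2
  have D3 := hD0 hm3
  rw [hseq] at hχ hw
  simp only [Finset.mem_insert, Finset.mem_singleton] at hχ hw
  rcases hχ with rfl | rfl | rfl | rfl <;> rcases hw with rfl | rfl | rfl | rfl <;>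
    first
      | exact hwne rfl
      | (rw [D0, D2] at eD; omega)
      | (rw [D0, D3] at eD; omega)
      | (rw [D1, D2] at eD; omega)
      | (rw [D1, D3] at eD; omega)
      | (rw [r0, r1, eP] at eR; rcases hr1 with q | q <;> rw [q] at eR <;> omega)
      | (rw [r2, r3, eP] at eR; rcases hr1 with q | q <;> rw [q] at eR <;> omega)

end Ctx

end CfsgLib.GW.DLin
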