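import Cfsg.Agent.Lib.GW.Dne.Linear.Ctx
import Cfsg.Agent.Lib.CharDegree.Basic
import Cfsg.Agent.Lib.Char.Induced
import Cfsg.Agent.Lib.Char.Complete
import Cfsg.Agent.Lib.Blocks.KleinOrder

/-!
# Multiplicities of the characters of `R = U ⟨ρ⟩`

`m ξ χ` is the multiplicity of `ξ` in the restriction of `χ` to `R`; differences of multiplicities of
characters with the same restriction to `U` have inner products read off in `R`.
-/

set_option autoImplicit false

open scoped Classical

namespace CfsgLib.GW.DLin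

open Subgroup DihedralGroup Cfsg CfsgLib.Char CfsgLib.CharDegree CfsgLib.Blocks
open scoped ComplexConjugate
open CfsgLib.Signalizer (involution_sq involution_inv involution_ne_one orderOf_conj)

universe v

namespace Ctx

variable {G : Type v} [Group G] [Fintype G] (K : Ctx G)

/-- An involution of `R` is `t`. -/
theorem eq_t_of_involution {y : G} (hy : y ∈ K.R) (ho : orderOf y = 2) : y = K.t := by
  obtain ⟨a, ha, i, rfl⟩ := hy
  have h2 := involution_sq ho
  have h : a * (K.F (r i) * a * (K.F (r i))⁻¹) * K.F (r (i + i)) = 1 * K.F (r 0) := by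
    rw [r_zero, map_one, mul_one, ← r_mul_r, map_mul]
    refine Eq.trans ?_ h2
    group
  obtain ⟨h3, h4⟩ := K.eq_of_mul_eq (mul_mem ha (K.conj_mem (K.comm_F _) ha)) (one_mem _) h
  rcases CfsgLib.TwoGroups.Dihedral.sq_eq_one_r K.one_le (t := i)
    (by rw [r_mul_r, h4, r_zero]) with e | e
  · rw [e, map_one, mul_one] at ho
    exact absurd (K.odd_of_mem ha) (by rw [ho]; decide)
  · rw [e] at h3 ⊢
    rw [show K.F (r (CfsgLib.TwoGroups.half K.n)) * a * (K.F (r (CfsgLib.TwoGroups.half K.n)))⁻¹ = a from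
      mul_inv_eq_iff_eq_mul.2 (K.comm_U ha).eq.symm] at h3
    rw [Two.Lin.eq_one_of_sq (K.odd_of_mem ha) h3, one_mul]
    rfl

/-- Elements of `R` outside `U` have `t` as a power. -/
theorem exists_pow {x : K.R} (hx : (x : G) ∉ K.U) : ∃ m : ℕ, (x : G) ^ m = K.t := by
  obtain ⟨k, a, ha, he⟩ := Nat.exists_eq_two_pow_mul_odd (orderOf_pos (x : G)).ne'
  rcases Nat.eq_zero_or_pos k with rfl | hk
  · exact absurd (K.mem_U (mem_centralizer_singleton_iff.1 (K.R_le x.2))
      (by rw [he, pow_zero, one_mul]; exact ha)) hx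
  refine ⟨2 ^ (k - 1) * a, K.eq_t_of_involution (pow_mem x.2 _) ?_⟩
  rw [orderOf_pow_of_dvd (mul_ne_zero (pow_ne_zero _ two_ne_zero) ha.pos.ne')
    (he ▸ mul_dvd_mul_right (pow_dvd_pow 2 (Nat.sub_le _ _)) _), he, Nat.mul_div_mul_right _ _ ha.pos,
    Nat.pow_div (Nat.sub_le _ _) two_pos, Nat.sub_sub_self hk, pow_one]

/-- `R - U` is a trivial intersection set for `C(t)`. -/
theorem commute_of_conj_mem {x : K.R} (hx : (x : G) ∉ K.U) {a : G} (ha : a * x * a⁻¹ ∈ K.R) :
    Commute a K.t := by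
  obtain ⟨m, hm⟩ := K.exists_pow hx
  refine mul_inv_eq_iff_eq_mul.1 (K.eq_t_of_involution ?_ (by rw [orderOf_conj]; exact K.ht))
  rw [← hm, ← conj_pow]
  exact pow_mem ha m

theorem conj_notMem_U {x : K.R} (hx : (x : G) ∉ K.U) {a : G} (hc : Commute a K.t) :
    a * x * a⁻¹ ∉ K.U := fun h => hx (by
  have := K.conj_mem hc.inv_left h
  rwa [inv_inv, show a⁻¹ * (a * (x : G) * a⁻¹) * a = x by group] at this)

/-- Sum over `C(t) = R ∪ R w`. -/
theorem sum_centralizer {M : Type*} [AddCommMonoid M] (f : G → M) :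
    ∑ a ∈ Finset.univ.filter (fun a : G => Commute a K.t), f a =
      (∑ z : K.R, f z) + ∑ z : K.R, f ((z : G) * K.w false) := by
  rw [← Finset.sum_filter_add_sum_filter_not (Finset.univ.filter fun a : G => Commute a K.t)
    (fun a => a ∈ K.R) f]
  congr 1
  · rw [Finset.filter_filter]
    refine Finset.sum_bij' (fun a ha => ⟨a, (Finset.mem_filter.1 ha).2.2⟩) (fun z _ => (z : G))
      (fun _ _ => Finset.mem_univ _) (fun z _ => Finset.mem_filter.2
        ⟨Finset.mem_univ _, mem_centralizer_singleton_iff.1 (K.R_le z.2), z.2⟩)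
      (fun _ _ => rfl) (fun _ _ => rfl) fun _ _ => rfl
  · rw [Finset.filter_filter]
    have hw : K.w false ∉ K.R := fun h => by
      obtain ⟨i, hi⟩ := (K.mem_R_iff ⟨K.w false, K.R_le h⟩).1 h
      rw [K.proj_w] at hi
      cases hi
    have hmem : ∀ {a : G}, Commute a K.t → a ∉ K.R → a * K.w false ∈ K.R := by
      intro a hc ha
      have h2 : Commute (a * K.w false) K.t := hc.mul_left (K.commute_w false)
      refine (K.mem_R_iff ⟨_, mem_centralizer_singleton_iff.2 h2⟩).2 ?_
      rw [show (⟨_, mem_centralizer_singleton_iff.2 h2⟩ : centralizer ({K.t} : Set G)) =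
        ⟨a, mem_centralizer_singleton_iff.2 hc⟩ * ⟨K.w false, mem_centralizer_singleton_iff.2 (K.commute_w false)⟩
        from Subtype.ext rfl, map_mul, K.proj_w]
      rcases hs : K.proj ⟨a, mem_centralizer_singleton_iff.2 hc⟩ with i | i
      · exact absurd ((K.mem_R_iff ⟨a, mem_centralizer_singleton_iff.2 hc⟩).2 ⟨i, hs⟩) ha
      · exact ⟨_, sr_mul_sr _ _⟩
    refine Finset.sum_bij' (fun a ha => ⟨a * K.w false, hmem (Finset.mem_filter.1 ha).2.1
        (Finset.mem_filter.1 ha).2.2⟩) (fun z _ => (z : G) * K.w false)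
      (fun _ _ => Finset.mem_univ _) (fun z _ => Finset.mem_filter.2 ⟨Finset.mem_univ _,
        Commute.mul_left (mem_centralizer_singleton_iff.1 (K.R_le z.2)) (K.commute_w false),
        fun h => hw ((mul_mem_cancel_left z.2).1 h)⟩)
      (fun a _ => by simp [mul_assoc, K.w_sq]) (fun z _ => Subtype.ext (by simp [mul_assoc, K.w_sq]))
      fun a _ => by simp [mul_assoc, K.w_sq]

/-- Conjugation of characters of `R` by the reflection. -/
noncomputable def bar (ξ : IrrCharacter K.R) : IrrCharacter K.R :=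
  ⟨_, IsIrr.comp_surjective (χ := (ξ : K.R → ℂ)) K.conjR (fun x => ⟨_, K.conjR_conjR x⟩) ξ.2⟩

theorem bar_apply (ξ : IrrCharacter K.R) (x : K.R) : (K.bar ξ : K.R → ℂ) x = (ξ : K.R → ℂ) (K.conjR x) :=
  rfl

theorem bar_bar (ξ : IrrCharacter K.R) : K.bar (K.bar ξ) = ξ :=
  irr_ext fun x => by rw [bar_apply, bar_apply, conjR_conjR]

/-- Twist by a power of `nu`. -/
noncomputable def tw (ξ : IrrCharacter K.R) (i : ℕ) : IrrCharacter K.R := CharDegree.twist ξ (K.nu ^ i)

theorem tw_apply (ξ : IrrCharacter K.R) (i : ℕ) (x : K.R) :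
    (K.tw ξ i : K.R → ℂ) x = (ξ : K.R → ℂ) x * (K.nu x : ℂ) ^ i := by
  rw [tw, twist_apply, MonoidHom.pow_apply, Units.val_pow_eq_pow_val]

/-- The same restriction to `U`. -/
def Same (ξ η : IrrCharacter K.R) : Prop :=
  ∀ x : K.R, (x : G) ∈ K.U → (ξ : K.R → ℂ) x = (η : K.R → ℂ) x

theorem Same.symm {ξ η : IrrCharacter K.R} (h : K.Same ξ η) : K.Same η ξ := fun x hx => (h x hx).symm

theorem Same.trans {ξ η ζ : IrrCharacter K.R} (h : K.Same ξ η) (h' : K.Same η ζ) : K.Same ξ ζ :=
  fun x hx => (h x hx).trans (h' x hx)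

theorem same_tw (ξ : IrrCharacter K.R) (i : ℕ) : K.Same (K.tw ξ i) ξ := fun x hx => by
  rw [tw_apply, (K.nu_eq_one_iff x).2 hx, Units.val_one, one_pow, mul_one]

theorem Same.bar {ξ η : IrrCharacter K.R} (h : K.Same ξ η) : K.Same (K.bar ξ) (K.bar η) := fun x hx =>
  h _ (by rw [conjR_apply]; exact K.conj_mem (K.commute_w false) hx)

/-- The inner product of restrictions to `U`. -/
theorem sum_U_eq (η ξ : IrrCharacter K.R) :
    (2 ^ K.n : ℂ) * ∑ x ∈ Finset.univ.filter (fun x : K.R => (x : G) ∈ K.U),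
        (η : K.R → ℂ) x * conj ((ξ : K.R → ℂ) x) =
      (Nat.card K.R : ℂ) * ∑ i ∈ Finset.range (2 ^ K.n), if η = K.tw ξ i then 1 else 0 := by
  have h : ∀ i, (if η = K.tw ξ i then (1 : ℂ) else 0) = classInner (η : K.R → ℂ) (K.tw ξ i : K.R → ℂ) :=
    fun i => by rw [Char.classInner_irr]
  simp only [h, classInner, ← Finset.mul_sum, ← mul_assoc,
    mul_inv_cancel₀ (Nat.cast_ne_zero.2 Nat.card_pos.ne' : (Nat.card K.R : ℂ) ≠ 0), one_mul]
  rw [Finset.sum_comm, Finset.mul_sum, Finset.sum_filter]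
  refine Finset.sum_congr rfl fun x _ => ?_
  have h2 : ∀ i, (η : K.R → ℂ) x * conj ((K.tw ξ i : K.R → ℂ) x) =
      (η : K.R → ℂ) x * conj ((ξ : K.R → ℂ) x) * conj ((K.nu x : ℂ) ^ i) := fun i => by
    rw [tw_apply, map_mul]; ring
  simp only [h2, ← Finset.mul_sum, ← map_sum, K.sum_nu]
  split_ifs <;> simp [map_ofNat, mul_comm]

/-- Characters with the same restriction to `U` are twists of each other. -/
theorem Same.exists_tw {η ξ : IrrCharacter K.R} (h : K.Same η ξ) :
    ∃ i < 2 ^ K.n, η = K.tw ξ i := by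
  by_contra hc
  push Not at hc
  have h1 := K.sum_U_eq η ξ
  rw [Finset.sum_eq_zero (s := Finset.range _) (fun i hi => if_neg (hc i (Finset.mem_range.1 hi))),
    mul_zero, mul_eq_zero, or_iff_right (pow_ne_zero _ two_ne_zero)] at h1
  have h2 : (0 : ℝ) < ∑ x ∈ Finset.univ.filter (fun x : K.R => (x : G) ∈ K.U),
      Complex.normSq ((ξ : K.R → ℂ) x) := by
    refine lt_of_lt_of_le (Complex.normSq_pos.2 (IsIrr.apply_one_ne_zero ξ.2))
      (Finset.single_le_sum (fun x _ => Complex.normSq_nonneg _)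
        (Finset.mem_filter.2 ⟨Finset.mem_univ _, one_mem K.U⟩))
  refine h2.ne' (Complex.ofReal_injective ?_)
  rw [Complex.ofReal_zero, Complex.ofReal_sum, ← h1]
  refine Finset.sum_congr rfl fun x hx => ?_
  rw [h x (Finset.mem_filter.1 hx).2, Complex.normSq_eq_conj_mul_self, mul_comm]

/-! ## Multiplicities -/

theorem exists_mult (ξ : IrrCharacter K.R) (χ : IrrCharacter G) :
    ∃ k : ℕ, classInner (fun x : K.R => (χ : G → ℂ) x) (ξ : K.R → ℂ) = k :=
  IsChar.classInner_eq_natCast (IsChar.restrict K.R (IsIrr.isCharacter χ.2)) (IsIrr.isCharacter ξ.2)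

/-- The multiplicity of `ξ` in `χ`. -/
noncomputable def m (ξ : IrrCharacter K.R) (χ : IrrCharacter G) : ℕ := (K.exists_mult ξ χ).choose

theorem m_eq (ξ : IrrCharacter K.R) (χ : IrrCharacter G) :
    classInner (fun x : K.R => (χ : G → ℂ) x) (ξ : K.R → ℂ) = K.m ξ χ := (K.exists_mult ξ χ).choose_spec

theorem m_bar (ξ : IrrCharacter K.R) (χ : IrrCharacter G) : K.m (K.bar ξ) χ = K.m ξ χ := by
  refine Nat.cast_injective (R := ℂ) ?_
  rw [← m_eq, ← m_eq, classInner, classInner]
  congr 1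
  refine Fintype.sum_equiv ⟨K.conjR, K.conjR, K.conjR_conjR, K.conjR_conjR⟩ _ _ fun x => ?_
  show _ = (χ : G → ℂ) (K.conjR x : G) * _
  rw [conjR_apply, IsIrr.isClassFunction χ.2 _ (K.w false), bar_apply]
  rfl

theorem apply_eq_sum [Fintype (IrrCharacter K.R)] (χ : IrrCharacter G) (x : K.R) :
    (χ : G → ℂ) x = ∑ ξ : IrrCharacter K.R, (K.m ξ χ : ℂ) * (ξ : K.R → ℂ) x := by
  rw [classFunction_apply_eq_sum (θ := fun x : K.R => (χ : G → ℂ) x)
    (IsChar.isClassFunction (IsChar.restrict K.R (IsIrr.isCharacter χ.2))) x]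
  simp only [K.m_eq]

/-- The difference of two multiplicities. -/
noncomputable def d (ξ ξ' : IrrCharacter K.R) (χ : IrrCharacter G) : ℤ := (K.m ξ χ : ℤ) - K.m ξ' χ

theorem d_cast (ξ ξ' : IrrCharacter K.R) (χ : IrrCharacter G) :
    (K.d ξ ξ' χ : ℂ) = (Nat.card K.R : ℂ)⁻¹ *
      ∑ x : K.R, (χ : G → ℂ) x * conj ((ξ : K.R → ℂ) x - (ξ' : K.R → ℂ) x) := by
  rw [d, Int.cast_sub, Int.cast_natCast, Int.cast_natCast, ← m_eq, ← m_eq, classInner, classInner, ← mul_sub,
    ← Finset.sum_sub_distrib]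
  simp only [map_sub, mul_sub]

variable [Fintype (IrrCharacter G)]

/-- Differences have degree zero. -/
theorem sum_degree_d {ξ ξ' : IrrCharacter K.R} (h : K.Same ξ ξ') :
    ∑ χ : IrrCharacter G, (charDegree (χ : G → ℂ) : ℤ) * K.d ξ ξ' χ = 0 := by
  have h0 : ((∑ χ : IrrCharacter G, (charDegree (χ : G → ℂ) : ℤ) * K.d ξ ξ' χ : ℤ) : ℂ) = 0 := by
    push_cast
    simp only [K.d_cast, Finset.mul_sum]
    rw [Finset.sum_comm]
    refine Finset.sum_eq_zero fun x _ => ?_
    by_cases hx : (x : G) ∈ K.U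
    · simp [h x hx]
    have hx1 : ¬ IsConj (1 : G) (x : G) := fun e => hx (by rw [isConj_one_right.1 e]; exact one_mem _)
    have hc := column_orthogonality (1 : G) (x : G)
    rw [if_neg hx1] at hc
    have hc' := congrArg conj hc
    simp only [map_sum, map_mul, Complex.conj_conj, map_zero, apply_one_eq_charDegree, map_natCast] at hc'
    calc _ = ((Nat.card K.R : ℂ)⁻¹ * conj ((ξ : K.R → ℂ) x - (ξ' : K.R → ℂ) x)) *
          ∑ χ : IrrCharacter G, (charDegree (χ : G → ℂ) : ℂ) * (χ : G → ℂ) x := by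
          rw [Finset.mul_sum]; exact Finset.sum_congr rfl fun χ _ => by ring
      _ = 0 := by rw [hc', mul_zero]
  exact_mod_cast h0

theorem conj_column (x : K.R) (y : K.R) :
    ∑ χ : IrrCharacter G, (χ : G → ℂ) x * conj ((χ : G → ℂ) y) =
      ∑ a : G, if a * (x : G) * a⁻¹ = y then 1 else 0 := by
  rw [column_orthogonality, Finset.sum_boole]
  split_ifs with h
  · obtain ⟨a₀, ha₀⟩ := isConj_iff.1 h
    rw [Nat.card_eq_fintype_card, Fintype.card_subtype]
    congr 1
    refine Finset.card_bij' (fun c _ => a₀ * c) (fun a _ => a₀⁻¹ * a) ?_ ?_ (fun _ _ => by group)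
      (fun _ _ => by group)
    · intro c hc
      have hc' : Commute c x := mem_centralizer_singleton_iff.1 (Finset.mem_filter.1 hc).2
      refine Finset.mem_filter.2 ⟨Finset.mem_univ _, ?_⟩
      rw [show a₀ * c * (x : G) * (a₀ * c)⁻¹ = a₀ * (c * x * c⁻¹) * a₀⁻¹ by group, hc'.eq,
        mul_inv_cancel_right, ha₀]
    · intro a ha
      refine Finset.mem_filter.2 ⟨Finset.mem_univ _, mem_centralizer_singleton_iff.2 ?_⟩
      refine mul_inv_eq_iff_eq_mul.1 ?_
      rw [show a₀⁻¹ * a * (x : G) * (a₀⁻¹ * a)⁻¹ = a₀⁻¹ * (a * x * a⁻¹) * a₀ by group,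
        (Finset.mem_filter.1 ha).2, ← ha₀]
      group
  · rw [Finset.card_eq_zero.2 (Finset.filter_eq_empty_iff.2 fun a _ e => h (isConj_iff.2 ⟨a, e⟩)),
      Nat.cast_zero]

/-- The inner products of differences. -/
theorem sum_d_mul_d {ξ ξ' : IrrCharacter K.R} (h : K.Same ξ ξ') (η η' : IrrCharacter K.R) :
    ∑ χ : IrrCharacter G, K.d ξ ξ' χ * K.d η η' χ =
      ((if ξ = η then 1 else 0) - (if ξ = η' then 1 else 0) - (if ξ' = η then 1 else 0) +
          (if ξ' = η' then 1 else 0)) +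
        ((if ξ = K.bar η then 1 else 0) - (if ξ = K.bar η' then 1 else 0) -
          (if ξ' = K.bar η then 1 else 0) + (if ξ' = K.bar η' then 1 else 0)) := by
  set c : ℂ := (Nat.card K.R : ℂ) with hc
  have hc0 : c ≠ 0 := Nat.cast_ne_zero.2 Nat.card_pos.ne'
  set f : K.R → ℂ := fun x => (ξ : K.R → ℂ) x - (ξ' : K.R → ℂ) x with hf
  set f' : K.R → ℂ := fun x => (η : K.R → ℂ) x - (η' : K.R → ℂ) x with hf'
  have hcls : ∀ (z x : K.R), f' (z * x * z⁻¹) = f' x := fun z x => by
    simp only [hf', IsIrr.isClassFunction η.2 x z, IsIrr.isClassFunction η'.2 x z]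
  have key : ∀ x : K.R, conj (f x) * ∑ y : K.R, f' y *
      ∑ χ : IrrCharacter G, (χ : G → ℂ) x * conj ((χ : G → ℂ) y) =
      conj (f x) * (c * f' x + c * f' (K.conjR x)) := by
    intro x
    by_cases hx : (x : G) ∈ K.U
    · simp [hf, h x hx]
    congr 1
    simp only [K.conj_column, Finset.mul_sum]
    rw [Finset.sum_comm, ← Finset.sum_filter_add_sum_filter_not Finset.univ (fun a : G => Commute a K.t),
      Finset.sum_eq_zero (s := Finset.univ.filter fun a : G => ¬ Commute a K.t) fun a ha => ?_, add_zero,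
      K.sum_centralizer]
    · refine congrArg₂ (· + ·) ?_ ?_
      · rw [Finset.sum_congr rfl fun z _ => ?_, Finset.sum_const, Finset.card_univ, nsmul_eq_mul,
          hc, Nat.card_eq_fintype_card]
        rw [Finset.sum_eq_single (z * x * z⁻¹)]
        · simp [hcls z x]
        · exact fun y _ hy => by rw [if_neg fun e => hy (Subtype.ext e.symm), mul_zero]
        · simp
      · rw [Finset.sum_congr rfl fun z _ => ?_, Finset.sum_const, Finset.card_univ, nsmul_eq_mul,
          hc, Nat.card_eq_fintype_card]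
        have hz : (z : G) * K.w false * x * ((z : G) * K.w false)⁻¹ = ((z * K.conjR x * z⁻¹ : K.R) : G) := by
          simp [conjR_apply, mul_assoc]
        rw [Finset.sum_eq_single (z * K.conjR x * z⁻¹)]
        · rw [if_pos hz, mul_one, hcls]
        · exact fun y _ hy => by rw [if_neg fun e => hy (Subtype.ext (hz ▸ e).symm), mul_zero]
        · simp
    · refine Finset.sum_eq_zero fun y _ => ?_
      rw [if_neg fun e => (Finset.mem_filter.1 ha).2 (K.commute_of_conj_mem hx (by rw [e]; exact y.2)), mul_zero]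
  have hinner : ∀ a b : IrrCharacter K.R, classInner (a : K.R → ℂ) (b : K.R → ℂ) =
      (if b = a then 1 else 0 : ℂ) := fun a b => by
    rw [Char.classInner_irr]
    by_cases e : a = b
    · simp [e]
    · simp [e, Ne.symm e]
  refine (Int.cast_injective (α := ℂ)) ?_
  push_cast
  simp only [← hinner]
  have hR : ∀ a b : ℤ, (a : ℂ) * (b : ℂ) = (a : ℂ) * conj (b : ℂ) := fun a b => by
    rw [map_intCast]
  calc ∑ χ : IrrCharacter G, (K.d ξ ξ' χ : ℂ) * (K.d η η' χ : ℂ)
      = c⁻¹ * c⁻¹ * ∑ x : K.R, conj (f x) * ∑ y : K.R, f' y *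
          ∑ χ : IrrCharacter G, (χ : G → ℂ) x * conj ((χ : G → ℂ) y) := by
        rw [Finset.sum_congr rfl fun χ _ => hR (K.d ξ ξ' χ) (K.d η η' χ)]
        simp only [K.d_cast, map_mul, map_inv₀, map_natCast, map_sum, Complex.conj_conj,
          Finset.mul_sum, Finset.sum_mul]
        rw [Finset.sum_comm]
        conv_rhs => rw [Finset.sum_comm]
        refine Finset.sum_congr rfl fun y _ => ?_
        rw [Finset.sum_comm]
        refine Finset.sum_congr rfl fun x _ => Finset.sum_congr rfl fun χ _ => ?_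
        simp only [hf, hf', hc]
        ring
    _ = c⁻¹ * c⁻¹ * ∑ x : K.R, conj (f x) * (c * f' x + c * f' (K.conjR x)) := by
        rw [Finset.sum_congr rfl fun x _ => key x]
    _ = _ := by
        simp only [classInner, Finset.mul_sum, ← Finset.sum_add_distrib, ← Finset.sum_sub_distrib]
        refine Finset.sum_congr rfl fun x _ => ?_
        simp only [hf, hf', bar_apply, map_sub, ← hc]
        field_simp
        ring

end Ctx

end CfsgLib.GW.DLin
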